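import Mathlib
import Cfsg.Prelude.Def_OddOrderChar
import Cfsg.Agent.Lib.Helper26.GenChar

/-!
Basic lemmas for `Cfsg.zspan`, `Cfsg.zspanOn`, `Cfsg.IsLinearIsometryOn` (coherence vocabulary).
-/

set_option autoImplicit false
set_option linter.unusedSectionVars false
set_option linter.style.haveILetI false
set_option linter.unusedVariables false

namespace Cfsg.Agent.Lib.Helper26.Coherence

open Cfsg Cfsg.Agent.Lib.CT Cfsg.Agent.Lib.CT.Wedderburn Cfsg.Agent.Lib.Helper26.GenChar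
open scoped ComplexConjugate

universe u v

section Span

variable {X : Type u}

theorem mem_zspan {S : Set (X → ℂ)} {θ : X → ℂ} :
    θ ∈ zspan S ↔ θ ∈ (Submodule.span ℤ S : Submodule ℤ (X → ℂ)) := Iff.rfl

theorem subset_zspan {S : Set (X → ℂ)} {θ : X → ℂ} (h : θ ∈ S) : θ ∈ zspan S :=
  Submodule.subset_span h

theorem zspan_mono {S T : Set (X → ℂ)} (h : S ⊆ T) {θ : X → ℂ} (hθ : θ ∈ zspan S) :
    θ ∈ zspan T := Submodule.span_mono h hθ

theorem zero_mem_zspan (S : Set (X → ℂ)) : (0 : X → ℂ) ∈ zspan S := Submodule.zero_mem _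

theorem add_mem_zspan {S : Set (X → ℂ)} {a b : X → ℂ} (ha : a ∈ zspan S) (hb : b ∈ zspan S) :
    a + b ∈ zspan S := Submodule.add_mem _ ha hb

theorem zsmul_mem_zspan {S : Set (X → ℂ)} {a : X → ℂ} (n : ℤ) (ha : a ∈ zspan S) :
    n • a ∈ zspan S := Submodule.smul_mem _ n ha

theorem neg_mem_zspan {S : Set (X → ℂ)} {a : X → ℂ} (ha : a ∈ zspan S) :
    -a ∈ zspan S := Submodule.neg_mem _ ha

theorem sub_mem_zspan {S : Set (X → ℂ)} {a b : X → ℂ} (ha : a ∈ zspan S) (hb : b ∈ zspan S) :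
    a - b ∈ zspan S := Submodule.sub_mem _ ha hb

theorem zsmul_apply (n : ℤ) (f : X → ℂ) (x : X) : (n • f) x = (n : ℂ) * f x := by
  simp

theorem zsmul_eq_smul (n : ℤ) (f : X → ℂ) : n • f = (n : ℂ) • f := by
  funext x
  simp

end Span

section SpanOn

variable {X : Type u} [One X]

theorem mem_zspanOn {S : Set (X → ℂ)} {θ : X → ℂ} :
    θ ∈ zspanOn S {1}ᶜ ↔ θ ∈ zspan S ∧ θ 1 = 0 := by
  constructor
  · rintro ⟨h1, h2⟩
    exact ⟨h1, h2 1 (by simp)⟩
  · rintro ⟨h1, h2⟩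
    refine ⟨h1, fun x hx => ?_⟩
    have : x = 1 := by simpa using hx
    rw [this, h2]

theorem zspanOn_mono {S T : Set (X → ℂ)} (h : S ⊆ T) {θ : X → ℂ} (hθ : θ ∈ zspanOn S {1}ᶜ) :
    θ ∈ zspanOn T {1}ᶜ := by
  rw [mem_zspanOn] at hθ ⊢
  exact ⟨zspan_mono h hθ.1, hθ.2⟩

theorem zero_mem_zspanOn (S : Set (X → ℂ)) : (0 : X → ℂ) ∈ zspanOn S {1}ᶜ :=
  mem_zspanOn.mpr ⟨zero_mem_zspan S, rfl⟩

theorem add_mem_zspanOn {S : Set (X → ℂ)} {a b : X → ℂ} (ha : a ∈ zspanOn S {1}ᶜ)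
    (hb : b ∈ zspanOn S {1}ᶜ) : a + b ∈ zspanOn S {1}ᶜ := by
  rw [mem_zspanOn] at ha hb ⊢
  exact ⟨add_mem_zspan ha.1 hb.1, by rw [Pi.add_apply, ha.2, hb.2, add_zero]⟩

theorem zsmul_mem_zspanOn {S : Set (X → ℂ)} {a : X → ℂ} (n : ℤ) (ha : a ∈ zspanOn S {1}ᶜ) :
    n • a ∈ zspanOn S {1}ᶜ := by
  rw [mem_zspanOn] at ha ⊢
  exact ⟨zsmul_mem_zspan n ha.1, by rw [zsmul_apply, ha.2, mul_zero]⟩

theorem neg_mem_zspanOn {S : Set (X → ℂ)} {a : X → ℂ} (ha : a ∈ zspanOn S {1}ᶜ) :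
    -a ∈ zspanOn S {1}ᶜ := by
  rw [mem_zspanOn] at ha ⊢
  exact ⟨neg_mem_zspan ha.1, by rw [Pi.neg_apply, ha.2, neg_zero]⟩

theorem sub_mem_zspanOn {S : Set (X → ℂ)} {a b : X → ℂ} (ha : a ∈ zspanOn S {1}ᶜ)
    (hb : b ∈ zspanOn S {1}ᶜ) : a - b ∈ zspanOn S {1}ᶜ := by
  rw [sub_eq_add_neg]
  exact add_mem_zspanOn ha (neg_mem_zspanOn hb)

end SpanOn

section Isometry

variable {L : Type u} [Group L] [Fintype L] {G : Type v} [Group G] [Fintype G]

/-- A set of functions closed under the operations of a `ℤ`-module. -/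
structure IsZSub (E : Set (L → ℂ)) : Prop where
  zero : (0 : L → ℂ) ∈ E
  add : ∀ a ∈ E, ∀ b ∈ E, a + b ∈ E
  zsmul : ∀ (n : ℤ), ∀ a ∈ E, n • a ∈ E

theorem isZSub_zspan (S : Set (L → ℂ)) : IsZSub (zspan S) :=
  ⟨zero_mem_zspan S, fun _ ha _ hb => add_mem_zspan ha hb, fun n _ ha => zsmul_mem_zspan n ha⟩

theorem isZSub_zspanOn (S : Set (L → ℂ)) : IsZSub (zspanOn S {1}ᶜ) :=
  ⟨zero_mem_zspanOn S, fun _ ha _ hb => add_mem_zspanOn ha hb, fun n _ ha => zsmul_mem_zspanOn n ha⟩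

variable {E : Set (L → ℂ)} {f : (L → ℂ) → (G → ℂ)}

theorem iso_add (h : IsLinearIsometryOn E f) {a b : L → ℂ} (ha : a ∈ E) (hb : b ∈ E) :
    f (a + b) = f a + f b := h.1 a ha b hb

theorem iso_zsmul (h : IsLinearIsometryOn E f) (n : ℤ) {a : L → ℂ} (ha : a ∈ E) :
    f (n • a) = n • f a := h.2.1 a ha n

theorem iso_inner (h : IsLinearIsometryOn E f) {a b : L → ℂ} (ha : a ∈ E) (hb : b ∈ E) :
    classInner (f a) (f b) = classInner a b := h.2.2.1 a ha b hb

theorem iso_gen (h : IsLinearIsometryOn E f) {a : L → ℂ} (ha : a ∈ E) :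
    IsGeneralizedCharacter G (f a) := h.2.2.2 a ha

theorem iso_zero (hE : IsZSub E) (h : IsLinearIsometryOn E f) : f 0 = 0 := by
  have := iso_zsmul h 0 hE.zero
  simpa using this

theorem iso_neg (hE : IsZSub E) (h : IsLinearIsometryOn E f) {a : L → ℂ} (ha : a ∈ E) :
    f (-a) = - f a := by
  have := iso_zsmul h (-1) ha
  simpa using this

theorem iso_sub (hE : IsZSub E) (h : IsLinearIsometryOn E f) {a b : L → ℂ} (ha : a ∈ E)
    (hb : b ∈ E) : f (a - b) = f a - f b := by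
  have hnb : -b ∈ E := by
    have := hE.zsmul (-1) b hb
    simpa using this
  rw [sub_eq_add_neg, iso_add h ha hnb, iso_neg hE h hb, sub_eq_add_neg]

end Isometry

section Irr

variable {L : Type u} [Group L] [Fintype L]

/-- Values at `1` of integer combinations of irreducible characters are integers. -/
theorem exists_int_apply_one {S : Set (L → ℂ)} (hirr : ∀ ξ ∈ S, IsIrrCharacter L ξ) {a : L → ℂ}
    (ha : a ∈ zspan S) : ∃ m : ℤ, a 1 = m := by
  induction ha using Submodule.span_induction with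
  | mem x hx =>
    obtain ⟨n, -, hn⟩ := irr_exists_apply_one_pos (hirr x hx)
    exact ⟨n, by rw [hn]; simp⟩
  | zero => exact ⟨0, by simp⟩
  | add x y _ _ hx hy =>
    obtain ⟨m, hm⟩ := hx
    obtain ⟨m', hm'⟩ := hy
    exact ⟨m + m', by rw [Pi.add_apply, hm, hm']; push_cast; rfl⟩
  | smul n x _ hx =>
    obtain ⟨m, hm⟩ := hx
    exact ⟨n * m, by rw [zsmul_apply, hm]; push_cast; rfl⟩

theorem irr_inner {χ ψ : L → ℂ} (hχ : IsIrrCharacter L χ) (hψ : IsIrrCharacter L ψ) :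
    classInner χ ψ = if χ = ψ then 1 else 0 := by
  have h := irr_orthonormal (⟨χ, hχ⟩ : IrrCharacter L) ⟨ψ, hψ⟩
  rw [h]
  by_cases hc : χ = ψ
  · rw [if_pos hc, if_pos (Subtype.ext hc)]
  · rw [if_neg hc, if_neg (fun h' => hc (congrArg Subtype.val h'))]

theorem irr_inner_self {χ : L → ℂ} (hχ : IsIrrCharacter L χ) : classInner χ χ = 1 := by
  rw [irr_inner hχ hχ, if_pos rfl]

theorem irr_inner_ne {χ ψ : L → ℂ} (hχ : IsIrrCharacter L χ) (hψ : IsIrrCharacter L ψ)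
    (hne : χ ≠ ψ) : classInner χ ψ = 0 := by
  rw [irr_inner hχ hψ, if_neg hne]

/-- Integer spans of disjoint sets of irreducible characters are orthogonal. -/
theorem inner_zspan_disjoint {X Y : Set (L → ℂ)} (hX : ∀ ξ ∈ X, IsIrrCharacter L ξ)
    (hY : ∀ ξ ∈ Y, IsIrrCharacter L ξ) (hXY : Disjoint X Y) {a b : L → ℂ} (ha : a ∈ zspan X)
    (hb : b ∈ zspan Y) : classInner a b = 0 := by
  induction ha using Submodule.span_induction with
  | mem x hx =>
    induction hb using Submodule.span_induction with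
    | mem y hy =>
      apply irr_inner_ne (hX x hx) (hY y hy)
      rintro rfl
      exact Set.disjoint_left.mp hXY hx hy
    | zero => exact classInner_zero_right _
    | add y z _ _ hy hz => rw [classInner_add_right, hy, hz, add_zero]
    | smul n y _ hy => rw [classInner_intCast_smul_right, hy, mul_zero]
  | zero => exact Orth.classInner_zero_left _
  | add x y _ _ hx hy => rw [Orth.classInner_add_left, hx, hy, add_zero]
  | smul n x _ hx => rw [classInner_intCast_smul_left, hx, mul_zero]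

end Irr

end Cfsg.Agent.Lib.Helper26.Coherence
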