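import Mathlib
import Cfsg.Agent.Lib.Helper93.S64Stmt

/-!
# S1364 piece GLUEB, core (helper26, second seat)

`main_of`: `GlueB` from the two landed results it needs (S1373: `|Ks|` is prime; S1365:
`M' = U M_σ` and `Ks ≤ M''`), taken as hypotheses of exactly the frozen types, so that this file
needs Mathlib and the statement file only.  `Cfsg.Agent.Lib.Helper26.S64GLUEB.main` plugs in
`Cfsg.Agent.S1373.result` and `Cfsg.Agent.S1365.result`.
-/

set_option autoImplicit false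

namespace Cfsg.Agent.Lib.Helper26.S64GLUEBCore

universe u

open Cfsg.Agent.Lib.Helper93.S64Stmt

/-- the fixed points of `K` on `H ≤ M`, computed in `↥M` and in `G` -/
theorem map_inf_centralizer {G : Type u} [Group G] (M K : Subgroup G) (hKM : K ≤ M)
    (H : Subgroup ↥M) :
    (H ⊓ Subgroup.centralizer ((K.subgroupOf M : Subgroup ↥M) : Set ↥M)).map M.subtype =
      H.map M.subtype ⊓ Subgroup.centralizer (K : Set G) := by
  ext x
  rw [Subgroup.mem_map, Subgroup.mem_inf, Subgroup.mem_map]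
  constructor
  · rintro ⟨y, hy, rfl⟩
    rw [Subgroup.mem_inf] at hy
    obtain ⟨hyH, hyC⟩ := hy
    refine ⟨⟨y, hyH, rfl⟩, ?_⟩
    rw [Subgroup.mem_centralizer_iff] at hyC ⊢
    intro k hk
    exact congrArg Subtype.val (hyC ⟨k, hKM hk⟩ (Subgroup.mem_subgroupOf.mpr hk))
  · rintro ⟨⟨y, hyH, rfl⟩, hC⟩
    refine ⟨y, Subgroup.mem_inf.mpr ⟨hyH, ?_⟩, rfl⟩
    rw [Subgroup.mem_centralizer_iff] at hC ⊢
    intro r hr
    apply Subtype.ext
    exact hC r (Subgroup.mem_subgroupOf.mp hr)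

theorem main_of
    (h73 : ∀ {G : Type u} [Group G] [Finite G] (_ : Cfsg.IsMinSimpleOddOrder G)
      (M : Subgroup G) (_ : IsCoatom M) (K U : Subgroup G)
      (_ : Cfsg.IsSigmaDecomposition M K U) (_ : K ≠ ⊥) (_ : U = ⊥),
      (Nat.card ↥(Cfsg.sigmaCore M ⊓ Subgroup.centralizer (K : Set G))).Prime)
    (h65 : ∀ {G : Type u} [Group G] [Finite G] (_ : Cfsg.IsMinSimpleOddOrder G)
      (M : Subgroup G) (_ : IsCoatom M) (K U : Subgroup G)
      (_ : Cfsg.IsSigmaDecomposition M K U) (_ : K ≠ ⊥),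
      ⁅M, M⁆ = U ⊔ Cfsg.sigmaCore M ∧
        (Cfsg.sigmaCore M ⊓ Subgroup.centralizer (K : Set G)) ≤ ⁅⁅M, M⁆, ⁅M, M⁆⁆) :
    GlueB.{u} := by
  intro G _ _ hG M K U hM hKU hK1 hU
  have hKM : K ≤ M := hKU.hall.1
  have hset : (Cfsg.piCore (Cfsg.sigma M) ↥M ⊓
      Subgroup.centralizer ((K.subgroupOf M : Subgroup ↥M) : Set ↥M)).map M.subtype =
      Cfsg.sigmaCore M ⊓ Subgroup.centralizer (K : Set G) :=
    map_inf_centralizer M K hKM (Cfsg.piCore (Cfsg.sigma M) ↥M)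
  refine ⟨h73 hG M hM K U hKU hK1 hU, ?_, ?_⟩
  · rw [← hset]
    exact (Subgroup.card_map_of_injective M.subtype_injective).symm
  · intro y hy
    have h1 : (y : G) ∈ Cfsg.sigmaCore M ⊓ Subgroup.centralizer (K : Set G) := by
      rw [← hset]
      exact Subgroup.mem_map_of_mem _ hy
    obtain ⟨hMM, hder⟩ := h65 hG M hM K U hKU hK1
    have h2 := hder h1
    rw [hMM, hU, bot_sup_eq] at h2
    have h3 : ⁅Cfsg.sigmaCore M, Cfsg.sigmaCore M⁆ =
        (⁅Cfsg.piCore (Cfsg.sigma M) ↥M, Cfsg.piCore (Cfsg.sigma M) ↥M⁆).map M.subtype := by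
      rw [Subgroup.map_commutator]
      rfl
    rw [h3] at h2
    obtain ⟨z, hz, hzy⟩ := h2
    have h4 : z = y := Subtype.ext hzy
    rw [← h4]
    exact hz

end Cfsg.Agent.Lib.Helper26.S64GLUEBCore
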