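import Mathlib
import Cfsg.Agent.Lib.Helper30.CTIStmt

/-!
# S4064, piece Z2: the normalizer `H` of `M` is transitive on the points other than `H`

For involutions `u, u' ∉ H` pick `d ≠ 1` in `H ⊓ u' H u'⁻¹`, write `d = m₀ d₀` with `m₀ ∈ M`,
`d₀ ∈ H ⊓ u H u⁻¹`; the map `m ↦ m d₀ m⁻¹ d₀⁻¹` of `M` is injective, hence onto, so
`d = m d₀ m⁻¹` for some `m ∈ M`; then `d` fixes `H`, `u' H` and `m u H`, and two of them coincide.
-/

set_option autoImplicit false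

namespace Cfsg.Agent.Lib.Helper26.CTIZ2

open Cfsg.Agent.Lib.Helper30.CTIStmt

universe u

section
variable {G : Type u} [Group G]

theorem coe_eq_one_iff (H : Subgroup G) (g : G) :
    ((g : G) : G ⧸ H) = ((1 : G) : G ⧸ H) ↔ g ∈ H := by
  rw [QuotientGroup.eq, mul_one, inv_mem_iff]

theorem smul_coe' (H : Subgroup G) (a g : G) :
    a • ((g : G) : G ⧸ H) = ((a * g : G) : G ⧸ H) := rfl

/-- an element of `H ⊓ u H u⁻¹` fixes the point `u H` -/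
theorem fix_of_mem_DU (H : Subgroup G) (u d : G) (hd : d ∈ DU H u) :
    d • ((u : G) : G ⧸ H) = ((u : G) : G ⧸ H) := by
  obtain ⟨h, hh, rfl⟩ := Subgroup.mem_map.mp (Subgroup.mem_inf.mp hd).2
  rw [smul_coe', QuotientGroup.eq]
  have e : ((MulAut.conj u).toMonoidHom h * u)⁻¹ * u = h⁻¹ := by
    show (u * h * u⁻¹ * u)⁻¹ * u = h⁻¹
    group
  rw [e]
  exact H.inv_mem hh

end

theorem main : Z2.{u} := by
  intro G _ _ M zd z3 x y hx hy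
  obtain ⟨u, hu2, hux⟩ := zd.swap ((1 : G) : G ⧸ NM M) x (Ne.symm hx)
  obtain ⟨u', hu'2, hu'y⟩ := zd.swap ((1 : G) : G ⧸ NM M) y (Ne.symm hy)
  have ex : x = ((u : G) : G ⧸ NM M) := by rw [← hux, smul_coe', mul_one]
  have ey : y = ((u' : G) : G ⧸ NM M) := by rw [← hu'y, smul_coe', mul_one]
  have huH : u ∉ NM M := fun h => hx (by rw [ex]; exact (coe_eq_one_iff _ _).mpr h)
  have hu'H : u' ∉ NM M := fun h => hy (by rw [ey]; exact (coe_eq_one_iff _ _).mpr h)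
  -- a nontrivial element fixing `H` and `u' H`
  have hc : 2 ≤ Nat.card (DU (NM M) u') := by
    rw [zd.dcard u' hu'2 hu'H]
    exact zd.i2
  obtain ⟨d, hdD, hd1⟩ : ∃ d ∈ DU (NM M) u', d ≠ 1 := by
    haveI : Nontrivial ↥(DU (NM M) u') := Finite.one_lt_card_iff_nontrivial.mp (by omega)
    obtain ⟨⟨d, hd⟩, hne⟩ := exists_ne (1 : ↥(DU (NM M) u'))
    exact ⟨d, hd, fun h => hne (Subtype.ext h)⟩
  have hdH : d ∈ NM M := (Subgroup.mem_inf.mp hdD).1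
  obtain ⟨m₀, hm₀, d₀, hd₀, hdm⟩ := zd.hmd u hu2 huH d hdH
  have hd₀1 : d₀ ≠ 1 := by
    rintro rfl
    rw [mul_one] at hdm
    have h1 : d ∈ DU (NM M) u' ⊓ M := Subgroup.mem_inf.mpr ⟨hdD, hdm ▸ hm₀⟩
    rw [zd.dM u' hu'2 hu'H, Subgroup.mem_bot] at h1
    exact hd1 h1
  have hd₀H : d₀ ∈ NM M := (Subgroup.mem_inf.mp hd₀).1
  -- the map `m ↦ m d₀ m⁻¹ d₀⁻¹`
  have hmem : ∀ m ∈ M, m * d₀ * m⁻¹ * d₀⁻¹ ∈ M := by
    intro m hm
    have h1 : d₀ * m⁻¹ * d₀⁻¹ ∈ M :=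
      (Subgroup.mem_normalizer_iff.mp hd₀H m⁻¹).mp (M.inv_mem hm)
    have h2 : m * d₀ * m⁻¹ * d₀⁻¹ = m * (d₀ * m⁻¹ * d₀⁻¹) := by group
    rw [h2]
    exact M.mul_mem hm h1
  obtain ⟨f, hf⟩ : ∃ f : ↥M → ↥M, ∀ m : ↥M, ((f m : ↥M) : G) = m.1 * d₀ * m.1⁻¹ * d₀⁻¹ :=
    ⟨fun m => ⟨m.1 * d₀ * m.1⁻¹ * d₀⁻¹, hmem m.1 m.2⟩, fun _ => rfl⟩
  have hinj : Function.Injective f := by
    intro m n hmn
    have h1 : m.1 * d₀ * m.1⁻¹ * d₀⁻¹ = n.1 * d₀ * n.1⁻¹ * d₀⁻¹ := by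
      rw [← hf m, ← hf n, hmn]
    by_contra hne
    have hk : n.1⁻¹ * m.1 ∈ M := M.mul_mem (M.inv_mem n.2) m.2
    have hk1 : n.1⁻¹ * m.1 ≠ 1 := by
      intro h
      apply hne
      apply Subtype.ext
      exact (inv_mul_eq_one.mp h).symm
    have hcomm : d₀ ∈ Subgroup.centralizer ({n.1⁻¹ * m.1} : Set G) := by
      rw [Subgroup.mem_centralizer_iff]
      intro k hk'
      rw [Set.mem_singleton_iff] at hk'
      subst hk'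
      have h2 : m.1 * d₀ * m.1⁻¹ = n.1 * d₀ * n.1⁻¹ := mul_right_cancel h1
      calc n.1⁻¹ * m.1 * d₀ = n.1⁻¹ * (m.1 * d₀ * m.1⁻¹) * m.1 := by group
        _ = n.1⁻¹ * (n.1 * d₀ * n.1⁻¹) * m.1 := by rw [h2]
        _ = d₀ * (n.1⁻¹ * m.1) := by group
    have hd₀M : d₀ ∈ M := zd.cc _ hk hk1 hcomm
    have h3 : d₀ ∈ DU (NM M) u ⊓ M := Subgroup.mem_inf.mpr ⟨hd₀, hd₀M⟩
    rw [zd.dM u hu2 huH, Subgroup.mem_bot] at h3
    exact hd₀1 h3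
  have hsurj : Function.Surjective f := Finite.injective_iff_surjective.mp hinj
  obtain ⟨m, hm⟩ := hsurj ⟨m₀, hm₀⟩
  have hm' : m.1 * d₀ * m.1⁻¹ * d₀⁻¹ = m₀ := by
    rw [← hf m, hm]
  have hd : d = m.1 * d₀ * m.1⁻¹ := by
    rw [hdm, ← hm']
    group
  -- the three fixed points
  have fix1 : d • ((1 : G) : G ⧸ NM M) = ((1 : G) : G ⧸ NM M) := by
    rw [smul_coe', mul_one]
    exact (coe_eq_one_iff _ _).mpr hdH
  have fix2 : d • ((u' : G) : G ⧸ NM M) = ((u' : G) : G ⧸ NM M) := fix_of_mem_DU _ _ _ hdD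
  have fix3 : d • (m.1 • ((u : G) : G ⧸ NM M)) = m.1 • ((u : G) : G ⧸ NM M) := by
    have h0 := fix_of_mem_DU (NM M) u d₀ hd₀
    rw [hd, ← mul_smul]
    have h1 : m.1 * d₀ * m.1⁻¹ * m.1 = m.1 * d₀ := by group
    rw [h1, mul_smul, h0]
  have hmH : m.1 ∈ NM M := Subgroup.le_normalizer m.2
  refine ⟨m.1, hmH, ?_⟩
  rw [ex, ey]
  by_contra hne
  have h3 : m.1 • ((u : G) : G ⧸ NM M) ≠ ((1 : G) : G ⧸ NM M) := by
    intro h
    rw [smul_coe', coe_eq_one_iff] at h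
    have h4 : u = m.1⁻¹ * (m.1 * u) := by group
    exact huH (h4 ▸ (NM M).mul_mem ((NM M).inv_mem hmH) h)
  have h4 : ((1 : G) : G ⧸ NM M) ≠ ((u' : G) : G ⧸ NM M) := by
    rw [← ey]
    exact Ne.symm hy
  exact hd1 (z3 d ((1 : G) : G ⧸ NM M) ((u' : G) : G ⧸ NM M) (m.1 • ((u : G) : G ⧸ NM M))
    h4 (Ne.symm hne) (Ne.symm h3) fix1 fix2 fix3)

end Cfsg.Agent.Lib.Helper26.CTIZ2
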