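import Mathlib
import Cfsg.Agent.Lib.Helper32.D8Stmt
import Cfsg.Agent.Lib.CT.Ops
import Cfsg.Agent.Lib.CT.Clifford
import Cfsg.Agent.Lib.CT.Wedderburn
import Cfsg.Agent.Lib.Helper26.D8VALD

/-! S3716 piece MOD9 (from NF, IP, DUAL). -/

set_option autoImplicit false

namespace Cfsg.Agent.Lib.Helper26.D8MOD9

open Cfsg Cfsg.Agent.Lib.CT
open Cfsg.Agent.Lib.Helper32
open scoped ComplexConjugate

universe u

theorem sum_T {G : Type u} [Group G] [Fintype G] {T N : Subgroup G} {x y a b w : G}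
    (hNF : D8Stmt.NF.{u}) (hc : D8Stmt.Cfg T N x y a b w) (χ : G → ℂ)
    (cf : IsClassFunction G χ) [Fintype T] :
    ∑ t : T, χ (t : G) = χ 1 + 4 * χ x + 4 * χ (x * y) := by
  obtain ⟨hT, -⟩ := hNF hc
  let φ : Fin 3 × Fin 3 → T :=
    fun p => ⟨x ^ (p.1 : ℕ) * y ^ (p.2 : ℕ), (hT _).2 ⟨_, _, rfl⟩⟩
  have hsurj : Function.Surjective φ := by
    rintro ⟨t, ht⟩
    obtain ⟨i, j, rfl⟩ := (hT t).1 ht
    refine ⟨(⟨i % 3, Nat.mod_lt _ (by norm_num)⟩, ⟨j % 3, Nat.mod_lt _ (by norm_num)⟩), ?_⟩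
    apply Subtype.ext
    show x ^ (i % 3) * y ^ (j % 3) = x ^ i * y ^ j
    rw [← pow_eq_pow_mod i hc.x3, ← pow_eq_pow_mod j hc.y3]
  have hcard : Fintype.card (Fin 3 × Fin 3) = Fintype.card T := by
    rw [← Nat.card_eq_fintype_card (α := T), hc.cardT]
    simp
  have hbij : Function.Bijective φ :=
    (Fintype.bijective_iff_surjective_and_card φ).2 ⟨hsurj, hcard⟩
  rw [← Function.Bijective.sum_comp hbij (fun t : T => χ (t : G))]
  rw [Fintype.sum_prod_type]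
  have hx2 : x ^ 2 = x⁻¹ := by rw [eq_inv_iff_mul_eq_one, ← pow_succ, hc.x3]
  have hy2 : y ^ 2 = y⁻¹ := by rw [eq_inv_iff_mul_eq_one, ← pow_succ, hc.y3]
  have e_x2 : χ (x ^ 2) = χ x := by rw [hx2, ← hc.ax]; exact cf x a
  have e_y : χ y = χ x := by rw [← hc.wx]; exact cf x w
  have e_y2 : χ (y ^ 2) = χ x := by
    rw [hy2, ← hc.by_]; exact (cf y b).trans e_y
  have hb : b * (x * y) * b⁻¹ = x * y⁻¹ := by
    calc b * (x * y) * b⁻¹ = (b * x * b⁻¹) * (b * y * b⁻¹) := by group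
      _ = x * y⁻¹ := by rw [hc.by_, hc.bx, mul_inv_cancel_right]
  have e_xy2 : χ (x * y ^ 2) = χ (x * y) := by
    rw [hy2, ← hb]; exact cf _ b
  have ha : a * (x * y) * a⁻¹ = x⁻¹ * y := by
    calc a * (x * y) * a⁻¹ = (a * x * a⁻¹) * (a * y * a⁻¹) := by group
      _ = x⁻¹ * y := by rw [hc.ax, hc.ay, mul_inv_cancel_right]
  have e_x2y : χ (x ^ 2 * y) = χ (x * y) := by
    rw [hx2, ← ha]; exact cf _ a
  have ha' : a * (x * y⁻¹) * a⁻¹ = x⁻¹ * y⁻¹ := by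
    have hay : a * y⁻¹ * a⁻¹ = y⁻¹ := by
      have : a * y * a⁻¹ = y := by rw [hc.ay, mul_inv_cancel_right]
      calc a * y⁻¹ * a⁻¹ = (a * y * a⁻¹)⁻¹ := by group
        _ = y⁻¹ := by rw [this]
    calc a * (x * y⁻¹) * a⁻¹ = (a * x * a⁻¹) * (a * y⁻¹ * a⁻¹) := by group
      _ = x⁻¹ * y⁻¹ := by rw [hc.ax, hay]
  have e_x2y2 : χ (x ^ 2 * y ^ 2) = χ (x * y) := by
    rw [hx2, hy2, ← ha', cf _ a, ← hb]; exact cf _ b
  simp only [Fin.sum_univ_three, φ, Fin.val_zero, Fin.val_one, Fin.val_two, pow_zero, pow_one,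
    one_mul, mul_one]
  rw [e_x2, e_y, e_y2, e_xy2, e_x2y, e_x2y2]
  ring

theorem main (hNF : D8Stmt.NF.{u}) (hIP : D8Stmt.IP.{u}) (hDUAL : D8Stmt.DUAL.{u}) :
    D8Stmt.MOD9.{u} := by
  intro G _ _ T N x y a b w hc f g hom f' g' hom' χ hχ
  classical
  have hchar : IsCharacter G χ := Ops.IsIrrCharacter.isCharacter hχ
  have cf : IsClassFunction G χ := Wedderburn.char_isClassFunction hchar
  obtain ⟨hd, -⟩ := hDUAL hc
  obtain ⟨i1, i2⟩ := hIP hc f g hom χ cf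
  obtain ⟨i3, i4⟩ := hIP hd f' g' hom' χ cf
  have e1 : x * y * (x * y⁻¹) = a * x * a⁻¹ := D8VALD.grp_e1 hc.x3 hc.xy hc.ax
  rw [e1, cf x a] at i3 i4
  haveI : Fintype T := Fintype.ofFinite _
  obtain ⟨n, hn⟩ := Clifford.classInner_char_nat (Ops.isCharacter_restrict T hchar)
    (Ops.isCharacter_one (G := T))
  have hsum : ∑ t : T, χ (t : G) = 9 * n := by
    unfold classInner at hn
    simp only [map_one, mul_one] at hn
    rw [hc.cardT] at hn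
    have h9' : ((9 : ℕ) : ℂ) = 9 := by norm_num
    rw [h9'] at hn
    have h9 : (∑ t : T, χ (t : G)) = 9 * ((9 : ℂ)⁻¹ * ∑ t : T, χ (t : G)) := by
      rw [← mul_assoc, mul_inv_cancel₀ (by norm_num), one_mul]
    rw [h9, hn]
  rw [sum_T hNF hc χ cf] at hsum
  obtain ⟨d, hd1⟩ := Wedderburn.char_exists_apply_one hchar
  have hconj : χ 1 + 4 * conj (χ x) + 4 * conj (χ (x * y)) = 9 * n := by
    have h := congrArg conj hsum
    have h4 : conj (4 : ℂ) = 4 := map_ofNat _ 4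
    have h9c : conj (9 : ℂ) = 9 := map_ofNat _ 9
    rw [hd1] at h ⊢
    rw [map_add, map_add, map_mul, map_mul, map_mul, h4, h9c, map_natCast, map_natCast] at h
    exact h
  refine ⟨n, ?_⟩
  rw [i1, i2, i3, i4]
  push_cast
  linear_combination hconj

end Cfsg.Agent.Lib.Helper26.D8MOD9
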