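import Mathlib

/-!
# A simplicity criterion for a group of order 2^7 * 3^6 * 5 * 17 * 19 with centre of order 3

Abstract part of the proof that 3.J3 modulo its centre is simple: every normal subgroup not
contained in the scalars contains an element of order 19 (by certificates on explicit Sylow
subgroups), hence the two generators of order 19.  Helper26.
-/

set_option autoImplicit false

namespace Cfsg.Agent.Lib.Helper26.J3Abs

open scoped Pointwise

variable {G : Type*} [Group G] [Finite G]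

/-- if `p` divides `|G|` exactly once and divides `|N|`, `N` normal, then every `x` with
`x ^ p = 1` lies in `N` -/
theorem mem_of_pow_prime {p : ℕ} (hp : p.Prime) (hG : ¬ p ^ 2 ∣ Nat.card G) (N : Subgroup G)
    [N.Normal] (hN : p ∣ Nat.card N) (x : G) (hx : x ^ p = 1) : x ∈ N := by
  have hc : Nat.card G = Nat.card (G ⧸ N) * Nat.card N := Subgroup.card_eq_card_quotient_mul_card_subgroup N
  have hq : ¬ p ∣ Nat.card (G ⧸ N) := by
    intro h
    apply hG
    rw [hc, pow_two]
    exact Nat.mul_dvd_mul h hN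
  have h1 : orderOf (QuotientGroup.mk' N x) ∣ p := by
    apply orderOf_dvd_of_pow_eq_one
    rw [← map_pow, hx, map_one]
  have h2 : orderOf (QuotientGroup.mk' N x) ∣ Nat.card (G ⧸ N) := orderOf_dvd_natCard _
  rcases (Nat.dvd_prime hp).mp h1 with h | h
  · rw [orderOf_eq_one_iff] at h
    exact (QuotientGroup.eq_one_iff x).mp h
  · rw [h] at h2
    exact absurd h2 hq

/-- a subgroup of prime power order `p ^ k` with `p ^ (k+1)` not dividing `|G|` is a Sylow subgroup -/
def sylowOf {p : ℕ} [Fact p.Prime] (P : Subgroup G) (k : ℕ) (hP : Nat.card P = p ^ k)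
    (hG : ¬ p ^ (k + 1) ∣ Nat.card G) : Sylow p G where
  toSubgroup := P
  isPGroup' := IsPGroup.of_card hP
  is_maximal' := by
    intro Q hQ hPQ
    obtain ⟨n, hn⟩ := IsPGroup.iff_card.mp hQ
    have hdvd : p ^ n ∣ Nat.card G := hn ▸ Subgroup.card_subgroup_dvd_card Q
    have hnk : n ≤ k := by
      by_contra h
      push Not at h
      exact hG (dvd_trans (pow_dvd_pow p h) hdvd)
    have hle : Nat.card Q ≤ Nat.card P := by
      rw [hn, hP]
      exact Nat.pow_le_pow_right (Fact.out : p.Prime).pos hnk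
    exact (Subgroup.eq_of_le_of_card_ge hPQ hle).symm

theorem sylowOf_coe {p : ℕ} [Fact p.Prime] (P : Subgroup G) (k : ℕ) (hP : Nat.card P = p ^ k)
    (hG : ¬ p ^ (k + 1) ∣ Nat.card G) : ((sylowOf P k hP hG : Sylow p G) : Subgroup G) = P := rfl

/-- a `p`-subgroup is conjugate into a given subgroup of the full `p`-power order -/
theorem exists_conj_le {p : ℕ} [Fact p.Prime] (P : Subgroup G) (k : ℕ) (hP : Nat.card P = p ^ k)
    (hG : ¬ p ^ (k + 1) ∣ Nat.card G) (Q : Subgroup G) (hQ : IsPGroup p Q) :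
    ∃ g : G, ∀ x ∈ Q, g * x * g⁻¹ ∈ P := by
  obtain ⟨R, hR⟩ := hQ.exists_le_sylow
  obtain ⟨g, hg⟩ := MulAction.exists_smul_eq G R (sylowOf P k hP hG)
  refine ⟨g, fun x hx => ?_⟩
  have h1 : MulAut.conj g • x ∈ MulAut.conj g • (R : Subgroup G) :=
    Subgroup.smul_mem_pointwise_smul _ _ _ (hR hx)
  have h2 : MulAut.conj g • (R : Subgroup G) = P := by
    rw [← Sylow.coe_subgroup_smul, hg, sylowOf_coe]
  rw [h2] at h1
  simpa [MulAut.smul_def] using h1

theorem main
    (hcard : Nat.card G = 2 ^ 7 * 3 ^ 6 * 5 * 17 * 19)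
    (Zs : Subgroup G)
    (a b : G) (hab : Subgroup.closure {a, b} = ⊤) (ha : a ^ 19 = 1) (hb : b ^ 19 = 1)
    (x5 : G) (h5 : x5 ^ 5 = 1)
    (c5 : ∀ N : Subgroup G, N.Normal → x5 ∈ N → ∃ y ∈ N, orderOf y = 19)
    (x17 : G) (h17 : x17 ^ 17 = 1)
    (c17 : ∀ N : Subgroup G, N.Normal → x17 ∈ N → ∃ y ∈ N, orderOf y = 19)
    (P2 : Subgroup G) (hP2 : Nat.card P2 = 2 ^ 7)
    (c2 : ∀ t ∈ P2, orderOf t = 2 → ∀ N : Subgroup G, N.Normal → t ∈ N →
      ∃ y ∈ N, orderOf y = 5 ∨ orderOf y = 17 ∨ orderOf y = 19)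
    (P3 : Subgroup G) (hP3 : Nat.card P3 = 3 ^ 6)
    (c3 : ∀ x ∈ P3, x ∉ Zs → x ^ 3 ∈ Zs →
      ∀ N : Subgroup G, N.Normal → x ∈ N →
        ∃ y ∈ N, orderOf y = 5 ∨ orderOf y = 17 ∨ orderOf y = 19)
    (N : Subgroup G) (hN : N.Normal) : N ≤ Zs ∨ N = ⊤ := by
  by_cases hNZ : N ≤ Zs
  · exact Or.inl hNZ
  right
  have hp19 : Nat.Prime 19 := by norm_num
  have hp17 : Nat.Prime 17 := by norm_num
  have hp5 : Nat.Prime 5 := by norm_num
  have hp2 : Nat.Prime 2 := by norm_num
  have hp3 : Nat.Prime 3 := by norm_num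
  haveI : Fact (Nat.Prime 2) := ⟨hp2⟩
  haveI : Fact (Nat.Prime 3) := ⟨hp3⟩
  haveI : Fact (Nat.Prime 19) := ⟨hp19⟩
  have up : (∃ y ∈ N, orderOf y = 5 ∨ orderOf y = 17 ∨ orderOf y = 19) →
      ∃ y ∈ N, orderOf y = 19 := by
    rintro ⟨y, hyN, h | h | h⟩
    · have d5 : 5 ∣ Nat.card N := by rw [← h]; exact Subgroup.orderOf_dvd_natCard N hyN
      exact c5 N hN (mem_of_pow_prime hp5 (by rw [hcard]; norm_num) N d5 x5 h5)
    · have d17 : 17 ∣ Nat.card N := by rw [← h]; exact Subgroup.orderOf_dvd_natCard N hyN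
      exact c17 N hN (mem_of_pow_prime hp17 (by rw [hcard]; norm_num) N d17 x17 h17)
    · exact ⟨y, hyN, h⟩
  -- it suffices to find an element of order 19 in N
  have key : ∃ y ∈ N, orderOf y = 19 := by
    by_cases d19 : 19 ∣ Nat.card N
    · obtain ⟨y, hy⟩ := exists_prime_orderOf_dvd_card' (G := N) 19 d19
      exact ⟨y, y.2, by rw [← hy, Subgroup.orderOf_coe]⟩
    by_cases d17 : 17 ∣ Nat.card N
    · exact c17 N hN (mem_of_pow_prime hp17 (by rw [hcard]; norm_num) N d17 x17 h17)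
    by_cases d5 : 5 ∣ Nat.card N
    · exact c5 N hN (mem_of_pow_prime hp5 (by rw [hcard]; norm_num) N d5 x5 h5)
    by_cases d2 : 2 ∣ Nat.card N
    · obtain ⟨t, ht⟩ := exists_prime_orderOf_dvd_card' (G := N) 2 d2
      have ht' : orderOf (t : G) = 2 := by rw [Subgroup.orderOf_coe, ht]
      have hQ : IsPGroup 2 (Subgroup.zpowers (t : G)) :=
        IsPGroup.of_card (n := 1) (by rw [Nat.card_zpowers, ht', pow_one])
      obtain ⟨g, hg⟩ := exists_conj_le P2 7 hP2 (by rw [hcard]; norm_num) _ hQ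
      have h1 := hg (t : G) (Subgroup.mem_zpowers _)
      have h2 : orderOf (g * (t : G) * g⁻¹) = 2 := by
        rw [← ht']
        exact orderOf_injective (MulAut.conj g).toMonoidHom (MulAut.conj g).injective (t : G)
      exact up (c2 _ h1 h2 N hN (hN.conj_mem _ t.2 g))
    -- N is a 3-group
    have hdvd : Nat.card N ∣ 3 ^ 6 := by
      have h0 : Nat.card N ∣ 2 ^ 7 * 3 ^ 6 * 5 * 17 * 19 := hcard ▸ Subgroup.card_subgroup_dvd_card N
      have c19 : Nat.Coprime (Nat.card N) 19 := (Nat.Prime.coprime_iff_not_dvd hp19).mpr d19 |>.symm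
      have c17' : Nat.Coprime (Nat.card N) 17 := (Nat.Prime.coprime_iff_not_dvd hp17).mpr d17 |>.symm
      have c5' : Nat.Coprime (Nat.card N) 5 := (Nat.Prime.coprime_iff_not_dvd hp5).mpr d5 |>.symm
      have c2' : Nat.Coprime (Nat.card N) (2 ^ 7) :=
        Nat.Coprime.pow_right 7 ((Nat.Prime.coprime_iff_not_dvd hp2).mpr d2 |>.symm)
      have h1 := c19.dvd_of_dvd_mul_right h0
      have h2 := c17'.dvd_of_dvd_mul_right h1
      have h3 := c5'.dvd_of_dvd_mul_right h2
      exact c2'.dvd_of_dvd_mul_left h3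
    obtain ⟨k, _, hk⟩ := (Nat.dvd_prime_pow hp3).mp hdvd
    have hQ : IsPGroup 3 N := IsPGroup.of_card hk
    obtain ⟨g, hg⟩ := exists_conj_le P3 6 hP3 (by rw [hcard]; norm_num) _ hQ
    have hNP : N ≤ P3 := by
      intro x hx
      have h1 : g⁻¹ * x * g⁻¹⁻¹ ∈ N := hN.conj_mem x hx g⁻¹
      have h2 := hg _ h1
      have h3 : g * (g⁻¹ * x * g⁻¹⁻¹) * g⁻¹ = x := by group
      rwa [h3] at h2
    obtain ⟨x, hxN, hxZ⟩ := SetLike.not_le_iff_exists.mp hNZ
    have hex : ∃ j, x ^ 3 ^ j ∈ Zs := by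
      refine ⟨6, ?_⟩
      have h1 : (⟨x, hNP hxN⟩ : P3) ^ Nat.card P3 = 1 := pow_card_eq_one'
      have h2 : x ^ 3 ^ 6 = 1 := by
        rw [hP3] at h1
        exact congrArg Subtype.val h1
      rw [h2]
      exact Zs.one_mem
    classical
    have hj0 : Nat.find hex ≠ 0 := by
      intro h0
      have := Nat.find_spec hex
      rw [h0] at this
      simp at this
      exact hxZ this
    obtain ⟨j, hj⟩ := Nat.exists_eq_succ_of_ne_zero hj0
    have hmin : x ^ 3 ^ j ∉ Zs := Nat.find_min hex (by omega)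
    have hspec : (x ^ 3 ^ j) ^ 3 ∈ Zs := by
      have := Nat.find_spec hex
      rw [hj, pow_succ, pow_mul] at this
      exact this
    exact up (c3 _ (hNP (N.pow_mem hxN _)) hmin hspec N hN (N.pow_mem hxN _))
  obtain ⟨y, hyN, hy⟩ := key
  have d19 : 19 ∣ Nat.card N := by
    rw [← hy]
    exact Subgroup.orderOf_dvd_natCard N hyN
  have haN := mem_of_pow_prime hp19 (by rw [hcard]; norm_num) N d19 a ha
  have hbN := mem_of_pow_prime hp19 (by rw [hcard]; norm_num) N d19 b hb
  rw [eq_top_iff, ← hab, Subgroup.closure_le]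
  intro z hz
  rcases hz with rfl | rfl
  · exact haN
  · exact hbN

/-- the centre is `Zs` -/
theorem center_eq
    (Zs : Subgroup G) (hZs : Zs ≤ Subgroup.center G)
    (h' : ∀ N : Subgroup G, N.Normal → N ≤ Zs ∨ N = ⊤)
    (a b : G) (hnc : a * b ≠ b * a) : Subgroup.center G = Zs := by
  apply le_antisymm _ hZs
  rcases h' (Subgroup.center G) inferInstance with h1 | h1
  · exact h1
  · exfalso
    have : a ∈ Subgroup.center G := by rw [h1]; trivial
    exact hnc ((Subgroup.mem_center_iff.mp this b).symm)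

/-- the quotient by the centre is simple -/
theorem quot_simple (Zs : Subgroup G) (hZ : Subgroup.center G = Zs)
    (h' : ∀ N : Subgroup G, N.Normal → N ≤ Zs ∨ N = ⊤)
    (hnt : Nat.card (Subgroup.center G) < Nat.card G) :
    IsSimpleGroup (G ⧸ Subgroup.center G) := by
  have hc : Nat.card G = Nat.card (G ⧸ Subgroup.center G) * Nat.card (Subgroup.center G) :=
    Subgroup.card_eq_card_quotient_mul_card_subgroup _
  haveI : Nontrivial (G ⧸ Subgroup.center G) := by
    rw [← Finite.one_lt_card_iff_nontrivial]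
    by_contra hlt
    push Not at hlt
    have hpos : 0 < Nat.card (G ⧸ Subgroup.center G) := Nat.card_pos
    have : Nat.card (G ⧸ Subgroup.center G) = 1 := by omega
    rw [this, one_mul] at hc
    omega
  refine ⟨fun H hH => ?_⟩
  have hn : (H.comap (QuotientGroup.mk' (Subgroup.center G))).Normal := hH.comap _
  rcases h' _ hn with h1 | h1
  · left
    rw [eq_bot_iff]
    intro q hq
    obtain ⟨g, rfl⟩ := QuotientGroup.mk'_surjective _ q
    have : g ∈ Zs := h1 hq
    rw [← hZ] at this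
    rw [Subgroup.mem_bot]
    exact (QuotientGroup.eq_one_iff g).mpr this
  · right
    rw [eq_top_iff]
    intro q _
    obtain ⟨g, rfl⟩ := QuotientGroup.mk'_surjective _ q
    have : g ∈ H.comap (QuotientGroup.mk' (Subgroup.center G)) := by rw [h1]; trivial
    exact this

end Cfsg.Agent.Lib.Helper26.J3Abs
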