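import Mathlib
import Cfsg.Agent.Lib.Helper8.GFZ1BStmt

/-!
# S5886 / Z1B sub-piece CONJ2 (helper26, second seat): the commutator with a dilation
-/

set_option autoImplicit false

namespace Cfsg.Agent.Lib.Helper26.GFZ1BCONJ2

open Cfsg.Agent.Lib.Helper40.GFStmt Cfsg.Agent.Lib.Helper8.GFZ1BStmt

universe u

theorem main : Conj2.{u} := by
  intro F L _ _ _ _ c hF h v v₂ ψ χ A D X hd A' κ lam hA' hmul hκ hD hlam
  have hone : ∀ s : F, s ≠ 0 → s = 1 := by
    intro s hs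
    obtain ⟨y, -, hy⟩ := (Nat.card_eq_two_iff' (0 : F)).mp hF
    rw [hy s hs, hy 1 one_ne_zero]
  have hnorm : ∀ a : L, a ≠ 0 → Algebra.norm F a = 1 := fun a ha =>
    hone _ (by rw [Ne, Algebra.norm_eq_zero_iff]; exact ha)
  have hμ0 : A lam ≠ 0 := by
    intro h0
    apply hlam
    apply hd.Ainj
    rw [map_zero]
    exact h0
  have hψab : ∀ a b : L, ψ (a • v + b • v₂) = b := by
    intro a b
    rw [map_add, map_smul, map_smul, hd.psi_v, hd.psi_v2, smul_zero, zero_add, smul_eq_mul,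
      mul_one]
  -- dilations
  have key : ∀ t : L, t ≠ 0 → ∃ d ∈ c.M, ∀ a b : L,
      d (a • v + b • v₂) = a • v + (t * b) • v₂ := by
    intro t ht
    have h1 : 1 + ((t - 1) • ψ) v₂ = t := by
      rw [LinearMap.smul_apply, hd.psi_v2, smul_eq_mul, mul_one]
      ring
    have hu : IsUnit (1 + ((t - 1) • ψ) v₂) := by
      rw [h1]
      exact ht.isUnit
    refine ⟨(LinearEquiv.dilatransvection hu).restrictScalars F,
      mem_dil c _ _ hu (by rw [h1]; exact hnorm t ht), fun a b => ?_⟩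
    show (LinearEquiv.dilatransvection hu) (a • v + b • v₂) = _
    rw [LinearEquiv.dilatransvection.apply, LinearMap.smul_apply, smul_eq_mul, hψab, add_assoc,
      ← add_smul]
    congr 2
    ring
  obtain ⟨dl, hdl, hdlx⟩ := key lam hlam
  obtain ⟨dm, hdm, hdmx⟩ := key (A lam) hμ0
  have e1 : ∀ (g : V 2 L ≃ₗ[F] V 2 L) (y : V 2 L), g (g⁻¹ y) = y := by
    intro g y
    rw [← LinearEquiv.mul_apply, mul_inv_cancel]
    rfl
  have e2 : ∀ (g : V 2 L ≃ₗ[F] V 2 L) (y : V 2 L), g⁻¹ (g y) = y := by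
    intro g y
    rw [← LinearEquiv.mul_apply, inv_mul_cancel]
    rfl
  refine ⟨h * dl * h⁻¹ * dm⁻¹, c.M.mul_mem (c.M.mul_mem (c.M.mul_mem hd.hM hdl)
    (c.M.inv_mem hd.hM)) (c.M.inv_mem hdm), fun x => ?_⟩
  obtain ⟨z, hz⟩ : ∃ z, x = dm (h z) := ⟨h⁻¹ (dm⁻¹ x), by rw [e1, e1]⟩
  obtain ⟨a, b, hzd⟩ : ∃ a b : L, z = a • v + b • v₂ := ⟨_, _, hd.dec z⟩
  subst hzd
  subst hz
  have h6 : D (lam * b) = A lam * D b := by
    rw [hD, hD, ← hmul]
    congr 1
    ring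
  have h7 : (X ∘ₗ LinearMap.mulLeft F ((lam - 1) / κ) ∘ₗ A' ∘ₗ
      LinearMap.mulLeft F (A lam)⁻¹) (A lam * D b) = X (lam * b) - X b := by
    simp only [LinearMap.comp_apply, LinearMap.mulLeft_apply]
    rw [← mul_assoc, inv_mul_cancel₀ hμ0, one_mul, hD, hA', ← map_sub]
    congr 1
    field_simp
  rw [LinearEquiv.mul_apply, LinearEquiv.mul_apply, LinearEquiv.mul_apply, e2, e2, hdlx,
    hd.act, hd.act, hdmx, hψab, h7, h6, add_smul, add_smul, sub_smul]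
  abel

end Cfsg.Agent.Lib.Helper26.GFZ1BCONJ2
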