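import Mathlib
import Cfsg.Agent.Lib.Helper8.GFZ1BStmt

/-!
# S5886 / Z1B sub-piece NORM2 (helper26, second seat): the coordinates
-/

set_option autoImplicit false

namespace Cfsg.Agent.Lib.Helper26.GFZ1BNORM2

open Cfsg.Agent.Lib.Helper40.GFStmt Cfsg.Agent.Lib.Helper8.GFZ1BStmt

universe u

section
variable {L : Type u} [Field L]

/-- `ψ x = x 0 * v 1 - x 1 * v 0` -/
def psiOf (v : V 2 L) : V 2 L →ₗ[L] L :=
  (v 1) • (LinearMap.proj 0 : V 2 L →ₗ[L] L) - (v 0) • (LinearMap.proj 1 : V 2 L →ₗ[L] L)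

theorem psiOf_apply (v x : V 2 L) : psiOf v x = x 0 * v 1 - x 1 * v 0 := by
  simp only [psiOf, LinearMap.sub_apply, LinearMap.smul_apply, LinearMap.proj_apply, smul_eq_mul]
  ring

theorem psiOf_self (v : V 2 L) : psiOf v v = 0 := by
  rw [psiOf_apply]; ring

theorem one_ne_of_zero (v : V 2 L) (hv : v ≠ 0) (h0 : v 0 = 0) : v 1 ≠ 0 := by
  intro h1
  apply hv
  funext i
  fin_cases i
  · exact h0
  · exact h1

theorem psiOf_ker (v : V 2 L) (hv : v ≠ 0) (x : V 2 L) (hx : psiOf v x = 0) :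
    ∃ a : L, x = a • v := by
  rw [psiOf_apply] at hx
  by_cases h0 : v 0 = 0
  · have h1 : v 1 ≠ 0 := one_ne_of_zero v hv h0
    have hx0 : x 0 = 0 := by
      rw [h0, mul_zero, sub_zero] at hx
      rcases mul_eq_zero.mp hx with h | h
      · exact h
      · exact absurd h h1
    refine ⟨x 1 / v 1, ?_⟩
    funext i
    fin_cases i
    · show x 0 = x 1 / v 1 * v 0
      rw [h0, mul_zero, hx0]
    · show x 1 = x 1 / v 1 * v 1
      rw [div_mul_cancel₀ _ h1]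
  · refine ⟨x 0 / v 0, ?_⟩
    funext i
    fin_cases i
    · show x 0 = x 0 / v 0 * v 0
      rw [div_mul_cancel₀ _ h0]
    · show x 1 = x 0 / v 0 * v 1
      have h2 : x 0 * v 1 = x 1 * v 0 := sub_eq_zero.mp hx
      rw [div_mul_eq_mul_div, h2, mul_div_assoc, div_self h0, mul_one]

theorem exists_psi (v : V 2 L) (hv : v ≠ 0) :
    ∃ ψ : V 2 L →ₗ[L] L, ψ v = 0 ∧ (∀ x, ψ x = 0 → ∃ a : L, x = a • v) ∧ ∃ y, ψ y ≠ 0 := by
  refine ⟨psiOf v, psiOf_self v, psiOf_ker v hv, ?_⟩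
  by_cases h0 : v 0 = 0
  · have h1 : v 1 ≠ 0 := one_ne_of_zero v hv h0
    refine ⟨![1, 0], ?_⟩
    rw [psiOf_apply]
    simpa using h1
  · refine ⟨![0, 1], ?_⟩
    rw [psiOf_apply]
    simpa using h0

theorem exists_eta (v : V 2 L) (hv : v ≠ 0) : ∃ η : V 2 L →ₗ[L] L, η v = 1 := by
  by_cases h0 : v 0 = 0
  · have h1 : v 1 ≠ 0 := one_ne_of_zero v hv h0
    refine ⟨(v 1)⁻¹ • (LinearMap.proj 1 : V 2 L →ₗ[L] L), ?_⟩
    rw [LinearMap.smul_apply, LinearMap.proj_apply, smul_eq_mul, inv_mul_cancel₀ h1]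
  · refine ⟨(v 0)⁻¹ • (LinearMap.proj 0 : V 2 L →ₗ[L] L), ?_⟩
    rw [LinearMap.smul_apply, LinearMap.proj_apply, smul_eq_mul, inv_mul_cancel₀ h0]

end

theorem main : Norm2.{u} := by
  intro F L _ _ _ _ c h hM v hv hfix hline
  obtain ⟨ψ, hψv, hker, y, hy⟩ := exists_psi v hv
  obtain ⟨η, hη⟩ := exists_eta v hv
  obtain ⟨v₂, hψv₂⟩ : ∃ v₂ : V 2 L, ψ v₂ = 1 :=
    ⟨(ψ y)⁻¹ • y, by rw [map_smul, smul_eq_mul, inv_mul_cancel₀ hy]⟩
  obtain ⟨χ, hχv, hχv₂⟩ : ∃ χ : V 2 L →ₗ[L] L, χ v = 1 ∧ χ v₂ = 0 := by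
    refine ⟨η - (η v₂) • ψ, ?_, ?_⟩
    · rw [LinearMap.sub_apply, LinearMap.smul_apply, hη, hψv, smul_zero, sub_zero]
    · rw [LinearMap.sub_apply, LinearMap.smul_apply, hψv₂, smul_eq_mul, mul_one, sub_self]
  have hdec : ∀ x : V 2 L, x = χ x • v + ψ x • v₂ := by
    intro x
    have h0 : ψ (x - ψ x • v₂) = 0 := by
      rw [map_sub, map_smul, hψv₂, smul_eq_mul, mul_one, sub_self]
    obtain ⟨a, ha⟩ := hker _ h0
    have h1 : χ (x - ψ x • v₂) = a := by rw [ha, map_smul, hχv, smul_eq_mul, mul_one]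
    have h2 : χ (x - ψ x • v₂) = χ x := by rw [map_sub, map_smul, hχv₂, smul_zero, sub_zero]
    have h3 : a = χ x := by rw [← h1, h2]
    rw [← h3, ← ha]
    abel
  obtain ⟨A, hA⟩ : ∃ A : L →ₗ[F] L, ∀ a, A a = χ (h (a • v)) :=
    ⟨(χ.restrictScalars F) ∘ₗ (h : V 2 L →ₗ[F] V 2 L) ∘ₗ
      (LinearMap.id : L →ₗ[F] L).smulRight v, fun a => rfl⟩
  obtain ⟨X, hX⟩ : ∃ X : L →ₗ[F] L, ∀ b, X b = χ (h (b • v₂)) :=
    ⟨(χ.restrictScalars F) ∘ₗ (h : V 2 L →ₗ[F] V 2 L) ∘ₗ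
      (LinearMap.id : L →ₗ[F] L).smulRight v₂, fun a => rfl⟩
  obtain ⟨D, hD⟩ : ∃ D : L →ₗ[F] L, ∀ b, D b = ψ (h (b • v₂)) :=
    ⟨(ψ.restrictScalars F) ∘ₗ (h : V 2 L →ₗ[F] V 2 L) ∘ₗ
      (LinearMap.id : L →ₗ[F] L).smulRight v₂, fun a => rfl⟩
  have hAv : ∀ a, h (a • v) = A a • v := by
    intro a
    obtain ⟨a', ha'⟩ := hline a
    rw [hA, ha', map_smul, hχv, smul_eq_mul, mul_one]
  have hXD : ∀ b, h (b • v₂) = X b • v + D b • v₂ := by
    intro b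
    rw [hX, hD]
    exact hdec _
  have hAinj : Function.Injective A := by
    intro a b hab
    have h1 : h (a • v) = h (b • v) := by rw [hAv, hAv, hab]
    have h2 := h.injective h1
    have h3 : (a - b) • v = 0 := by rw [sub_smul, h2, sub_self]
    rcases smul_eq_zero.mp h3 with h4 | h4
    · exact sub_eq_zero.mp h4
    · exact absurd h4 hv
  have hAsurj : Function.Surjective A := Finite.surjective_of_injective hAinj
  refine ⟨v₂, ψ, χ, A, D, X, ⟨hM, hv, hψv, hψv₂, hχv, hχv₂, hdec, ?_, ?_, hAinj, ?_⟩⟩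
  · intro a b
    rw [map_add, hAv, hXD, add_smul]
    abel
  · rw [hA, one_smul, hfix, hχv]
  · rw [injective_iff_map_eq_zero]
    intro b hb
    obtain ⟨a, ha⟩ := hAsurj (X b)
    have h1 : h (b • v₂) = h (a • v) := by
      rw [hAv, ha, hXD, hb, zero_smul, add_zero]
    have h2 := h.injective h1
    have h3 := congrArg ψ h2
    rw [map_smul, map_smul, hψv, hψv₂, smul_zero, smul_eq_mul, mul_one] at h3
    exact h3

end Cfsg.Agent.Lib.Helper26.GFZ1BNORM2
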