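-- S5321 (2-fusion system of J2 is simple): statements of the abstract group-theoretic pieces
-- (helper26).  The concrete side (words of reflections in J2) discharges the hypotheses.
import Mathlib

set_option autoImplicit false

namespace Cfsg.Agent.Lib.Helper26.J2FusStmt

/-- [CARD] The centraliser of `t` has order 1920: the class of `t` has at least 315 elements
`r k`, the centraliser contains a subgroup of order 128 and elements of order 3 and 5. -/
def CardC : Prop :=
  ∀ (G : Type) [Group G] [Finite G] (t : G) (P : Subgroup G) (r : ℕ → G) (y3 y5 : G),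
    Nat.card G = 604800 → Nat.card P = 128 → (∀ s ∈ P, s * t = t * s) →
    (∀ k < 315, ∃ c : G, c * t = r k * c) →
    (∀ i < 315, ∀ j < 315, r i = r j → i = j) →
    y3 * t = t * y3 → y3 ^ 3 = 1 → y3 ≠ 1 →
    y5 * t = t * y5 → y5 ^ 5 = 1 → y5 ≠ 1 →
    Nat.card ↥(Subgroup.centralizer ({t} : Set G)) = 1920

/-- [QCENT] The centraliser of `Q` lies in the Sylow 2-subgroup `P` of `C(t)`: it is a normal
subgroup of `C(t)` (order `1920 = 2^7 * 3 * 5`) containing no element of order 3 or 5, because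
the Sylow 3- and 5-subgroups of `C(t)` have prime order and `y3`, `y5` do not centralise `Q`. -/
def QCent : Prop :=
  ∀ (G : Type) [Group G] [Finite G] (t : G) (P Q : Subgroup G) (y3 x3 y5 x5 : G),
    Nat.card ↥(Subgroup.centralizer ({t} : Set G)) = 1920 → Nat.card P = 128 →
    (∀ s ∈ P, s * t = t * s) → t ∈ Q →
    (∀ g : G, g * t = t * g → ∀ x ∈ Q, g * x * g⁻¹ ∈ Q) →
    y3 * t = t * y3 → y3 ^ 3 = 1 → x3 ∈ Q → y3 * x3 ≠ x3 * y3 →
    y5 * t = t * y5 → y5 ^ 5 = 1 → x5 ∈ Q → y5 * x5 ≠ x5 * y5 →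
    ∀ g : G, (∀ x ∈ Q, g * x = x * g) → g ∈ P

/-- [CGEN] `C(t)` (order 1920) is generated by its involutions: they generate the subgroup `P`
of order 128, and two products of two involutions have order 3 and 5. -/
def CGen : Prop :=
  ∀ (G : Type) [Group G] [Finite G] (t : G) (P : Subgroup G) (u1 u2 u3 u4 : G),
    Nat.card ↥(Subgroup.centralizer ({t} : Set G)) = 1920 → Nat.card P = 128 →
    (∀ s ∈ P, s * t = t * s) →
    (∀ K : Subgroup G, (∀ u ∈ P, u * u = 1 → u ∈ K) → P ≤ K) →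
    u1 * u1 = 1 → u1 * t = t * u1 → u2 * u2 = 1 → u2 * t = t * u2 →
    (u1 * u2) ^ 3 = 1 → u1 * u2 ≠ 1 →
    u3 * u3 = 1 → u3 * t = t * u3 → u4 * u4 = 1 → u4 * t = t * u4 →
    (u3 * u4) ^ 5 = 1 → u3 * u4 ≠ 1 →
    ∀ K : Subgroup G, (∀ u : G, u * u = 1 → u * t = t * u → u ∈ K) →
      ∀ g : G, g * t = t * g → g ∈ K

end Cfsg.Agent.Lib.Helper26.J2FusStmt
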