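import Cfsg.Agent.Lib.Helper26.J2WTab

/-!
# Data for the 2-part of the Schur multiplier of `J2`
Helper26.  Words of reflections (helper60's numbering) for a Sylow 2-subgroup `Q ⋊ ⟨a₁, a₂⟩` of
`J2`, with `Q` extraspecial of order 32 (the normal subgroup of the centraliser of the
involution `t = el [0]`), and certificates for the kernel checks.
-/

set_option autoImplicit false

namespace Cfsg.Agent.Lib.Helper26.J2M

open Cfsg.Agent.H60J2 Cfsg.Agent.Lib.Helper26.J2W

/-- The involution `a₁` (class 2B). -/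
def wa1 : List Nat := [1, 3, 236, 238]
/-- The involution `a₂` (class 2B). -/
def wa2 : List Nat := [1, 2, 307, 309]
/-- An element of order 4 of `Q`. -/
def wq0 : List Nat := [9, 310]
/-- Generators of `Q`. -/
def qG : List (List Nat) := [[9, 310], [9, 306], [9, 308], [9, 312], [0]]
/-- The 32 elements of `Q`. -/
def qU : List (List Nat) := [[], [9, 310], [9, 306], [9, 308], [9, 312], [0], [306, 310], [308, 310], [307, 309], [306, 309], [306, 311], [306, 307], [308, 309], [306, 308], [307, 311], [307, 310], [306, 312], [307, 308], [9, 309], [9, 313], [9, 311], [9, 307], [307], [308], [312], [313], [311], [306], [310], [309], [9], [314]]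
/-- The multiplication table of the generators on `Q`. -/
def qM : List (List Nat) := [[1, 5, 9, 12, 15, 18, 2, 3, 4, 19, 22, 23, 20, 24, 25, 21, 26, 27, 0, 6, 7, 8, 13, 16, 10, 17, 11, 14, 31, 30, 28, 29], [2, 6, 5, 13, 16, 19, 18, 24, 26, 1, 3, 4, 22, 20, 28, 23, 21, 29, 9, 0, 10, 11, 7, 8, 12, 30, 15, 31, 17, 14, 27, 25], [3, 7, 10, 5, 17, 20, 22, 18, 27, 24, 19, 29, 1, 2, 4, 25, 28, 21, 12, 13, 0, 14, 9, 31, 6, 8, 30, 15, 11, 16, 23, 26], [4, 8, 11, 14, 5, 21, 23, 25, 18, 26, 28, 19, 27, 29, 20, 1, 2, 3, 15, 16, 17, 0, 30, 9, 31, 12, 6, 7, 13, 10, 24, 22], [5, 18, 19, 20, 21, 0, 9, 12, 15, 6, 13, 16, 7, 10, 17, 8, 11, 14, 1, 2, 3, 4, 24, 26, 22, 27, 23, 25, 29, 28, 31, 30]]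
/-- Reachability certificate. -/
def qPar : List (Nat × Nat) := [(0, 0), (0, 0), (1, 0), (2, 0), (3, 0), (0, 1), (1, 1), (2, 1), (3, 1), (0, 2), (2, 2), (3, 2), (0, 3), (1, 3), (3, 3), (0, 4), (1, 4), (2, 4), (0, 5), (1, 5), (2, 5), (3, 5), (2, 6), (3, 6), (1, 7), (3, 7), (1, 8), (2, 8), (3, 10), (2, 11), (3, 22), (2, 23)]
/-- The squares of the elements of `Q`: `true` for `t`, `false` for `1`. -/
def qSq : List Bool := [false, true, true, true, true, false, true, true, true, true, true, true, true, true, true, true, true, true, true, true, true, true, false, false, false, false, false, false, false, false, false, false]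
/-- A test vector. -/
def V0 : T3 := ⟨⟨2, 0, 0, 0, 0, 0, 0, 0⟩, ⟨0, -1, 0, -1, 0, -1, 0, 1⟩, ⟨-1, 1, -1, 1, 1, -1, 1, -1⟩⟩
/-- Elements of odd order centralising `t`. -/
def tW : List (List Nat) := [[], [0, 120, 192, 255], [0, 120, 195, 226], [0, 124, 198, 223], [0, 112, 129, 292], [0, 110, 125, 296], [0, 122, 128, 303], [0, 110, 162, 267], [0, 124, 200, 211], [0, 112, 183, 257]]
/-- Their orders. -/
def tOrd : List Nat := [1, 3, 3, 3, 3, 3, 3, 5, 5, 5]
/-- Conjugacy certificate for the elements of order 4 of `Q`: index in `tW`. -/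
def cjI : List Nat := [0, 0, 1, 2, 3, 0, 4, 5, 6, 4, 7, 8, 5, 7, 9, 6, 8, 9, 0, 1, 2, 3, 0, 0, 0, 0, 0, 0, 0, 0, 0, 0]
/-- Conjugacy certificate for the elements of order 4 of `Q`: `true` for the element,
`false` for its inverse. -/
def cjF : List Bool := [true, true, false, false, true, true, false, true, true, true, false, false, false, true, false, false, true, true, false, true, true, false, true, true, true, true, true, true, true, true, true, true]
/-- The elements of the four-group `⟨a₁, a₂⟩`. -/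
def vU : List (List Nat) := [[], wa1, wa2, wa2 ++ wa1]
/-- The multiplication table of `a₁, a₂` on the four-group. -/
def vM : List (List Nat) := [[1, 0, 3, 2], [2, 3, 0, 1]]
/-- Reachability certificate. -/
def vPar : List (Nat × Nat) := [(0, 0), (0, 0), (1, 0), (0, 2)]
/-- `Q` and the nontrivial elements of the four-group. -/
def qvU : List (List Nat) := qU ++ [wa1, wa2, wa2 ++ wa1]
/-- Conjugators of `a₁` to `a₂`, `a₁a₂`, `a₁t`, `a₂t`, `a₁a₂t`. -/
def cB : List (List Nat) := [[79, 308, 1], [6, 310], [307, 311], [16, 198, 7], [92, 174]]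
/-- The targets. -/
def tB : List (List Nat) := [wa2, wa2 ++ wa1, [0] ++ wa1, [0] ++ wa2, [0] ++ wa2 ++ wa1]

/-- The squares of the elements of `Q`. -/
def chkSq (e : Nat) : Bool :=
  chkEq (qU.getD e [] ++ qU.getD e []) (if qSq.getD e false then [0] else [])

/-- The elements of `tW` commute with `t` and have odd order. -/
def chkT (i : Nat) : Bool :=
  chkEq ([0] ++ tW.getD i []) (tW.getD i [] ++ [0]) && decide (tOrd.getD i 0 % 2 = 1) &&
    chkEq ((List.replicate (tOrd.getD i 0) (tW.getD i [])).flatten) []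

/-- The elements of order 4 of `Q` are conjugate to `q₀` or its inverse under `tW`. -/
def chkCj (e : Nat) : Bool :=
  !(qSq.getD e false) || (decide (cjI.getD e 0 < tW.length) &&
    chkEq ((tW.getD (cjI.getD e 0) []).reverse ++ wq0 ++ tW.getD (cjI.getD e 0) [])
      (if cjF.getD e true then qU.getD e [] else (qU.getD e []).reverse))

/-- Conjugates of `a₁`. -/
def chkB (i : Nat) : Bool :=
  chkEq ((cB.getD i []).reverse ++ wa1 ++ cB.getD i []) (tB.getD i [])

end Cfsg.Agent.Lib.Helper26.J2M
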