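import Cfsg.Agent.Lib.Helper26.J3Main

/-!
# 3.J3: the order, the centre and the normal subgroups
Helper26.
-/

set_option autoImplicit false
set_option maxRecDepth 100000

namespace Cfsg.Agent.Lib.Helper26.J3Main

open Cfsg.Spor Cfsg.Agent.Lib.Helper26.J3Code Cfsg.Agent.Lib.Helper26.J3Tab
  Cfsg.Agent.Lib.Helper26.J3Gens

section Card

variable {F : Type*} [Field F] [Finite F] {ω : F} (h2 : (2 : F) = 0) (hω : ω ^ 2 + ω + 1 = 0)

/-- the order of the group of the definitions, and of its subgroup `3 x L2(16):2` -/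
theorem card_J : Nat.card (threeJ3 F ω) = 150698880 ∧ Nat.card (LG h2 hω) = 24480 := by
  have hle : Nat.card (threeJ3 F ω) ≤ 6156 * Nat.card (LG h2 hω) := by
    rw [J_eq h2 hω]; exact card_G0 h2 hω
  have hL := card_LG h2 hω
  have d2 : 2 ^ 7 ∣ Nat.card (threeJ3 F ω) := by
    have := Subgroup.card_dvd_of_le (P2G_le h2 hω)
    rwa [(P2_facts h2 hω).1] at this
  have d3 : 3 ^ 6 ∣ Nat.card (threeJ3 F ω) := by
    have := Subgroup.card_dvd_of_le (P3G_le h2 hω)
    rwa [(P3_facts h2 hω).1] at this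
  have d5 : 5 ∣ Nat.card (threeJ3 F ω) := by
    have := Subgroup.orderOf_dvd_natCard _ (x5_mem h2 hω)
    rwa [x5_order h2 hω] at this
  have d17 : 17 ∣ Nat.card (threeJ3 F ω) := by
    have := Subgroup.orderOf_dvd_natCard _ (x17_mem h2 hω)
    rwa [x17_order h2 hω] at this
  have d19 : 19 ∣ Nat.card (threeJ3 F ω) := by
    have := Subgroup.orderOf_dvd_natCard _ (aG_mem h2 hω)
    rwa [aG_order h2 hω] at this
  have dd : 2 ^ 7 * 3 ^ 6 * 5 * 17 * 19 ∣ Nat.card (threeJ3 F ω) := by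
    refine Nat.Coprime.mul_dvd_of_dvd_of_dvd (by norm_num) ?_ d19
    refine Nat.Coprime.mul_dvd_of_dvd_of_dvd (by norm_num) ?_ d17
    refine Nat.Coprime.mul_dvd_of_dvd_of_dvd (by norm_num) ?_ d5
    exact Nat.Coprime.mul_dvd_of_dvd_of_dvd (by norm_num) d2 d3
  have hpos : 0 < Nat.card (threeJ3 F ω) := Nat.card_pos
  have hge : 150698880 ≤ Nat.card (threeJ3 F ω) := Nat.le_of_dvd hpos dd
  clear d2 d3 d5 d17 d19 dd hpos
  generalize Nat.card (threeJ3 F ω) = x at *
  generalize Nat.card (LG h2 hω) = y at *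
  constructor <;> omega

end Card

theorem czc : mulR zc ga = mulR ga zc ∧ mulR zc gb = mulR gb zc := by decide +kernel

section Simple

variable {F : Type*} [Field F] [Finite F] {ω : F} (h2 : (2 : F) = 0) (hω : ω ^ 2 + ω + 1 = 0)

/-- the matrix of an element -/
def mt (x : threeJ3 F ω) : Matrix F9 F9 F := ((x : GL F9 F) : Matrix F9 F9 F)

omit [Finite F] in
theorem mt_mul (x y : threeJ3 F ω) : mt (x * y) = mt x * mt y := rfl

omit [Finite F] in
theorem mt_one : mt (1 : threeJ3 F ω) = 1 := rfl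

omit [Finite F] in
theorem mt_pow (x : threeJ3 F ω) (n : ℕ) : mt (x ^ n) = mt x ^ n := by
  unfold mt
  rw [Subgroup.coe_pow, Units.val_pow_eq_pow_val]

omit [Finite F] in
theorem mt_inj {x y : threeJ3 F ω} (h : mt x = mt y) : x = y := Subtype.ext (Units.ext h)

omit [Finite F] in
theorem mt_mul_inv (x : threeJ3 F ω) : mt x * mt x⁻¹ = 1 := by
  rw [← mt_mul, mul_inv_cancel, mt_one]

/-- the generators as elements of the group -/
def a' : threeJ3 F ω := ⟨aG h2 hω, aG_mem h2 hω⟩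
def b' : threeJ3 F ω := ⟨bG h2 hω, bG_mem h2 hω⟩
/-- the scalar of order 3 -/
def z' : threeJ3 F ω := ⟨sG h2 hω 3, (J_eq h2 hω) ▸ sG_mem h2 hω 3⟩
def x5' : threeJ3 F ω := ⟨x5G h2 hω, x5_mem h2 hω⟩
def x17' : threeJ3 F ω := ⟨x17G h2 hω, x17_mem h2 hω⟩
/-- the scalars -/
def Zs : Subgroup (threeJ3 F ω) := Subgroup.zpowers (z' h2 hω)

omit [Finite F] in
theorem closure_ab : Subgroup.closure {a' h2 hω, b' h2 hω} = (⊤ : Subgroup (threeJ3 F ω)) := by
  rw [eq_top_iff]
  rintro ⟨x, hx⟩ -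
  have hx0 : x ∈ Subgroup.closure {aG h2 hω, bG h2 hω} := by
    have := hx
    rw [J_eq h2 hω] at this
    exact this
  have key : ∀ y (_ : y ∈ Subgroup.closure {aG h2 hω, bG h2 hω}), ∀ (hJ : y ∈ threeJ3 F ω),
      (⟨y, hJ⟩ : threeJ3 F ω) ∈ Subgroup.closure {a' h2 hω, b' h2 hω} := by
    intro y hy
    induction hy using Subgroup.closure_induction with
    | mem z hz =>
      intro hJ
      rcases hz with rfl | rfl
      · exact Subgroup.subset_closure (Or.inl rfl)
      · exact Subgroup.subset_closure (Or.inr rfl)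
    | one => intro hJ; exact Subgroup.one_mem _
    | mul y z hy hz ihy ihz =>
      intro hJ
      have hyJ : y ∈ threeJ3 F ω := G0_le h2 hω hy
      have hzJ : z ∈ threeJ3 F ω := G0_le h2 hω hz
      exact Subgroup.mul_mem _ (ihy hyJ) (ihz hzJ)
    | inv y hy ih =>
      intro hJ
      have hyJ : y ∈ threeJ3 F ω := G0_le h2 hω hy
      exact Subgroup.inv_mem _ (ih hyJ)
  exact key x hx0 hx

omit [Finite F] in
include h2 hω in
theorem cert_sound (N : Subgroup (threeJ3 F ω)) (hN : N.Normal) (x' : threeJ3 F ω) (hx' : x' ∈ N)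
    (x c : R9) (t : Nat) (hx : mt x' = decR F ω x) (hc : certOK x c t = true) :
    ∃ y ∈ N, orderOf y = t / 8192 ∧ (t / 8192 = 5 ∨ t / 8192 = 17 ∨ t / 8192 = 19) := by
  unfold certOK at hc
  simp only [Bool.and_eq_true, decide_eq_true_eq, Bool.or_eq_true, beq_iff_eq] at hc
  obtain ⟨⟨⟨⟨h1, hp⟩, h3⟩, h4⟩, h5⟩ := hc
  have hp' : t / 8192 = 5 ∨ t / 8192 = 17 ∨ t / 8192 = 19 := by tauto
  obtain ⟨h, hhJ, hh⟩ := inG_U1 h2 hω _ h1
  have hhJ' : h ∈ threeJ3 F ω := by rw [J_eq h2 hω]; exact hhJ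
  let h' : threeJ3 F ω := ⟨h, hhJ'⟩
  have hmt : mt h' = decR F ω (U1c (t % 8192)) := hh
  have hy0 : x' * (h' * x' * h'⁻¹) ∈ N := N.mul_mem hx' (hN.conj_mem x' hx' h')
  have e1 : mt h' * mt x' = decR F ω c * mt h' := by
    rw [hmt, hx, ← decR_mul h2 hω, h3, decR_mul h2 hω]
  have e2 : mt (h' * x' * h'⁻¹) = decR F ω c := by
    rw [mt_mul, mt_mul, e1, mul_assoc, mt_mul_inv, mul_one]
  have e3 : mt (x' * (h' * x' * h'⁻¹)) = decR F ω (mulR x c) := by
    rw [mt_mul, e2, hx, decR_mul h2 hω]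
  have e4 : mt ((x' * (h' * x' * h'⁻¹)) ^ 3) = decR F ω (cubeR (mulR x c)) := by
    rw [mt_pow, e3, decR_cube h2 hω]
  refine ⟨(x' * (h' * x' * h'⁻¹)) ^ 3, N.pow_mem hy0 3, ?_, hp'⟩
  have hpow : ((x' * (h' * x' * h'⁻¹)) ^ 3) ^ (t / 8192) = 1 := by
    apply mt_inj
    rw [mt_pow, e4, ← decR_pw h2 hω _ hp', h5, decR_one, mt_one]
  have hne : (x' * (h' * x' * h'⁻¹)) ^ 3 ≠ 1 := by
    intro h1'
    have := e4
    rw [h1', mt_one] at this
    exact decR_ne' (F := F) (ω := ω) h2 hω norm_oneR h4 (by rw [← this, decR_one])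
  rcases hp' with hq | hq | hq
  · rw [hq] at hpow ⊢
    have : Fact (Nat.Prime 5) := ⟨by norm_num⟩
    exact orderOf_eq_prime hpow hne
  · rw [hq] at hpow ⊢
    have : Fact (Nat.Prime 17) := ⟨by norm_num⟩
    exact orderOf_eq_prime hpow hne
  · rw [hq] at hpow ⊢
    have : Fact (Nat.Prime 19) := ⟨by norm_num⟩
    exact orderOf_eq_prime hpow hne

omit [Finite F] in
theorem mt_z : mt (z' h2 hω) = decR F ω zc := by
  show decR F ω (s2c 3) = _
  rw [cz.1]

omit [Finite F] in
theorem z_pow : z' h2 hω ^ 3 = 1 := by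
  apply mt_inj
  rw [mt_pow, mt_z, mt_one, ← decR_one (F := F) (ω := ω), ← cz.2.2.1, decR_mul h2 hω, ← cz.2.1,
    decR_mul h2 hω]
  simp only [pow_succ, pow_zero, one_mul, mul_assoc]

omit [Finite F] in
theorem z_ne : z' h2 hω ≠ 1 := by
  intro h
  have := mt_z h2 hω
  rw [h, mt_one, ← decR_one (F := F) (ω := ω)] at this
  exact cz.2.2.2.1 (decR_inj h2 hω (normc).2.1 norm_oneR this.symm)

omit [Finite F] in
theorem z_order : orderOf (z' h2 hω) = 3 := by
  have : Fact (Nat.Prime 3) := ⟨by norm_num⟩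
  exact orderOf_eq_prime (z_pow h2 hω) (z_ne h2 hω)

omit [Finite F] in
theorem mem_Zs (y : threeJ3 F ω) :
    y ∈ Zs h2 hω ↔ y = 1 ∨ y = z' h2 hω ∨ y = z' h2 hω ^ 2 := by
  constructor
  · intro hy
    obtain ⟨k, rfl⟩ := Subgroup.mem_zpowers_iff.mp hy
    have h := zpow_mod_orderOf (z' h2 hω) k
    rw [z_order h2 hω] at h
    have h3 : k % (3 : ℕ) = 0 ∨ k % (3 : ℕ) = 1 ∨ k % (3 : ℕ) = 2 := by omega
    rcases h3 with h3 | h3 | h3 <;> rw [h3] at h <;> rw [← h]
    · left; simp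
    · right; left; simp
    · right; right; rfl
  · rintro (rfl | rfl | rfl)
    · exact Subgroup.one_mem _
    · exact Subgroup.mem_zpowers _
    · exact Subgroup.pow_mem _ (Subgroup.mem_zpowers _) 2

omit [Finite F] in
theorem mt_z2 : mt (z' h2 hω ^ 2) = decR F ω zc2 := by
  rw [mt_pow, mt_z, ← cz.2.1, decR_mul h2 hω, pow_two]

omit [Finite F] in
theorem Zs_le_center : Zs h2 hω ≤ Subgroup.center (threeJ3 F ω) := by
  unfold Zs
  rw [Subgroup.zpowers_le]
  have hc : ∀ g : threeJ3 F ω, g ∈ Subgroup.centralizer {z' h2 hω} := by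
    intro g
    have : g ∈ Subgroup.closure {a' h2 hω, b' h2 hω} := by rw [closure_ab]; trivial
    revert g
    rw [← SetLike.le_def, Subgroup.closure_le]
    rintro g (rfl | rfl)
    · rw [SetLike.mem_coe, Subgroup.mem_centralizer_iff]
      intro y hy
      rw [Set.mem_singleton_iff] at hy
      subst hy
      apply mt_inj
      rw [mt_mul, mt_mul, mt_z]
      show decR F ω zc * decR F ω ga = decR F ω ga * decR F ω zc
      rw [← decR_mul h2 hω, ← decR_mul h2 hω, czc.1]
    · rw [SetLike.mem_coe, Subgroup.mem_centralizer_iff]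
      intro y hy
      rw [Set.mem_singleton_iff] at hy
      subst hy
      apply mt_inj
      rw [mt_mul, mt_mul, mt_z]
      show decR F ω zc * decR F ω gb = decR F ω gb * decR F ω zc
      rw [← decR_mul h2 hω, ← decR_mul h2 hω, czc.2]
  rw [Subgroup.mem_center_iff]
  intro g
  have := hc g
  rw [Subgroup.mem_centralizer_iff] at this
  exact (this _ rfl).symm

end Simple

section Final

variable {F : Type*} [Field F] [Finite F] {ω : F} (h2 : (2 : F) = 0) (hω : ω ^ 2 + ω + 1 = 0)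

/-- a normal subgroup of `3.J3` consists of scalars or is everything -/
theorem normal_cases (N : Subgroup (threeJ3 F ω)) (hN : N.Normal) : N ≤ Zs h2 hω ∨ N = ⊤ := by
  have hcard : Nat.card (threeJ3 F ω) = 2 ^ 7 * 3 ^ 6 * 5 * 17 * 19 := by
    rw [(card_J h2 hω).1]; norm_num
  refine J3Abs.main hcard (Zs h2 hω) (a' h2 hω) (b' h2 hω) (closure_ab h2 hω) ?ha ?hb
    (x5' h2 hω) ?h5 ?c5 (x17' h2 hω) ?h17 ?c17
    ((P2G h2 hω).subgroupOf (threeJ3 F ω)) ?hP2 ?c2
    ((P3G h2 hω).subgroupOf (threeJ3 F ω)) ?hP3 ?c3 N hN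
  case ha => exact Subtype.ext (aG_pow h2 hω)
  case hb => exact Subtype.ext (bG_pow h2 hω)
  case h5 =>
    apply Subtype.ext
    show x5G h2 hω ^ 5 = 1
    rw [← x5_order h2 hω]
    exact pow_orderOf_eq_one _
  case c5 =>
    intro N hN hx
    obtain ⟨y, hy, ho, _⟩ := cert_sound h2 hω N hN _ hx x5c cert5c cert5t (x5_val h2 hω) ccert.1
    exact ⟨y, hy, by rw [ho, ccert.2.1]⟩
  case h17 =>
    apply Subtype.ext
    show x17G h2 hω ^ 17 = 1
    rw [← x17_order h2 hω]
    exact pow_orderOf_eq_one _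
  case c17 =>
    intro N hN hx
    obtain ⟨y, hy, ho, _⟩ := cert_sound h2 hω N hN _ hx (s2c 4) cert17c cert17t (x17_val h2 hω)
      ccert.2.2.1
    exact ⟨y, hy, by rw [ho, ccert.2.2.2]⟩
  case hP2 =>
    rw [Nat.card_congr (Subgroup.subgroupOfEquivOfLe (P2G_le h2 hω)).toEquiv, (P2_facts h2 hω).1]
    norm_num
  case hP3 =>
    rw [Nat.card_congr (Subgroup.subgroupOfEquivOfLe (P3G_le h2 hω)).toEquiv, (P3_facts h2 hω).1]
    norm_num
  case c2 =>
    intro t ht hot N hN htN
    rw [Subgroup.mem_subgroupOf] at ht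
    obtain ⟨i, hi, e⟩ := (P2_facts h2 hω).2.1 _ ht
    have e' : mt t = decR F ω (P2c i) := e
    have hc := allB_spec _ _ cC2 i hi
    unfold chkC2 at hc
    simp only [Bool.or_eq_true, decide_eq_true_eq] at hc
    rcases hc with (hc | hc) | hc
    · exfalso
      have : t = 1 := mt_inj (by rw [mt_one, e', hc, decR_one])
      rw [this, orderOf_one] at hot
      omega
    · exfalso
      have ht2 : t ^ 2 = 1 := by
        have := pow_orderOf_eq_one t
        rwa [hot] at this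
      have h1 : decR F ω (sqR (P2c i)) = decR F ω oneR := by
        rw [decR_sq h2 hω, ← e', ← mt_pow, ht2, mt_one, decR_one]
      exact decR_ne' h2 hω norm_oneR hc h1
    · obtain ⟨y, hy, ho, hp⟩ := cert_sound h2 hω N hN t htN _ _ _ e' hc
      exact ⟨y, hy, by rw [ho]; exact hp⟩
  case c3 =>
    intro x hx hxZ hx3 N hN hxN
    rw [Subgroup.mem_subgroupOf] at hx
    obtain ⟨i, hi, e⟩ := (P3_facts h2 hω).2.1 _ hx
    have e' : mt x = decR F ω (P3c i) := e
    have hc := allB_spec _ _ cC3 i hi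
    unfold chkC3 at hc
    simp only [Bool.or_eq_true] at hc
    rcases hc with (hc | hc) | hc
    · exfalso
      apply hxZ
      rw [mem_Zs]
      unfold inZ at hc
      simp only [Bool.or_eq_true, decide_eq_true_eq] at hc
      rcases hc with (hc | hc) | hc
      · left; apply mt_inj; rw [mt_one, e', hc, decR_one]
      · right; left; apply mt_inj; rw [mt_z, e', hc]
      · right; right; apply mt_inj; rw [mt_z2, e', hc]
    · exfalso
      have hcube : mt (x ^ 3) = decR F ω (normR (cubeR (P3c i))) := by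
        rw [mt_pow, decR_normR, decR_cube h2 hω, ← e']
      rw [mem_Zs] at hx3
      have hz : inZ (normR (cubeR (P3c i))) = true := by
        unfold inZ
        simp only [Bool.or_eq_true, decide_eq_true_eq]
        rcases hx3 with h | h | h
        · left; left
          apply decR_inj h2 hω (norm_normR _) norm_oneR
          rw [← hcube, h, mt_one, decR_one]
        · left; right
          apply decR_inj h2 hω (norm_normR _) (normc).2.1
          rw [← hcube, h, mt_z]
        · right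
          apply decR_inj h2 hω (norm_normR _) (normc).2.2.1
          rw [← hcube, h, mt_z2]
      rw [hz] at hc
      simp at hc
    · obtain ⟨y, hy, ho, hp⟩ := cert_sound h2 hω N hN x hxN _ _ _ e' hc
      exact ⟨y, hy, by rw [ho]; exact hp⟩

/-- the centre of `3.J3` is the group of scalars of order 3 -/
theorem center_J : Subgroup.center (threeJ3 F ω) = Zs h2 hω :=
  J3Abs.center_eq (Zs h2 hω) (Zs_le_center h2 hω) (normal_cases h2 hω) (a' h2 hω) (b' h2 hω)
    (fun h => ab_ne h2 hω (congrArg Subtype.val h))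

omit [Finite F] in
theorem card_Zs : Nat.card (Zs h2 hω) = 3 := by
  unfold Zs
  rw [Nat.card_zpowers, z_order h2 hω]

include h2 hω in
/-- order, centre and simplicity -/
theorem main_thm : Nat.card (Subgroup.center (threeJ3 F ω)) = 3 ∧
    Nat.card (threeJ3 F ω) = 150698880 ∧ Nat.card (J3 F ω) = 50232960 ∧ IsSimpleGroup (J3 F ω) := by
  have hc3 : Nat.card (Subgroup.center (threeJ3 F ω)) = 3 := by
    rw [center_J h2 hω, card_Zs h2 hω]
  have hJ := (card_J h2 hω).1
  have hq : Nat.card (threeJ3 F ω) =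
      Nat.card (threeJ3 F ω ⧸ Subgroup.center (threeJ3 F ω)) * Nat.card (Subgroup.center (threeJ3 F ω)) :=
    Subgroup.card_eq_card_quotient_mul_card_subgroup _
  refine ⟨hc3, hJ, ?_, ?_⟩
  · show Nat.card (threeJ3 F ω ⧸ Subgroup.center (threeJ3 F ω)) = 50232960
    rw [hJ, hc3] at hq
    omega
  · exact J3Abs.quot_simple (Zs h2 hω) (center_J h2 hω) (normal_cases h2 hω) (by rw [hc3, hJ]; norm_num)

end Final

end Cfsg.Agent.Lib.Helper26.J3Main
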