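import Mathlib
import Cfsg.Agent.Lib.Helper26.J3Main2
import Cfsg.Agent.Lib.Helper26.J3OrbTab

/-!
# Line orbits of `3.J3` on its 9-space: code-level checks and their meaning
Helper26.
-/

set_option autoImplicit false

namespace Cfsg.Agent.Lib.Helper26.J3Orb

open Cfsg.Spor Cfsg.Agent.Lib.Helper26.J3Code Cfsg.Agent.Lib.Helper26.J3Main
open Cfsg.Agent.Lib.Helper26.J3Gens Cfsg.Agent.Lib.Helper26.J3Tab

/-! ### balanced range checks -/

/-- `f` holds on `[lo, lo + 2^d)` -/
def allR (f : Nat → Bool) : Nat → Nat → Bool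
  | 0, lo => f lo
  | d + 1, lo => allR f d lo && allR f d (Nat.add lo (Nat.pow 2 d))

theorem allR_spec (f : Nat → Bool) : ∀ d lo, allR f d lo = true →
    ∀ i, lo ≤ i → i < lo + 2 ^ d → f i = true := by
  intro d
  induction d with
  | zero =>
    intro lo h i h1 h2
    have : i = lo := by omega
    rw [this]; exact h
  | succ d ih =>
    intro lo h i h1 h2
    rw [allR, Bool.and_eq_true] at h
    by_cases hi : i < lo + 2 ^ d
    · exact ih lo h.1 i h1 hi
    · refine ih _ h.2 i (by show lo + 2 ^ d ≤ i; omega) ?_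
      show i < lo + 2 ^ d + 2 ^ d
      rw [pow_succ] at h2
      omega

theorem allR_chunks (f : Nat → Bool) (d m : Nat)
    (h : ∀ k < m, allR f d (2 ^ d * k) = true) : ∀ i < 2 ^ d * m, f i = true := by
  intro i hi
  have hpos : 0 < 2 ^ d := Nat.two_pow_pos d
  have hk : i / 2 ^ d < m := Nat.div_lt_of_lt_mul hi
  have h1 : 2 ^ d * (i / 2 ^ d) ≤ i := Nat.mul_div_le i (2 ^ d)
  have h2 : i < 2 ^ d * (i / 2 ^ d) + 2 ^ d := by
    have := Nat.div_add_mod i (2 ^ d)
    have := Nat.mod_lt i hpos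
    omega
  exact allR_spec f d _ (h _ hk) i h1 h2

/-- the number of `i` in `[lo, lo + 2^d)` with `f i` -/
def cntR (f : Nat → Bool) : Nat → Nat → Nat
  | 0, lo => (f lo).toNat
  | d + 1, lo => Nat.add (cntR f d lo) (cntR f d (Nat.add lo (Nat.pow 2 d)))

theorem cntR_spec (f : Nat → Bool) : ∀ d lo, cntR f d lo =
    ((Finset.Ico lo (lo + 2 ^ d)).filter (fun i => f i = true)).card := by
  intro d
  induction d with
  | zero =>
    intro lo
    rw [cntR, pow_zero, Nat.Ico_succ_singleton, Finset.filter_singleton]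
    cases f lo <;> simp
  | succ d ih =>
    intro lo
    rw [cntR]
    show cntR f d lo + cntR f d (lo + 2 ^ d) = _
    rw [ih, ih]
    have hu : Finset.Ico lo (lo + 2 ^ (d + 1)) =
        Finset.Ico lo (lo + 2 ^ d) ∪ Finset.Ico (lo + 2 ^ d) (lo + 2 ^ d + 2 ^ d) := by
      have hp : 0 < 2 ^ d := Nat.two_pow_pos d
      rw [Finset.Ico_union_Ico_eq_Ico (by omega) (by omega)]
      congr 1
      rw [pow_succ]; omega
    rw [hu, Finset.filter_union, Finset.card_union_of_disjoint]
    exact Finset.disjoint_filter_filter (Finset.Ico_disjoint_Ico_consecutive _ _ _)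

theorem lt_of_adj (T : Nat → Nat) (n : Nat) (h : ∀ i, i + 1 < n → T i < T (i + 1)) :
    ∀ i j, i < j → j < n → T i < T j := by
  intro i j hij hj
  induction j with
  | zero => omega
  | succ j ih =>
    rcases Nat.lt_succ_iff_lt_or_eq.mp hij with h1 | h1
    · exact lt_trans (ih h1 (by omega)) (h j hj)
    · rw [h1]; exact h j hj

theorem inj_of_adj (T : Nat → Nat) (n : Nat) (h : ∀ i, i + 1 < n → T i < T (i + 1)) :
    ∀ i < n, ∀ j < n, T i = T j → i = j := by
  intro i hi j hj e
  rcases Nat.lt_trichotomy i j with h1 | h1 | h1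
  · have := lt_of_adj T n h i j h1 hj; omega
  · exact h1
  · have := lt_of_adj T n h j i h1 hi; omega

/-! ### code-level definitions -/

/-- multiplication of a packed vector by `w^k` -/
def mulwk (k c : Nat) : Nat :=
  match k with
  | 0 => c
  | 1 => mulw c
  | _ => mulw (mulw c)

/-- the chosen representative of a line: the smallest of the three multiples -/
def nrm (c : Nat) : Bool :=
  !(Nat.beq c 0) && Nat.ble c (mulw c) && Nat.ble c (mulw (mulw c))

/-- digit `j` is nonzero -/
def nzb (c j : Nat) : Bool := c.testBit (2 * j) || c.testBit (2 * j + 1)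

/-- even number of nonzero digits -/
def isoB (c : Nat) : Bool :=
  !(nzb c 0 ^^ nzb c 1 ^^ nzb c 2 ^^ nzb c 3 ^^ nzb c 4 ^^ nzb c 5 ^^ nzb c 6 ^^ nzb c 7 ^^ nzb c 8)

/-- `m xor (m >> k)` -/
def xs (k m : Nat) : Nat := Nat.xor m (Nat.shiftRight m k)

/-- even number of nonzero digits, with raw operations -/
def isoR (c : Nat) : Bool :=
  Nat.beq (Nat.land (xs 2 (xs 4 (xs 8 (xs 16
    (Nat.land (Nat.lor c (Nat.shiftRight c 1)) 87381))))) 1) 0

def n1 : Nat := 23256
def n2 : Nat := 43605

/-- entry `i` of a table of `w`-bit numbers stored 4096 to a chunk -/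
def lookW (w : Nat) (T : List Nat) (i : Nat) : Nat :=
  Nat.mod (Nat.shiftRight (nth T (Nat.div i 4096)) (Nat.mul w (Nat.mod i 4096))) (Nat.pow 2 w)

def orb (i : Nat) : Nat := lookW 18 ORBtab i
def nxa (i : Nat) : Nat := lookW 17 NXAtab i
def nxb (i : Nat) : Nat := lookW 17 NXBtab i
def t1 (i : Nat) : Nat := lookW 24 T1tab i
def iso (i : Nat) : Nat := lookW 18 ISOtab i
def t2 (i : Nat) : Nat := lookW 27 T2tab i

def t1p (i : Nat) : Nat := Nat.shiftRight (t1 i) 9
def t1s (i : Nat) : Nat := Nat.land (Nat.shiftRight (t1 i) 8) 1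
def t1d (i : Nat) : Nat := Nat.land (t1 i) 255

def t2p (i : Nat) : Nat := Nat.shiftRight (t2 i) 11
def t2s (i : Nat) : Nat := Nat.land (Nat.shiftRight (t2 i) 10) 1
def t2k (i : Nat) : Nat := Nat.land (Nat.shiftRight (t2 i) 8) 3
def t2d (i : Nat) : Nat := Nat.land (t2 i) 255

/-- the generators map the line `i` to the lines named in the tables -/
def chkA (i : Nat) : Bool :=
  decide (n1 ≤ i) || (decide (Nat.div (nxa i) 4 < n1) && decide (Nat.div (nxb i) 4 < n1) &&
    decide (rowmul (orb i) gaT = mulwk (Nat.mod (nxa i) 4) (orb (Nat.div (nxa i) 4))) &&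
    decide (rowmul (orb i) gbT = mulwk (Nat.mod (nxb i) 4) (orb (Nat.div (nxb i) 4))))

/-- spanning tree of the first orbit -/
def chkT1 (i : Nat) : Bool :=
  decide (n1 ≤ i) || decide (i = 0) ||
    (decide (t1p i < n1) && decide (t1d (t1p i) < t1d i) &&
      decide (Nat.div (cond (Nat.beq (t1s i) 0) (nxa (t1p i)) (nxb (t1p i))) 4 = i))

/-- the first table is increasing and consists of chosen representatives -/
def chkS1 (i : Nat) : Bool :=
  decide (n1 ≤ i) || ((decide (orb i < orb (i + 1)) || decide (i + 1 = n1)) && nrm (orb i) &&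
    !(nrm (mulw (orb i))) && !(nrm (mulw (mulw (orb i)))))

/-- spanning tree of the isotropic lines -/
def chkT2 (i : Nat) : Bool :=
  decide (n2 ≤ i) || decide (i = 0) ||
    (decide (t2p i < n2) && decide (t2d (t2p i) < t2d i) &&
      decide (rowmul (iso (t2p i)) (cond (Nat.beq (t2s i) 0) gaT gbT) = mulwk (t2k i) (iso i)))

/-- the second table is increasing and consists of chosen isotropic representatives -/
def chkS2 (i : Nat) : Bool :=
  decide (n2 ≤ i) || ((decide (iso i < iso (i + 1)) || decide (i + 1 = n2)) && nrm (iso i) &&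
    isoR (iso i))

/-- chosen isotropic representatives -/
def chkC (c : Nat) : Bool := nrm c && isoR c

/-- chunked count -/
def cnt2 (f : Nat → Bool) (d : Nat) : Nat → Nat
  | 0 => 0
  | m + 1 => cnt2 f d m + cntR f d (2 ^ d * m)

theorem cnt2_spec (f : Nat → Bool) (d : Nat) : ∀ m, cnt2 f d m =
    ((Finset.range (2 ^ d * m)).filter (fun i => f i = true)).card := by
  intro m
  induction m with
  | zero => simp [cnt2]
  | succ m ih =>
    rw [cnt2, ih, cntR_spec]
    have hu : Finset.range (2 ^ d * (m + 1)) =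
        Finset.range (2 ^ d * m) ∪ Finset.Ico (2 ^ d * m) (2 ^ d * m + 2 ^ d) := by
      rw [Nat.mul_succ]
      simp only [Finset.range_eq_Ico]
      rw [Finset.Ico_union_Ico_eq_Ico (Nat.zero_le _) (Nat.le_add_right _ _)]
    rw [hu, Finset.filter_union, Finset.card_union_of_disjoint]
    apply Finset.disjoint_filter_filter
    simp only [Finset.range_eq_Ico]
    exact Finset.Ico_disjoint_Ico_consecutive _ _ _

theorem mtb : ∀ k : Fin 32, Nat.testBit 87381 k.val =
    (decide (k.val < 18) && decide (k.val % 2 = 0)) := by decide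

theorem isoR_eq (c : Nat) : isoR c = isoB c := by
  unfold isoR isoB nzb
  have e := tb_eq (xs 2 (xs 4 (xs 8 (xs 16 (Nat.land (Nat.lor c (Nat.shiftRight c 1)) 87381))))) 0
  change Nat.land (xs 2 (xs 4 (xs 8 (xs 16
    (Nat.land (Nat.lor c (Nat.shiftRight c 1)) 87381))))) 1 = _ at e
  rw [e]
  have hx : ∀ k m i, (xs k m).testBit i = (m.testBit i ^^ m.testBit (k + i)) := by
    intro k m i
    show (m ^^^ (m >>> k)).testBit i = _
    rw [Nat.testBit_xor, Nat.testBit_shiftRight]
  have hm : ∀ i, (Nat.land (Nat.lor c (Nat.shiftRight c 1)) 87381).testBit i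
      = ((c.testBit i || c.testBit (1 + i)) && Nat.testBit 87381 i) := by
    intro i
    show ((c ||| (c >>> 1)) &&& 87381).testBit i = _
    rw [Nat.testBit_and, Nat.testBit_or, Nat.testBit_shiftRight]
  simp only [hx, hm]
  norm_num
  have h := fun k (hk : k < 32) => mtb ⟨k, hk⟩
  simp only [h 2 (by norm_num), h 4 (by norm_num), h 6 (by norm_num),
    h 8 (by norm_num), h 10 (by norm_num), h 12 (by norm_num), h 14 (by norm_num),
    h 16 (by norm_num), h 18 (by norm_num), h 20 (by norm_num), h 22 (by norm_num),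
    h 24 (by norm_num), h 26 (by norm_num), h 28 (by norm_num), h 30 (by norm_num)]
  norm_num
  generalize (decide (c % 2 = 1) || c.testBit 1) = a0
  generalize (c.testBit 2 || c.testBit 3) = a1
  generalize (c.testBit 4 || c.testBit 5) = a2
  generalize (c.testBit 6 || c.testBit 7) = a3
  generalize (c.testBit 8 || c.testBit 9) = a4
  generalize (c.testBit 10 || c.testBit 11) = a5
  generalize (c.testBit 12 || c.testBit 13) = a6
  generalize (c.testBit 14 || c.testBit 15) = a7
  generalize (c.testBit 16 || c.testBit 17) = a8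
  revert a0 a1 a2 a3 a4 a5 a6 a7 a8
  decide

theorem nrm_iff (c : Nat) : nrm c = true ↔ c ≠ 0 ∧ c ≤ mulw c ∧ c ≤ mulw (mulw c) := by
  unfold nrm
  have hb : (Nat.beq c 0 = false) ↔ c ≠ 0 := by
    rw [← Bool.not_eq_true]
    exact not_congr ⟨Nat.eq_of_beq_eq_true, fun h => by rw [h]; rfl⟩
  simp [and_assoc, hb]

/-- `mT` is the transpose of `m`, on codes -/
def IsT (m mT : R9) : Prop :=
  ∀ w z : F9, (mT.row (ix z)).testBit (2 * ix w) = (m.row (ix w)).testBit (2 * ix z) ∧
    (mT.row (ix z)).testBit (2 * ix w + 1) = (m.row (ix w)).testBit (2 * ix z + 1)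

instance (m mT : R9) : Decidable (IsT m mT) := by unfold IsT; infer_instance

theorem tr_ab : IsT ga gaT ∧ IsT gb gbT := by decide +kernel

theorem one_bits : ∀ z : F9, Nat.testBit 1 (2 * ix z) = decide (z = 0) ∧
    Nat.testBit 1 (2 * ix z + 1) = false := by decide

theorem lookW_lt (w : Nat) (T : List Nat) (i : Nat) : lookW w T i < 2 ^ w :=
  Nat.mod_lt _ (Nat.two_pow_pos w)

theorem mulw_lt (r : Nat) : mulw r < 2 ^ 18 := by
  show ((r >>> 1 &&& 87381) ^^^ (r &&& 87381)) <<< 1 ||| (r >>> 1 &&& 87381) < 2 ^ 18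
  have hA : r >>> 1 &&& 87381 < 2 ^ 17 := lt_of_le_of_lt Nat.and_le_right (by norm_num)
  have hB : r &&& 87381 < 2 ^ 17 := lt_of_le_of_lt Nat.and_le_right (by norm_num)
  have hX := Nat.xor_lt_two_pow hA hB
  apply Nat.or_lt_two_pow
  · rw [Nat.shiftLeft_eq]; omega
  · omega

theorem mulwk_lt (k c : Nat) (hc : c < 2 ^ 18) : mulwk k c < 2 ^ 18 := by
  unfold mulwk
  split
  · exact hc
  · exact mulw_lt _
  · exact mulw_lt _

/-! ### meaning -/

section Field

variable {F : Type*} [Field F] {ω : F} (h2 : (2 : F) = 0) (hω : ω ^ 2 + ω + 1 = 0)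

/-- the vector of a code -/
def vec (F : Type*) [Field F] (ω : F) (c : Nat) : F9 → F := fun z => val F ω c (ix z)

include h2 hω

theorem vec_mulw (c : Nat) : vec F ω (mulw c) = ω • vec F ω c := by
  ext z
  exact val_mulw h2 hω c (ix z) (ix_lt z)

theorem vec_mulwk (k c : Nat) : ∃ s : F, s ≠ 0 ∧ vec F ω (mulwk k c) = s • vec F ω c := by
  have h0 := omega_ne_zero hω
  unfold mulwk
  split
  · exact ⟨1, one_ne_zero, by simp⟩
  · exact ⟨ω, h0, vec_mulw h2 hω c⟩
  · exact ⟨ω * ω, mul_ne_zero h0 h0, by rw [vec_mulw h2 hω, vec_mulw h2 hω, smul_smul]⟩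

theorem mulVec_vec (m mT : R9) (h : IsT m mT) (c : Nat) :
    (decR F ω m).mulVec (vec F ω c) = vec F ω (rowmul c mT) := by
  ext w
  show ∑ z : F9, decR F ω m w z * vec F ω c z = val F ω (rowmul c mT) (ix w)
  rw [val_rowmul h2 hω _ _ _ (ix_lt w),
    ← sum_ix (fun k => val F ω c k * val F ω (mT.row k) (ix w))]
  apply Finset.sum_congr rfl
  intro z _
  show val F ω (m.row (ix w)) (ix z) * val F ω c (ix z)
    = val F ω c (ix z) * val F ω (mT.row (ix z)) (ix w)
  have : val F ω (mT.row (ix z)) (ix w) = val F ω (m.row (ix w)) (ix z) := by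
    unfold val; rw [(h w z).1, (h w z).2]
  rw [this, mul_comm]

theorem vec_inj {c c' : Nat} (hc : c < 2 ^ 18) (hc' : c' < 2 ^ 18)
    (h : vec F ω c = vec F ω c') : c = c' := by
  apply Nat.eq_of_testBit_eq
  intro q
  by_cases hq : q < 18
  · obtain ⟨z, hz⟩ : ∃ z : F9, ix z = q / 2 :=
      ⟨e9.symm ⟨q / 2, by omega⟩, congrArg Fin.val (e9.apply_symm_apply ⟨q / 2, by omega⟩)⟩
    have e := congrFun h z
    have e' := val_inj h2 hω _ _ _ _ e
    rw [hz] at e'
    rcases Nat.mod_two_eq_zero_or_one q with h0 | h0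
    · have : 2 * (q / 2) = q := by omega
      rw [this] at e'
      exact e'.1
    · have : 2 * (q / 2) + 1 = q := by omega
      rw [this] at e'
      exact e'.2
  · have h18 : (2 : ℕ) ^ 18 ≤ 2 ^ q := Nat.pow_le_pow_right (by norm_num) (by omega)
    rw [Nat.testBit_lt_two_pow (lt_of_lt_of_le hc h18),
      Nat.testBit_lt_two_pow (lt_of_lt_of_le hc' h18)]

omit h2 hω in
theorem vec_one : vec F ω 1 = Pi.single (0 : F9) (1 : F) := by
  ext z
  show val F ω 1 (ix z) = _
  unfold val
  rw [(one_bits z).1, (one_bits z).2, Pi.single_apply]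
  by_cases h : z = 0 <;> simp [h]

omit h2 hω in
theorem vec_zero : vec F ω 0 = 0 := by
  ext z
  show val F ω 0 (ix z) = _
  unfold val
  simp

theorem val_cube (r j : Nat) : (val F ω r j) ^ 3 = (((nzb r j).toNat : ℕ) : F) := by
  unfold val nzb
  cases r.testBit (2 * j) <;> cases r.testBit (2 * j + 1) <;> simp
  · linear_combination (ω - 1) * hω
  · linear_combination (ω + 2) * hω - h2

theorem iso_iff (c : Nat) : ∑ z : F9, (vec F ω c z) ^ 3 = 0 ↔ isoB c = true := by
  have e : ∑ z : F9, (vec F ω c z) ^ 3 = ∑ k ∈ Finset.range 9, (((nzb c k).toNat : ℕ) : F) := by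
    rw [← sum_ix (fun k => (((nzb c k).toNat : ℕ) : F))]
    apply Finset.sum_congr rfl
    intro z _
    exact val_cube h2 hω c (ix z)
  rw [e]
  simp only [Finset.sum_range_succ, Finset.sum_range_zero, zero_add]
  rw [← bcast h2, ← bcast h2, ← bcast h2, ← bcast h2, ← bcast h2, ← bcast h2, ← bcast h2,
    ← bcast h2]
  unfold isoB
  cases (nzb c 0 ^^ nzb c 1 ^^ nzb c 2 ^^ nzb c 3 ^^ nzb c 4 ^^ nzb c 5 ^^ nzb c 6 ^^ nzb c 7 ^^
    nzb c 8) <;> simp

/-- the elements of a field with four elements -/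
theorem elts [Fintype F] (hF : Fintype.card F = 4) (s : F) :
    s = 0 ∨ s = 1 ∨ s = ω ∨ s = ω * ω := by
  classical
  have h0 := omega_ne_zero hω
  have h1 := omega_ne_one h2 hω
  have hw2 : ω * ω = ω + 1 := by linear_combination hω - (ω + 1) * h2
  have hc : ({0, 1, ω, ω * ω} : Finset F).card = 4 := by
    rw [Finset.card_insert_of_notMem, Finset.card_insert_of_notMem,
      Finset.card_insert_of_notMem, Finset.card_singleton]
    · rw [Finset.mem_singleton]
      intro h
      apply one_ne_zero (α := F)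
      linear_combination -hw2 - h
    · rw [Finset.mem_insert, Finset.mem_singleton]
      rintro (h | h)
      · exact h1 h.symm
      · apply h0
        linear_combination -hw2 - h
    · rw [Finset.mem_insert, Finset.mem_insert, Finset.mem_singleton]
      rintro (h | h | h)
      · exact zero_ne_one h
      · exact h0 h.symm
      · exact mul_ne_zero h0 h0 h.symm
  have hu : ({0, 1, ω, ω * ω} : Finset F) = Finset.univ :=
    Finset.eq_univ_of_card _ (by rw [hc, hF])
  have := Finset.mem_univ s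
  rw [← hu] at this
  simpa using this

theorem vec_surj [Fintype F] (hF : Fintype.card F = 4) (v : F9 → F) :
    ∃ c < 2 ^ 18, vec F ω c = v := by
  classical
  let f : Fin (2 ^ 18) → (F9 → F) := fun c => vec F ω c.val
  have hinj : Function.Injective f := fun c c' h => Fin.ext (vec_inj h2 hω c.2 c'.2 h)
  have h9 : Fintype.card F9 = 9 := by decide
  have hcard : Fintype.card (Fin (2 ^ 18)) = Fintype.card (F9 → F) := by
    rw [Fintype.card_fin, Fintype.card_fun, hF, h9]
    norm_num
  have hbij := (Fintype.bijective_iff_injective_and_card f).mpr ⟨hinj, hcard⟩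
  obtain ⟨c, hc⟩ := hbij.2 v
  exact ⟨c.val, c.2, hc⟩

/-- equal lines have codes differing by a scalar -/
theorem line_eq [Fintype F] (hF : Fintype.card F = 4) {c c' : Nat} (hc : c < 2 ^ 18)
    (hc' : c' < 2 ^ 18) (hne : c ≠ 0)
    (h : Submodule.span F {vec F ω c} = Submodule.span F {vec F ω c'}) :
    c = c' ∨ c = mulw c' ∨ c = mulw (mulw c') := by
  have hm : vec F ω c ∈ Submodule.span F {vec F ω c'} := by
    rw [← h]; exact Submodule.mem_span_singleton_self _
  obtain ⟨s, hs⟩ := Submodule.mem_span_singleton.mp hm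
  rcases elts h2 hω hF s with rfl | rfl | rfl | rfl
  · exfalso
    apply hne
    apply vec_inj h2 hω hc (by norm_num)
    rw [← hs, vec_zero, zero_smul]
  · left
    apply vec_inj h2 hω hc hc'
    rw [← hs, one_smul]
  · right; left
    apply vec_inj h2 hω hc (mulw_lt _)
    rw [← hs, vec_mulw h2 hω]
  · right; right
    apply vec_inj h2 hω hc (mulw_lt _)
    rw [← hs, vec_mulw h2 hω, vec_mulw h2 hω, smul_smul]

end Field

end Cfsg.Agent.Lib.Helper26.J3Orb
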