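import Mathlib
import Cfsg.Agent.Lib.Helper26.J3Main2

/-!
# Realisations of J3: a field with four elements, the permutation representation on 6156 points
Helper26.
-/

set_option autoImplicit false

namespace Cfsg.Agent.Lib.Helper26.J3Rep

open Cfsg.Spor Cfsg.Agent.Lib.Helper26.J3Code Cfsg.Agent.Lib.Helper26.J3Main

/-- a simple group with a proper subgroup of index `n` is a transitive group of degree `n` -/
theorem exists_perm_rep {G : Type*} [Group G] [Finite G] [IsSimpleGroup G] (L : Subgroup G)
    (n : ℕ) [NeZero n] (hidx : L.index = n) (hL : L ≠ ⊤) :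
    ∃ H : Subgroup (Equiv.Perm (Fin n)), Nonempty (G ≃* H) ∧ MulAction.IsPretransitive H (Fin n) ∧
      Nat.card (MulAction.stabilizer H (0 : Fin n)) * n = Nat.card G := by
  classical
  have hcard : Nat.card (G ⧸ L) = n := hidx
  have e : (G ⧸ L) ≃ Fin n := Finite.equivFinOfCardEq hcard
  let φ : G →* Equiv.Perm (Fin n) :=
    (e.permCongrHom).toMonoidHom.comp (MulAction.toPermHom G (G ⧸ L))
  have hφ : ∀ g i, φ g i = e (g • e.symm i) := fun g i => rfl
  have hinj : Function.Injective φ := by
    rw [← MonoidHom.ker_eq_bot_iff]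
    rcases (MonoidHom.normal_ker φ).eq_bot_or_eq_top with h | h
    · exact h
    · exfalso
      apply hL
      rw [eq_top_iff]
      intro g _
      have hg : g ∈ φ.ker := by rw [h]; trivial
      rw [MonoidHom.mem_ker] at hg
      have h1 := congrArg (fun p : Equiv.Perm (Fin n) => p (e (QuotientGroup.mk 1))) hg
      simp only [hφ, Equiv.symm_apply_apply, Equiv.Perm.coe_one, id_eq,
        EmbeddingLike.apply_eq_iff_eq] at h1
      rw [MulAction.Quotient.smul_mk, QuotientGroup.eq] at h1
      simpa using L.inv_mem h1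
  let H : Subgroup (Equiv.Perm (Fin n)) := φ.range
  have eH : G ≃* H := MonoidHom.ofInjective hinj
  have htr : MulAction.IsPretransitive H (Fin n) := by
    constructor
    intro i j
    obtain ⟨g, hg⟩ := MulAction.exists_smul_eq G (e.symm i) (e.symm j)
    refine ⟨⟨φ g, g, rfl⟩, ?_⟩
    show φ g i = j
    rw [hφ, hg, Equiv.apply_symm_apply]
  refine ⟨H, ⟨eH⟩, htr, ?_⟩
  have h1 := Subgroup.card_mul_index (MulAction.stabilizer H (0 : Fin n))
  rw [MulAction.index_stabilizer_of_transitive, Nat.card_fin] at h1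
  rw [h1, Nat.card_congr eH.toEquiv]

/-! ### a field with four elements -/

theorem two_eq_zero (F : Type*) [Field F] [Fintype F] (hF : Fintype.card F = 4) : (2 : F) = 0 := by
  have h4 : ((4 : ℕ) : F) = 0 := by
    rw [← hF]
    exact Nat.cast_card_eq_zero F
  have h22 : (2 : F) * 2 = 0 := by
    have : ((4 : ℕ) : F) = 2 * 2 := by norm_num
    rw [← this]; exact h4
  rcases mul_eq_zero.mp h22 with h | h <;> exact h

theorem exists_omega (F : Type*) [Field F] [Fintype F] (hF : Fintype.card F = 4) :
    ∃ ω : F, ω ^ 2 + ω + 1 = 0 := by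
  classical
  have hlt : ({0, 1} : Finset F).card < (Finset.univ : Finset F).card := by
    rw [Finset.card_univ, hF]
    exact lt_of_le_of_lt (Finset.card_insert_le _ _) (by simp)
  obtain ⟨x, -, hx⟩ := Finset.exists_mem_notMem_of_card_lt_card hlt
  simp only [Finset.mem_insert, Finset.mem_singleton, not_or] at hx
  have h3 : x ^ 3 = 1 := by
    have := FiniteField.pow_card_sub_one_eq_one x hx.1
    rwa [hF] at this
  refine ⟨x, ?_⟩
  have h : (x - 1) * (x ^ 2 + x + 1) = 0 := by linear_combination h3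
  rcases mul_eq_zero.mp h with h | h
  · exact absurd (sub_eq_zero.mp h) hx.2
  · exact h

/-- a field with four elements -/
abbrev F4 : Type := GaloisField 2 2

noncomputable instance : Fintype F4 := Fintype.ofFinite F4

theorem F4_card : Fintype.card F4 = 4 := by
  rw [← Nat.card_eq_fintype_card, GaloisField.card 2 2 (by norm_num)]
  norm_num

/-! ### the subgroup of index 6156 -/

section

variable {F : Type*} [Field F] [Finite F] {ω : F} (h2 : (2 : F) = 0) (hω : ω ^ 2 + ω + 1 = 0)

/-- the subgroup `3 × L2(16):2` inside `3.J3` -/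
def L3 : Subgroup (threeJ3 F ω) := (LG h2 hω).subgroupOf (threeJ3 F ω)

/-- its image in `J3` -/
def Lbar : Subgroup (J3 F ω) :=
  (L3 h2 hω).map (QuotientGroup.mk' (Subgroup.center (threeJ3 F ω)))

omit [Finite F] in
theorem LG_le_J : LG h2 hω ≤ threeJ3 F ω := by
  rw [J_eq h2 hω]; exact LG_le h2 hω

theorem card_L3 : Nat.card (L3 h2 hω) = 24480 := by
  rw [L3, Nat.card_congr (Subgroup.subgroupOfEquivOfLe (LG_le_J h2 hω)).toEquiv, (card_J h2 hω).2]

theorem center_le_L3 : Subgroup.center (threeJ3 F ω) ≤ L3 h2 hω := by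
  rw [center_J h2 hω, Zs, Subgroup.zpowers_le, L3, Subgroup.mem_subgroupOf]
  exact Subgroup.subset_closure ⟨3, rfl⟩

theorem index_Lbar : (Lbar h2 hω).index = 6156 := by
  rw [Lbar, Subgroup.index_map_eq _ (QuotientGroup.mk'_surjective _)
    (by rw [QuotientGroup.ker_mk']; exact center_le_L3 h2 hω)]
  have h := Subgroup.card_mul_index (L3 h2 hω)
  rw [card_L3, (card_J h2 hω).1] at h
  omega

include h2 hω in
/-- `J3` as a transitive permutation group of degree 6156 with point stabiliser of order 8160 -/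
theorem exists_perm_J3 : ∃ H : Subgroup (Equiv.Perm (Fin 6156)), (IsSimpleGroup H ∧
    Nat.card H = 50232960) ∧ MulAction.IsPretransitive H (Fin 6156) ∧
    Nat.card (MulAction.stabilizer H (0 : Fin 6156)) = 8160 := by
  obtain ⟨-, -, hc, hs⟩ := main_thm h2 hω
  have : Finite (J3 F ω) := Nat.finite_of_card_ne_zero (by rw [hc]; norm_num)
  have hL : Lbar h2 hω ≠ ⊤ := by
    intro h
    have := index_Lbar h2 hω
    rw [h, Subgroup.index_top] at this
    omega
  obtain ⟨H, ⟨e⟩, htr, hst⟩ := exists_perm_rep (Lbar h2 hω) 6156 (index_Lbar h2 hω) hL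
  refine ⟨H, ⟨e.symm.isSimpleGroup, ?_⟩, htr, ?_⟩
  · rw [← Nat.card_congr e.toEquiv, hc]
  · rw [hc] at hst
    omega

end

/-- `J3` exists as a transitive permutation group of degree 6156 -/
theorem perm_J3 : ∃ H : Subgroup (Equiv.Perm (Fin 6156)), (IsSimpleGroup H ∧
    Nat.card H = 50232960) ∧ MulAction.IsPretransitive H (Fin 6156) ∧
    Nat.card (MulAction.stabilizer H (0 : Fin 6156)) = 8160 := by
  obtain ⟨ω, hω⟩ := exists_omega F4 F4_card
  exact exists_perm_J3 (two_eq_zero F4 F4_card) hω

end Cfsg.Agent.Lib.Helper26.J3Rep
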