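import Mathlib
import Cfsg.Prelude.Def_Classical
import Cfsg.Agent.Lib.Helper26.J3Rep

/-!
# `3.J3` inside the special unitary group of dimension 9 over the field with four elements
Helper26.
-/

set_option autoImplicit false

namespace Cfsg.Agent.Lib.Helper26.J3Uni

open Cfsg.Spor Cfsg.Agent.Lib.Helper26.J3Code Cfsg.Agent.Lib.Helper26.J3Main
open Cfsg.Agent.Lib.Helper26.J3Gens Cfsg.Agent.Lib.Helper26.J3Tab

/-- `c'` is the conjugate transpose of `c`, on codes -/
def IsCT (c c' : R9) : Prop :=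
  ∀ w z : F9, (c'.row (ix w)).testBit (2 * ix z) =
      ((c.row (ix z)).testBit (2 * ix w) ^^ (c.row (ix z)).testBit (2 * ix w + 1)) ∧
    (c'.row (ix w)).testBit (2 * ix z + 1) = (c.row (ix z)).testBit (2 * ix w + 1)

instance (c c' : R9) : Decidable (IsCT c c') := by unfold IsCT; infer_instance

theorem ct_ab : IsCT ga gai ∧ IsCT gb gbi := by decide +kernel

/-- form preservation from the matrix identity -/
theorem form_pres {F : Type*} [CommRing F] {ι : Type*} [Fintype ι] [DecidableEq ι] (φ : F →+* F)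
    (M : Matrix ι ι F) (h : M.transpose * M.map φ = 1) (u v : ι → F) :
    ∑ i, (M.mulVec u) i * φ ((M.mulVec v) i) = ∑ i, u i * φ (v i) := by
  have e1 : ∀ i, φ ((M.mulVec v) i) = ((M.map φ).mulVec (φ ∘ v)) i :=
    fun i => by rw [RingHom.map_mulVec]
  simp_rw [e1]
  show dotProduct (M.mulVec u) ((M.map φ).mulVec (φ ∘ v)) = dotProduct u (φ ∘ v)
  rw [Matrix.dotProduct_mulVec, Matrix.vecMul_mulVec, h, Matrix.vecMul_one]

/-- transfer of centre and central quotient along an isomorphism -/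
theorem transfer {G H : Type*} [Group G] [Group H] (e : G ≃* H) :
    Nat.card (Subgroup.center H) = Nat.card (Subgroup.center G) ∧
    Nonempty ((H ⧸ Subgroup.center H) ≃* (G ⧸ Subgroup.center G)) := by
  refine ⟨(Nat.card_congr (Subgroup.centerCongr e).toEquiv).symm, ?_⟩
  have he : (Subgroup.center G).map e.toMonoidHom = Subgroup.center H := by
    ext y
    rw [Subgroup.mem_map, Subgroup.mem_center_iff]
    constructor
    · rintro ⟨x, hx, rfl⟩ h
      rw [Subgroup.mem_center_iff] at hx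
      have := congrArg e (hx (e.symm h))
      simpa using this
    · intro hy
      refine ⟨e.symm y, ?_, by simp⟩
      rw [Subgroup.mem_center_iff]
      intro g
      have := congrArg e.symm (hy (e g))
      simpa using this
  exact ⟨(QuotientGroup.congr (Subgroup.center G) (Subgroup.center H) e he).symm⟩

section

variable {F : Type*} [Field F] {ω : F} (h2 : (2 : F) = 0) (hω : ω ^ 2 + ω + 1 = 0)

/-- the Frobenius map -/
def sqHom : F →+* F where
  toFun x := x ^ 2
  map_one' := one_pow 2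
  map_mul' x y := mul_pow x y 2
  map_zero' := by simp
  map_add' x y := by linear_combination (x * y) * h2

theorem sqHom_apply (x : F) : sqHom h2 x = x ^ 2 := rfl

include h2 hω in
theorem val_sq (r j : Nat) : (val F ω r j) ^ 2 =
    (((r.testBit (2 * j) ^^ r.testBit (2 * j + 1)).toNat : ℕ) : F)
      + ω * (((r.testBit (2 * j + 1)).toNat : ℕ) : F) := by
  unfold val
  cases r.testBit (2 * j) <;> cases r.testBit (2 * j + 1) <;> simp
  · linear_combination hω - ω * h2 - h2
  · linear_combination hω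

include hω in
theorem decR_ct (c c' : R9) (h : IsCT c c') :
    decR F ω c' = ((decR F ω c).map (sqHom h2)).transpose := by
  ext w z
  show val F ω (c'.row (ix w)) (ix z) = (val F ω (c.row (ix z)) (ix w)) ^ 2
  rw [val_sq h2 hω]
  unfold val
  rw [(h w z).1, (h w z).2]

/-- the unitary group on `F9`-indexed vectors -/
def Uni : Subgroup (GL F9 F) :=
  Cfsg.preserving (Units.coeHom (Matrix F9 F9 F)) (fun u v => ∑ i, u i * v i ^ 2)

theorem glOf_mem_Uni (c c' : R9) (h : mulR c c' = oneR ∧ mulR c' c = oneR) (hct : IsCT c c') :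
    glOf h2 hω c c' h ∈ Uni (F := F) := by
  intro u v
  have hm : (decR F ω c).transpose * (decR F ω c).map (sqHom h2) = 1 := by
    have h1 : decR F ω c' * decR F ω c = 1 := by rw [← decR_mul h2 hω, h.2, decR_one]
    rw [decR_ct h2 hω c c' hct] at h1
    have := congrArg Matrix.transpose h1
    simpa using this
  exact form_pres (sqHom h2) (decR F ω c) hm u v

variable [Finite F]

omit [Finite F] in
include h2 hω in
theorem J_le_Uni : threeJ3 F ω ≤ Uni := by
  rw [J_eq h2 hω, G0, Subgroup.closure_le]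
  rintro g (rfl | rfl)
  · exact glOf_mem_Uni h2 hω _ _ _ ct_ab.1
  · exact glOf_mem_Uni h2 hω _ _ _ ct_ab.2

end

section

variable {F : Type*} [Field F] [Fintype F] (hF : Fintype.card F = 4) {ω : F}
  (hω : ω ^ 2 + ω + 1 = 0)

include hF hω in
theorem det_eq_one (g : GL F9 F) (hg : g ∈ threeJ3 F ω) :
    Matrix.det (g : Matrix F9 F9 F) = 1 := by
  classical
  have h2 := J3Rep.two_eq_zero F hF
  have hu : ∀ x : Fˣ, x ^ 3 = 1 := by
    intro x
    have h3 : Fintype.card Fˣ = 3 := by rw [Fintype.card_units, hF]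
    rw [← h3]
    exact pow_card_eq_one
  have h19 : ∀ x : Fˣ, x ^ 19 = 1 → x = 1 := by
    intro x hx
    have : x ^ 19 = (x ^ 3) ^ 6 * x := by rw [← pow_mul, ← pow_succ]
    rw [hu, one_pow, one_mul] at this
    rw [← this, hx]
  have hle : threeJ3 F ω ≤ (Matrix.GeneralLinearGroup.det (n := F9) (R := F)).ker := by
    rw [J_eq h2 hω, G0, Subgroup.closure_le]
    rintro g (rfl | rfl)
    · rw [SetLike.mem_coe, MonoidHom.mem_ker]
      apply h19
      rw [← map_pow, aG_pow h2 hω, map_one]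
    · rw [SetLike.mem_coe, MonoidHom.mem_ker]
      apply h19
      rw [← map_pow, bG_pow h2 hω, map_one]
  have := hle hg
  rw [MonoidHom.mem_ker] at this
  have h' := congrArg Units.val this
  simpa using h'

/-- the matrix in `SL` of an element of `3.J3` -/
def toSL (g : threeJ3 F ω) : Matrix.SpecialLinearGroup (Fin 9) F :=
  ⟨Matrix.reindex e9 e9 ((g : GL F9 F) : Matrix F9 F9 F), by
    rw [Matrix.det_reindex_self]; exact det_eq_one hF hω g.1 g.2⟩

/-- as a homomorphism -/
def slHom : threeJ3 F ω →* Matrix.SpecialLinearGroup (Fin 9) F where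
  toFun := toSL hF hω
  map_one' := by
    apply Subtype.ext
    show Matrix.reindex e9 e9 (1 : Matrix F9 F9 F) = 1
    simp
  map_mul' x y := by
    apply Subtype.ext
    show Matrix.reindex e9 e9 (((x : GL F9 F) : Matrix F9 F9 F) * ((y : GL F9 F) : Matrix F9 F9 F))
      = Matrix.reindex e9 e9 ((x : GL F9 F) : Matrix F9 F9 F) *
        Matrix.reindex e9 e9 ((y : GL F9 F) : Matrix F9 F9 F)
    simp [Matrix.reindex_apply, Matrix.submatrix_mul_equiv]

theorem slHom_inj : Function.Injective (slHom hF hω) := by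
  intro x y h
  have h1 : Matrix.reindex e9 e9 ((x : GL F9 F) : Matrix F9 F9 F) =
      Matrix.reindex e9 e9 ((y : GL F9 F) : Matrix F9 F9 F) := congrArg Subtype.val h
  exact Subtype.ext (Units.ext ((Matrix.reindex e9 e9).injective h1))

theorem slHom_mem (g : threeJ3 F ω) : slHom hF hω g ∈ Cfsg.SU 9 F 2 := by
  have h2 := J3Rep.two_eq_zero F hF
  intro u v
  have hg : ∑ z : F9, (((g : GL F9 F) : Matrix F9 F9 F).mulVec (u ∘ e9)) z *
      (((g : GL F9 F) : Matrix F9 F9 F).mulVec (v ∘ e9)) z ^ 2 =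
      ∑ z : F9, u (e9 z) * v (e9 z) ^ 2 := J_le_Uni h2 hω g.2 (u ∘ e9) (v ∘ e9)
  have hm : ∀ w : Fin 9 → F, (Cfsg.slToMat 9 F (slHom hF hω g)).mulVec w =
      (((g : GL F9 F) : Matrix F9 F9 F).mulVec (w ∘ e9)) ∘ e9.symm := by
    intro w
    show (Matrix.reindex e9 e9 ((g : GL F9 F) : Matrix F9 F9 F)).mulVec w = _
    rw [Matrix.reindex_apply, Matrix.submatrix_mulVec_equiv]
    rfl
  rw [hm, hm]
  unfold Cfsg.hermForm
  calc ∑ i : Fin 9, ((((g : GL F9 F) : Matrix F9 F9 F).mulVec (u ∘ e9)) ∘ e9.symm) i *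
        ((((g : GL F9 F) : Matrix F9 F9 F).mulVec (v ∘ e9)) ∘ e9.symm) i ^ 2
      = ∑ z : F9, (((g : GL F9 F) : Matrix F9 F9 F).mulVec (u ∘ e9)) z *
        (((g : GL F9 F) : Matrix F9 F9 F).mulVec (v ∘ e9)) z ^ 2 :=
        Equiv.sum_comp e9.symm (fun z => (((g : GL F9 F) : Matrix F9 F9 F).mulVec (u ∘ e9)) z *
          (((g : GL F9 F) : Matrix F9 F9 F).mulVec (v ∘ e9)) z ^ 2)
    _ = ∑ z : F9, u (e9 z) * v (e9 z) ^ 2 := hg
    _ = ∑ i : Fin 9, u i * v i ^ 2 := Equiv.sum_comp e9 (fun i => u i * v i ^ 2)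

/-- the embedding into the special unitary group -/
def suHom : threeJ3 F ω →* Cfsg.SU 9 F 2 :=
  (slHom hF hω).codRestrict (Cfsg.SU 9 F 2) (slHom_mem hF hω)

theorem suHom_inj : Function.Injective (suHom hF hω) := by
  intro x y h
  apply slHom_inj hF hω
  exact congrArg Subtype.val h

include hF hω in
theorem exists_su : ∃ H : Subgroup (Cfsg.SU 9 F 2), Nat.card (Subgroup.center H) = 3 ∧
    (IsSimpleGroup (H ⧸ Subgroup.center H) ∧ Nat.card (H ⧸ Subgroup.center H) = 50232960) := by
  have h2 := J3Rep.two_eq_zero F hF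
  obtain ⟨h3, -, hc, hs⟩ := main_thm h2 hω
  have e : threeJ3 F ω ≃* (suHom hF hω).range := MonoidHom.ofInjective (suHom_inj hF hω)
  obtain ⟨t1, ⟨t2⟩⟩ := transfer e
  refine ⟨(suHom hF hω).range, by rw [t1, h3], ?_, ?_⟩
  · exact t2.isSimpleGroup
  · rw [Nat.card_congr t2.toEquiv]; exact hc

end

/-- the statement for a concrete field with four elements -/
theorem su_J3 : ∃ (F : Type) (_ : Field F) (_ : Fintype F), Fintype.card F = 4 ∧
    ∃ H : Subgroup (Cfsg.SU 9 F 2), Nat.card (Subgroup.center H) = 3 ∧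
    (IsSimpleGroup (H ⧸ Subgroup.center H) ∧ Nat.card (H ⧸ Subgroup.center H) = 50232960) := by
  obtain ⟨ω, hω⟩ := J3Rep.exists_omega J3Rep.F4 J3Rep.F4_card
  exact ⟨J3Rep.F4, inferInstance, inferInstance, J3Rep.F4_card, exists_su J3Rep.F4_card hω⟩

end Cfsg.Agent.Lib.Helper26.J3Uni
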