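import Mathlib
import Cfsg.Agent.Lib.Helper26.J3Uni
import Cfsg.Agent.Lib.Helper26.J3Orb
import Cfsg.Agent.Lib.Helper26.J3OutTab

/-!
# Automorphisms of `J3`: code-level checks
Helper26.
-/

set_option autoImplicit false

namespace Cfsg.Agent.Lib.Helper26.J3Out

open Cfsg.Spor Cfsg.Agent.Lib.Helper26.J3Code Cfsg.Agent.Lib.Helper26.J3Main
open Cfsg.Agent.Lib.Helper26.J3Gens Cfsg.Agent.Lib.Helper26.J3Tab
open Cfsg.Agent.Lib.Helper26.J3Orb (allR allR_spec allR_chunks lookW)

/-! ### code-level definitions -/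

/-- representatives of the involutions up to conjugation by powers of the first generator -/
def rep (m : Nat) : R9 := look REPtab m
/-- powers of the first generator -/
def apw (j : Nat) : R9 := look APOWtab j
/-- the elements `a^(-j') b a^j` -/
def ct (i : Nat) : R9 := look CTtab i
def nxb (i : Nat) : Nat := lookW 16 NXBtab i
def fp1 (m : Nat) : Nat := lookW 7 FP1tab m
def fp2 (m : Nat) : Nat := lookW 7 FP2tab m
def cjt (i : Nat) : Nat := lookN 29 CJtab i

/-- the involution -/
def t0c : R9 := s2c 0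

/-- entrywise Frobenius of a packed row -/
def fr (r : Nat) : Nat := Nat.xor r (Nat.land (Nat.shiftRight r 1) 87381)

/-- entrywise Frobenius -/
def frobR (m : R9) : R9 :=
  ⟨fr m.r0, fr m.r1, fr m.r2, fr m.r3, fr m.r4, fr m.r5, fr m.r6, fr m.r7, fr m.r8⟩

/-- the semilinear automorphism on codes -/
def thc (c : R9) : R9 := mulR (mulR Ac (frobR c)) Aci

/-- an element of the coset table -/
def trip (t : Nat × Nat × Nat) : R9 := mulR (U1c t.1) (mulR (U2c t.2.1) (L3c t.2.2))

/-- a word in the first generator (letter 0) and the involution -/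
def wordR : List Nat → R9
  | [] => oneR
  | l :: ls => mulR (cond (Nat.beq l 0) ga t0c) (wordR ls)

def chkAP (j : Nat) : Bool := decide (mulR ga (apw j) = apw (Nat.mod (j + 1) 19))

def chkCT (i : Nat) : Bool :=
  decide (mulR (apw (Nat.div i 19)) (ct i) = mulR gb (apw (Nat.mod i 19)))

/-- the set of conjugates `a^j r_m a^(-j)` is closed under conjugation by the second generator -/
def chkB (i : Nat) : Bool :=
  decide (26163 ≤ i) || (decide (Nat.div (nxb i) 32 < 1377) && decide (Nat.mod (nxb i) 32 < 19) &&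
    decide (mulR (ct (Nat.add (Nat.mul 19 (Nat.mod (nxb i) 32)) (Nat.mod i 19))) (rep (Nat.div i 19))
      = mulR (rep (Nat.div (nxb i) 32))
        (ct (Nat.add (Nat.mul 19 (Nat.mod (nxb i) 32)) (Nat.mod i 19)))))

/-- the word `x y x^2 y x^e y` at `x = a^κ`, `y = r_m` -/
def wr (κ m e3 : Nat) : R9 :=
  mulR (mulR (mulR (mulR (mulR (apw (Nat.mod κ 19)) (rep m)) (apw (Nat.mod (2 * κ) 19))) (rep m))
    (apw (Nat.mod (κ * e3) 19))) (rep m)

def tbit (e3 n : Nat) : Bool := Nat.testBit TBITS (16 * e3 + n)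

def chkTB (i : Nat) : Bool :=
  tbit (Nat.div i 16) (Nat.mod i 16)
    == inZ (normR (powR (wr 1 0 (Nat.div i 16)) (Nat.mod i 16)))

def chkF1 (m : Nat) : Bool :=
  decide (1377 ≤ m) || decide (m = 0) ||
    (inZ (normR (powR (wr 1 m (Nat.div (fp1 m) 16)) (Nat.mod (fp1 m) 16)))
      != tbit (Nat.div (fp1 m) 16) (Nat.mod (fp1 m) 16))

def chkF2 (m : Nat) : Bool :=
  decide (1377 ≤ m) || decide (m = msig) ||
    (inZ (normR (powR (wr 2 m (Nat.div (fp2 m) 16)) (Nat.mod (fp2 m) 16)))
      != tbit (Nat.div (fp2 m) 16) (Nat.mod (fp2 m) 16))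

/-- the triple of the conjugator of the `i`-th element of the Sylow 2-subgroup -/
def cjTr (i : Nat) : Nat × Nat × Nat :=
  (Nat.div (cjt i) 65536, Nat.mod (Nat.div (cjt i) 2048) 32, Nat.mod (cjt i) 2048)

/-- every involution of the Sylow 2-subgroup is conjugate to the chosen one -/
def chkJ (i : Nat) : Bool :=
  decide (P2c i = oneR) || decide (normR (sqR (P2c i)) ≠ oneR) ||
    (decide ((cjTr i).1 < 6156) && decide ((cjTr i).2.1 < 17) && decide ((cjTr i).2.2 < 1440) &&
      decide (mulR (trip (cjTr i)) (P2c i) = mulR t0c (trip (cjTr i))))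

end Cfsg.Agent.Lib.Helper26.J3Out
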