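import Mathlib
import Cfsg.Agent.Lib.Helper26.J3Out
import Cfsg.Agent.Lib.Helper26.J3CenTab

/-!
# The centraliser of an involution of `3.J3`: code-level checks
Helper26.
-/

set_option autoImplicit false

namespace Cfsg.Agent.Lib.Helper26.J3Cen

open Cfsg.Spor Cfsg.Agent.Lib.Helper26.J3Code Cfsg.Agent.Lib.Helper26.J3Main
open Cfsg.Agent.Lib.Helper26.J3Gens Cfsg.Agent.Lib.Helper26.J3Tab
open Cfsg.Agent.Lib.Helper26.J3Out (rep apw t0c trip)

/-- the involution-generated part of the centraliser (order 1920) -/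
def L1c (i : Nat) : R9 := look L1tab i
def L1n (i : Nat) : Nat := lookN 162 L1tab i
def nxL (i : Nat) : Nat := lookN 11 NXLtab i
def parL (i : Nat) : Nat := lookN 13 PARLtab i
/-- a Sylow 2-subgroup (order 128) -/
def S0c (i : Nat) : R9 := look S0tab i
def S0n (i : Nat) : Nat := lookN 162 S0tab i
def nxS (i : Nat) : Nat := lookN 7 NXStab i
def parS (i : Nat) : Nat := lookN 9 PARStab i
/-- the extraspecial normal subgroup (order 32) -/
def Qc (i : Nat) : R9 := look Qtab i
def Qn (i : Nat) : Nat := lookN 162 Qtab i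
def nxQ (i : Nat) : Nat := lookN 5 NXQtab i
def parQ (i : Nat) : Nat := lookN 7 PARQtab i
def qn (i : Nat) : Nat := lookN 5 QNtab i
def wq (i : Nat) : Nat := lookN 2 WQtab i
def wz (i : Nat) : Nat := lookN 2 WZtab i
/-- a sorted list of involutions -/
def invc (i : Nat) : R9 := look INVtab i
def invn (i : Nat) : Nat := lookN 162 INVtab i
def srt (i : Nat) : Nat := lookN 16 SRTtab i
def trt (m : Nat) : Nat := lookN 29 TRtab m
def trTr (m : Nat) : Nat × Nat × Nat :=
  (Nat.div (trt m) 65536, Nat.mod (Nat.div (trt m) 2048) 32, Nat.mod (trt m) 2048)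

def chkL (i : Nat) : Bool :=
  decide (1920 ≤ i) || allB (fun s => decide (nxL (3 * i + s) < 1920) &&
    decide (mulR (cg s) (L1c i) = L1c (nxL (3 * i + s)))) 3
def chkPL (j : Nat) : Bool :=
  decide (j = 0) || (decide (Nat.div (parL j) 3 < j) && decide (nxL (parL j) = j))
def chkS (i : Nat) : Bool :=
  allB (fun s => decide (nxS (3 * i + s) < 128) &&
    decide (mulR (sg s) (S0c i) = S0c (nxS (3 * i + s)))) 3
def chkPS (j : Nat) : Bool :=
  decide (j = 0) || (decide (Nat.div (parS j) 3 < j) && decide (nxS (parS j) = j))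
def chkQ (i : Nat) : Bool :=
  allB (fun s => decide (nxQ (4 * i + s) < 32) &&
    decide (mulR (qg s) (Qc i) = Qc (nxQ (4 * i + s)))) 4
def chkPQ (j : Nat) : Bool :=
  decide (j = 0) || (decide (Nat.div (parQ j) 4 < j) && decide (nxQ (parQ j) = j))
/-- the generators of the centraliser normalise the extraspecial subgroup -/
def chkQN (i : Nat) : Bool :=
  decide (qn i < 32) && decide (mulR (cg (Nat.div i 4)) (qg (Nat.mod i 4))
    = mulR (Qc (qn i)) (cg (Nat.div i 4)))
/-- only `1` and the involution centralise the extraspecial subgroup -/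
def chkCQ (i : Nat) : Bool :=
  decide (1920 ≤ i) || decide (L1c i = oneR) || decide (L1c i = t0c) ||
    decide (normR (mulR (L1c i) (qg (wq i))) ≠ normR (mulR (qg (wq i)) (L1c i)))
/-- the involution is the only central involution of the Sylow 2-subgroup -/
def chkZ (i : Nat) : Bool :=
  decide (S0c i = oneR) || decide (S0c i = t0c) ||
    decide (normR (mulR (S0c i) (S0c i)) ≠ oneR) ||
    decide (normR (mulR (S0c i) (sg (wz i))) ≠ normR (mulR (sg (wz i)) (S0c i)))
def chkLZ (i : Nat) : Bool :=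
  decide (1920 ≤ i) || (decide (L1c i ≠ zc) && decide (L1c i ≠ zc2))
def chkT (m : Nat) : Bool :=
  decide (1377 ≤ m) || (decide ((trTr m).1 < 6156) && decide ((trTr m).2.1 < 17) &&
    decide ((trTr m).2.2 < 1440) && decide (rep m = trip (trTr m)))
def chkI (i : Nat) : Bool :=
  decide (9639 ≤ i) || (decide (Nat.div (srt i) 32 < 1377) && decide (Nat.mod (srt i) 32 < 19) &&
    decide (invc i = mulR (mulR (apw (Nat.mod (srt i) 32)) (rep (Nat.div (srt i) 32)))
      (apw (Nat.mod (Nat.sub 19 (Nat.mod (srt i) 32)) 19))) &&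
    decide (mulR (invc i) (invc i) = oneR) && decide (invc i ≠ oneR))
def chkSrt (i : Nat) : Bool :=
  decide (9638 ≤ i) || Nat.blt (invn i) (invn (i + 1))

end Cfsg.Agent.Lib.Helper26.J3Cen
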