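import Cfsg.Agent.Lib.Helper26.J3Cen

/-!
# Kernel checks for the centraliser of an involution of `3.J3` (generated)
Helper26.
-/

set_option autoImplicit false
set_option maxRecDepth 100000

namespace Cfsg.Agent.Lib.Helper26.J3Cen

open Cfsg.Agent.Lib.Helper26.J3Code Cfsg.Agent.Lib.Helper26.J3Gens Cfsg.Agent.Lib.Helper26.J3Tab
open Cfsg.Agent.Lib.Helper26.J3Orb (allR)
open Cfsg.Agent.Lib.Helper26.J3Out (rep apw t0c trip)

theorem cMisc : (∀ s : Fin 3, mulR (cg s) (cg s) = oneR ∧ mulR (cg s) t0c = mulR t0c (cg s) ∧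
      (cgTr s).1 < 6156 ∧ (cgTr s).2.1 < 17 ∧ (cgTr s).2.2 < 1440 ∧ cg s = trip (cgTr s) ∧
      mulR (sg s) (sg s) = oneR ∧ sgIx s < 1920 ∧ sg s = L1c (sgIx s)) ∧
    (∀ k : Fin 4, mulR (qg k) (qg k) = oneR ∧ qgIx k < 128 ∧ qg k = S0c (qgIx k)) ∧
    tS < 128 ∧ t0c = S0c tS ∧ L1c 0 = oneR ∧ S0c 0 = oneR ∧ Qc 0 = oneR := by decide +kernel
theorem cS : allB chkS 128 = true := by decide +kernel
theorem cPS : allB chkPS 128 = true := by decide +kernel
theorem cQ : allB chkQ 32 = true := by decide +kernel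
theorem cPQ : allB chkPQ 32 = true := by decide +kernel
theorem cQN : allB chkQN 12 = true := by decide +kernel
theorem cZ : allB chkZ 128 = true := by decide +kernel
theorem cNS : ((List.range 128).map S0n).Nodup := by decide +kernel
theorem cNQ : ((List.range 32).map Qn).Nodup := by decide +kernel

end Cfsg.Agent.Lib.Helper26.J3Cen
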