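import Cfsg.Agent.Lib.Helper26.J3Cen

/-!
# Kernel checks for the centraliser of an involution of `3.J3` (generated)
Helper26.
-/

set_option autoImplicit false
set_option maxRecDepth 100000

namespace Cfsg.Agent.Lib.Helper26.J3Cen

open Cfsg.Agent.Lib.Helper26.J3Code Cfsg.Agent.Lib.Helper26.J3Gens Cfsg.Agent.Lib.Helper26.J3Tab
open Cfsg.Agent.Lib.Helper26.J3Orb (allR)
open Cfsg.Agent.Lib.Helper26.J3Out (rep apw t0c trip)

theorem cI_0 : allR chkI 9 (2 ^ 9 * 0) = true := by decide +kernel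
theorem cI_1 : allR chkI 9 (2 ^ 9 * 1) = true := by decide +kernel
theorem cI_2 : allR chkI 9 (2 ^ 9 * 2) = true := by decide +kernel
theorem cI_3 : allR chkI 9 (2 ^ 9 * 3) = true := by decide +kernel
theorem cI_4 : allR chkI 9 (2 ^ 9 * 4) = true := by decide +kernel

end Cfsg.Agent.Lib.Helper26.J3Cen
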