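import Cfsg.Agent.Lib.Helper26.J3Cen
import Cfsg.Agent.Lib.Helper26.J3CenTab2

/-!
# Kernel checks for the centraliser of an involution of `3.J3`: injectivity of the big table
Helper26.
-/

set_option autoImplicit false
set_option maxRecDepth 100000

namespace Cfsg.Agent.Lib.Helper26.J3Cen

open Cfsg.Agent.Lib.Helper26.J3Code Cfsg.Agent.Lib.Helper26.J3Gens Cfsg.Agent.Lib.Helper26.J3Tab
open Cfsg.Agent.Lib.Helper26.J3Orb (allR)

/-- the index of the element of rank `r` -/
def sL (r : Nat) : Nat := lookN 11 SLtab r
/-- the rank of the element of index `i` -/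
def rL (i : Nat) : Nat := lookN 11 RLtab i
def chkSL (r : Nat) : Bool :=
  decide (1919 ≤ r) || Nat.blt (L1n (sL r)) (L1n (sL (r + 1)))
def chkRL (i : Nat) : Bool :=
  decide (1920 ≤ i) || (decide (rL i < 1920) && decide (sL (rL i) = i))

theorem cSL : allR chkSL 11 0 = true := by decide +kernel
theorem cRL : allR chkRL 11 0 = true := by decide +kernel

theorem L1n_inj (i j : Nat) (hi : i < 1920) (hj : j < 1920) (h : L1n i = L1n j) : i = j := by
  have hS : ∀ r, r + 1 < 1920 → L1n (sL r) < L1n (sL (r + 1)) := by
    intro r hr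
    have := J3Orb.allR_spec _ _ _ cSL r (Nat.zero_le _) (by omega)
    unfold chkSL at this
    simp only [Bool.or_eq_true, decide_eq_true_eq, Nat.blt_eq] at this
    rcases this with h | h
    · omega
    · exact h
  have hR : ∀ i, i < 1920 → rL i < 1920 ∧ sL (rL i) = i := by
    intro i hi
    have := J3Orb.allR_spec _ _ _ cRL i (Nat.zero_le _) (by omega)
    unfold chkRL at this
    simp only [Bool.or_eq_true, decide_eq_true_eq, Bool.and_eq_true] at this
    rcases this with h | h
    · omega
    · exact h
  have key := J3Orb.inj_of_adj (fun r => L1n (sL r)) 1920 hS (rL i) (hR i hi).1 (rL j) (hR j hj).1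
    (by show L1n (sL (rL i)) = L1n (sL (rL j)); rw [(hR i hi).2, (hR j hj).2]; exact h)
  have := congrArg sL key
  rw [(hR i hi).2, (hR j hj).2] at this
  exact this

end Cfsg.Agent.Lib.Helper26.J3Cen
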