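import Cfsg.Agent.Lib.Helper26.J3Out3
import Cfsg.Agent.Lib.Helper26.J3CenChk0
import Cfsg.Agent.Lib.Helper26.J3CenChkCQ
import Cfsg.Agent.Lib.Helper26.J3CenChkT
import Cfsg.Agent.Lib.Helper26.J3CenChkI0
import Cfsg.Agent.Lib.Helper26.J3CenChkI1
import Cfsg.Agent.Lib.Helper26.J3CenChkI2
import Cfsg.Agent.Lib.Helper26.J3CenChkI3
import Cfsg.Agent.Lib.Helper26.J3CenChkL
import Cfsg.Agent.Lib.Helper26.J3CenChkN
import Cfsg.Agent.H85.SimpFS

/-!
# The centraliser of an involution of `3.J3`: group-level facts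
Helper26.
-/

set_option autoImplicit false
set_option maxRecDepth 100000
set_option linter.unusedSectionVars false

namespace Cfsg.Agent.Lib.Helper26.J3Cen

open Cfsg.Spor Cfsg.Agent.Lib.Helper26.J3Code Cfsg.Agent.Lib.Helper26.J3Main
open Cfsg.Agent.Lib.Helper26.J3Gens Cfsg.Agent.Lib.Helper26.J3Tab
open Cfsg.Agent.Lib.Helper26.J3Orb (allR allR_spec allR_chunks inj_of_adj)
open Cfsg.Agent.Lib.Helper26.J3Out (rep apw t0c trip qm t' mt_t t_mul qt_ne apw_mod cJ chkJ cjTr)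

/-! ### table facts -/

theorem cL_all : ∀ i < 1920, chkL i = true := by
  intro i hi
  refine allR_chunks chkL 9 4 ?_ i (by omega)
  intro k hk
  interval_cases k
  exacts [cL_0, cL_1, cL_2, cL_3]

theorem cPL_all : ∀ i < 1920, chkPL' i = true := by
  intro i hi
  refine allR_chunks chkPL' 9 4 ?_ i (by omega)
  intro k hk
  interval_cases k
  exacts [cPL_0, cPL_1, cPL_2, cPL_3]

theorem cLZ_all : ∀ i < 1920, chkLZ i = true := by
  intro i hi
  refine allR_chunks chkLZ 9 4 ?_ i (by omega)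
  intro k hk
  interval_cases k
  exacts [cLZ_0, cLZ_1, cLZ_2, cLZ_3]

theorem cCQ_all : ∀ i < 1920, chkCQ i = true := by
  intro i hi
  refine allR_chunks chkCQ 9 4 ?_ i (by omega)
  intro k hk
  interval_cases k
  exacts [cCQ_0, cCQ_1, cCQ_2, cCQ_3]

theorem cT_all : ∀ i < 1377, chkT i = true := by
  intro i hi
  refine allR_chunks chkT 9 3 ?_ i (by omega)
  intro k hk
  interval_cases k
  exacts [cT_0, cT_1, cT_2]

theorem cSrt_all : ∀ i < 9639, chkSrt i = true := by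
  intro i hi
  refine allR_chunks chkSrt 12 3 ?_ i (by omega)
  intro k hk
  interval_cases k
  exacts [cSrt_0, cSrt_1, cSrt_2]

theorem cI_all : ∀ i < 9639, chkI i = true := by
  intro i hi
  refine allR_chunks chkI 9 19 ?_ i (by omega)
  intro k hk
  interval_cases k
  exacts [cI_0, cI_1, cI_2, cI_3, cI_4, cI_5, cI_6, cI_7, cI_8, cI_9, cI_10, cI_11, cI_12, cI_13,
    cI_14, cI_15, cI_16, cI_17, cI_18]

theorem stepL (s : Nat) (hs : s < 3) (i : Nat) (hi : i < 1920) :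
    nxL (3 * i + s) < 1920 ∧ mulR (cg s) (L1c i) = L1c (nxL (3 * i + s)) := by
  have h := cL_all i hi
  unfold chkL at h
  simp only [Bool.or_eq_true, decide_eq_true_eq] at h
  rcases h with h | h
  · omega
  · have h' := allB_spec _ _ h s hs
    simpa only [Bool.and_eq_true, decide_eq_true_eq] using h'

theorem parL_spec (j : Nat) (hj0 : 0 < j) (hj : j < 1920) :
    parL j / 3 < j ∧ nxL (parL j) = j := by
  have h := cPL_all j hj
  unfold chkPL' chkPL at h
  simp only [Bool.or_eq_true, decide_eq_true_eq, Bool.and_eq_true] at h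
  rcases h with h | h | h
  · omega
  · omega
  · exact h

theorem stepS (s : Nat) (hs : s < 3) (i : Nat) (hi : i < 128) :
    nxS (3 * i + s) < 128 ∧ mulR (sg s) (S0c i) = S0c (nxS (3 * i + s)) := by
  have h := allB_spec _ _ cS i hi
  unfold chkS at h
  have h' := allB_spec _ _ h s hs
  simpa only [Bool.and_eq_true, decide_eq_true_eq] using h'

theorem parS_spec (j : Nat) (hj0 : 0 < j) (hj : j < 128) :
    parS j / 3 < j ∧ nxS (parS j) = j := by
  have h := allB_spec _ _ cPS j hj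
  unfold chkPS at h
  simp only [Bool.or_eq_true, decide_eq_true_eq, Bool.and_eq_true] at h
  rcases h with h | h
  · omega
  · exact h

theorem stepQ (s : Nat) (hs : s < 4) (i : Nat) (hi : i < 32) :
    nxQ (4 * i + s) < 32 ∧ mulR (qg s) (Qc i) = Qc (nxQ (4 * i + s)) := by
  have h := allB_spec _ _ cQ i hi
  unfold chkQ at h
  have h' := allB_spec _ _ h s hs
  simpa only [Bool.and_eq_true, decide_eq_true_eq] using h'

theorem parQ_spec (j : Nat) (hj0 : 0 < j) (hj : j < 32) :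
    parQ j / 4 < j ∧ nxQ (parQ j) = j := by
  have h := allB_spec _ _ cPQ j hj
  unfold chkPQ at h
  simp only [Bool.or_eq_true, decide_eq_true_eq, Bool.and_eq_true] at h
  rcases h with h | h
  · omega
  · exact h

section Expl

variable {F : Type*} [Field F] [Finite F] {ω : F} (h2 : (2 : F) = 0) (hω : ω ^ 2 + ω + 1 = 0)
include h2 hω

/-- a table closed under left multiplication by generators, with a spanning tree -/
theorem expl {r : ℕ} (hr : 0 < r) (g : Fin r → GL F9 F) (c : Nat → R9)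
    (hg : ∀ s : Fin r, (g s : Matrix F9 F9 F) = decR F ω (c s.val)) (n : ℕ) (hn : 0 < n)
    (u : ℕ → R9) (nx par : ℕ → ℕ) (h0 : u 0 = oneR)
    (hstep : ∀ s < r, ∀ i < n, nx (r * i + s) < n ∧ mulR (c s) (u i) = u (nx (r * i + s)))
    (hpar : ∀ j, 0 < j → j < n → par j / r < j ∧ nx (par j) = j)
    (hnorm : ∀ i, Norm (u i))
    (hinj : ∀ i < n, ∀ j < n, u i = u j → i = j) :
    Nat.card (Subgroup.closure (Set.range g)) = n ∧
      (∀ x ∈ Subgroup.closure (Set.range g), ∃ i < n, (x : Matrix F9 F9 F) = decR F ω (u i)) ∧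
      ∀ i < n, InG F ω (Subgroup.closure (Set.range g)) (u i) := by
  refine explicit_sub h2 hω g (fun s => c s.val) hg n hn u h0
    (fun s i hi => ⟨_, (hstep s.val s.isLt i hi).1, (hstep s.val s.isLt i hi).2⟩) ?_ hnorm hinj
  intro j hj0 hj
  obtain ⟨hp1, hp2⟩ := hpar j hj0 hj
  have hs : par j % r < r := Nat.mod_lt _ hr
  have e := (hstep (par j % r) hs (par j / r) (lt_trans hp1 hj)).2
  rw [Nat.div_add_mod] at e
  rw [hp2] at e
  exact ⟨_, hp1, ⟨par j % r, hs⟩, e⟩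

end Expl

section Grp

variable {F : Type*} [Field F] [Finite F] {ω : F} (h2 : (2 : F) = 0) (hω : ω ^ 2 + ω + 1 = 0)

/-- generators (involutions) of the centraliser -/
def cGen (s : Fin 3) : GL F9 F :=
  glOf h2 hω (cg s) (cg s) ⟨(J3Cen.cMisc.1 s).1, (J3Cen.cMisc.1 s).1⟩
/-- the centraliser (its subgroup of index 3 in `3.J3`) -/
def C1G : Subgroup (GL F9 F) := Subgroup.closure (Set.range (cGen h2 hω))
/-- generators (involutions) of a Sylow 2-subgroup -/
def sGen (s : Fin 3) : GL F9 F :=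
  glOf h2 hω (sg s) (sg s) ⟨(J3Cen.cMisc.1 s).2.2.2.2.2.2.1, (J3Cen.cMisc.1 s).2.2.2.2.2.2.1⟩
/-- a Sylow 2-subgroup -/
def S0G : Subgroup (GL F9 F) := Subgroup.closure (Set.range (sGen h2 hω))
/-- generators (involutions) of the extraspecial subgroup -/
def qGen (k : Fin 4) : GL F9 F :=
  glOf h2 hω (qg k) (qg k) ⟨(J3Cen.cMisc.2.1 k).1, (J3Cen.cMisc.2.1 k).1⟩
/-- the extraspecial subgroup -/
def QG : Subgroup (GL F9 F) := Subgroup.closure (Set.range (qGen h2 hω))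

theorem C1_facts : Nat.card (C1G h2 hω) = 1920 ∧
    (∀ x ∈ C1G h2 hω, ∃ i < 1920, (x : Matrix F9 F9 F) = decR F ω (L1c i)) ∧
    ∀ i < 1920, InG F ω (C1G h2 hω) (L1c i) :=
  expl h2 hω (by norm_num) (cGen h2 hω) cg (fun s => rfl) 1920 (by norm_num) L1c nxL parL
    J3Cen.cMisc.2.2.2.2.1 stepL parL_spec (fun i => norm_look _ _)
    (fun i hi j hj e => L1n_inj i j hi hj (unp_inj e))

theorem S0_facts : Nat.card (S0G h2 hω) = 128 ∧
    (∀ x ∈ S0G h2 hω, ∃ i < 128, (x : Matrix F9 F9 F) = decR F ω (S0c i)) ∧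
    ∀ i < 128, InG F ω (S0G h2 hω) (S0c i) :=
  expl h2 hω (by norm_num) (sGen h2 hω) sg (fun s => rfl) 128 (by norm_num) S0c nxS parS
    J3Cen.cMisc.2.2.2.2.2.1 stepS parS_spec (fun i => norm_look _ _)
    (fun i hi j hj e => look_inj S0tab 128 cNS i j hi hj e)

theorem Q_facts : Nat.card (QG h2 hω) = 32 ∧
    (∀ x ∈ QG h2 hω, ∃ i < 32, (x : Matrix F9 F9 F) = decR F ω (Qc i)) ∧
    ∀ i < 32, InG F ω (QG h2 hω) (Qc i) :=
  expl h2 hω (by norm_num) (qGen h2 hω) qg (fun s => rfl) 32 (by norm_num) Qc nxQ parQ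
    J3Cen.cMisc.2.2.2.2.2.2 stepQ parQ_spec (fun i => norm_look _ _)
    (fun i hi j hj e => look_inj Qtab 32 cNQ i j hi hj e)

omit [Finite F] in
theorem cGen_mem (s : Fin 3) : cGen h2 hω s ∈ threeJ3 F ω := by
  rw [J_eq h2 hω]
  obtain ⟨-, -, h1, h1', h1'', e, -⟩ := J3Cen.cMisc.1 s
  refine mem_of_inG (c := cg s) ?_ _ rfl
  rw [e]
  exact inG_T h2 hω _ _ _ h1 h1' h1''

omit [Finite F] in
theorem C1G_le : C1G h2 hω ≤ threeJ3 F ω := by
  unfold C1G
  rw [Subgroup.closure_le]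
  rintro _ ⟨s, rfl⟩
  exact cGen_mem h2 hω s

theorem sGen_mem (s : Fin 3) : sGen h2 hω s ∈ C1G h2 hω := by
  obtain ⟨-, -, -, -, -, -, -, hlt, e⟩ := J3Cen.cMisc.1 s
  refine mem_of_inG (c := sg s) ?_ _ rfl
  rw [e]
  exact (C1_facts h2 hω).2.2 _ hlt

theorem S0G_le : S0G h2 hω ≤ C1G h2 hω := by
  unfold S0G
  rw [Subgroup.closure_le]
  rintro _ ⟨s, rfl⟩
  exact sGen_mem h2 hω s

theorem qGen_mem (k : Fin 4) : qGen h2 hω k ∈ S0G h2 hω := by
  obtain ⟨-, hlt, e⟩ := J3Cen.cMisc.2.1 k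
  refine mem_of_inG (c := qg k) ?_ _ rfl
  rw [e]
  exact (S0_facts h2 hω).2.2 _ hlt

theorem QG_le : QG h2 hω ≤ S0G h2 hω := by
  unfold QG
  rw [Subgroup.closure_le]
  rintro _ ⟨k, rfl⟩
  exact qGen_mem h2 hω k

end Grp

/-! ### the subgroups inside `3.J3` -/

theorem cTQ : t0c = Qc 29 := by decide +kernel

theorem lookN_lt (w : Nat) (T : List Nat) (i : Nat) : lookN w T i < 2 ^ w :=
  Nat.mod_lt _ (Nat.two_pow_pos w)

theorem sg_clamp (w : Nat) (hw : w < 4) : ∃ s : Fin 3, sg w = sg s.val := by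
  interval_cases w
  exacts [⟨0, rfl⟩, ⟨1, rfl⟩, ⟨2, rfl⟩, ⟨2, rfl⟩]

theorem eq_of_central_cube {G : Type*} [Group G] {x y : G} (hx : x * x = 1) (hy : y * y = 1)
    (hc : ∀ g : G, g * (x * y⁻¹) = (x * y⁻¹) * g) (h3 : (x * y⁻¹) ^ 3 = 1) : x = y := by
  have e1 : x * y⁻¹ * (x * y⁻¹) = 1 := by
    calc x * y⁻¹ * (x * y⁻¹) = x * (y⁻¹ * (x * y⁻¹)) := by group
      _ = x * ((x * y⁻¹) * y⁻¹) := by rw [hc y⁻¹]
      _ = (x * x) * (y * y)⁻¹ := by group
      _ = 1 := by rw [hx, hy]; simp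
  have e2 : x * y⁻¹ = 1 := by
    have : (x * y⁻¹) ^ 3 = (x * y⁻¹) * (x * y⁻¹) * (x * y⁻¹) := by rw [pow_succ, pow_two]
    rw [this, e1, one_mul] at h3
    exact h3
  exact mul_inv_eq_one.mp e2

theorem invc_inj (i j : Nat) (hi : i < 9639) (hj : j < 9639) (h : invc i = invc j) : i = j := by
  have hadj : ∀ k, k + 1 < 9639 → invn k < invn (k + 1) := by
    intro k hk
    have h := cSrt_all k (by omega)
    unfold chkSrt at h
    simp only [Bool.or_eq_true, decide_eq_true_eq, Nat.blt_eq] at h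
    rcases h with h | h
    · omega
    · exact h
  exact inj_of_adj invn 9639 hadj i hi j hj (unp_inj h)

section Hat

variable {F : Type*} [Field F] [Finite F] {ω : F} (h2 : (2 : F) = 0) (hω : ω ^ 2 + ω + 1 = 0)

/-- the generators inside `3.J3` -/
def cH (s : Fin 3) : threeJ3 F ω := ⟨cGen h2 hω s, cGen_mem h2 hω s⟩
/-- the generators inside `3.J3` -/
def sH (s : Fin 3) : threeJ3 F ω := ⟨sGen h2 hω s, C1G_le h2 hω (sGen_mem h2 hω s)⟩
/-- the generators inside `3.J3` -/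
def qH (k : Fin 4) : threeJ3 F ω :=
  ⟨qGen h2 hω k, C1G_le h2 hω (S0G_le h2 hω (qGen_mem h2 hω k))⟩

/-- the centraliser of the involution in `3.J3`, up to the centre -/
def CH : Subgroup (threeJ3 F ω) := Subgroup.closure (Set.range (cH h2 hω))
/-- a Sylow 2-subgroup of `3.J3` -/
def SH : Subgroup (threeJ3 F ω) := Subgroup.closure (Set.range (sH h2 hω))
/-- the extraspecial subgroup -/
def QH : Subgroup (threeJ3 F ω) := Subgroup.closure (Set.range (qH h2 hω))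

theorem CH_map : (CH h2 hω).map (threeJ3 F ω).subtype = C1G h2 hω := by
  unfold CH C1G
  rw [MonoidHom.map_closure, ← Set.range_comp]
  rfl

theorem SH_map : (SH h2 hω).map (threeJ3 F ω).subtype = S0G h2 hω := by
  unfold SH S0G
  rw [MonoidHom.map_closure, ← Set.range_comp]
  rfl

theorem QH_map : (QH h2 hω).map (threeJ3 F ω).subtype = QG h2 hω := by
  unfold QH QG
  rw [MonoidHom.map_closure, ← Set.range_comp]
  rfl

omit [Finite F] in
theorem hat_facts (H : Subgroup (threeJ3 F ω)) (X : Subgroup (GL F9 F))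
    (hm : H.map (threeJ3 F ω).subtype = X) (n : ℕ) (u : ℕ → R9)
    (hf : Nat.card X = n ∧ (∀ x ∈ X, ∃ i < n, (x : Matrix F9 F9 F) = decR F ω (u i)) ∧
      ∀ i < n, InG F ω X (u i)) :
    Nat.card H = n ∧ (∀ x ∈ H, ∃ i < n, mt x = decR F ω (u i)) ∧
      ∀ i < n, ∀ x : threeJ3 F ω, mt x = decR F ω (u i) → x ∈ H := by
  subst hm
  refine ⟨?_, ?_, ?_⟩
  · rw [← hf.1]
    exact (Subgroup.card_map_of_injective (Subgroup.subtype_injective _)).symm
  · intro x hx
    exact hf.2.1 _ (Subgroup.mem_map_of_mem _ hx)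
  · intro i hi x hx
    obtain ⟨g, hg, e⟩ := hf.2.2 i hi
    obtain ⟨y, hy, rfl⟩ := Subgroup.mem_map.mp hg
    have : x = y := mt_inj (by rw [hx]; exact e.symm)
    rw [this]; exact hy

theorem CH_facts : Nat.card (CH h2 hω) = 1920 ∧
    (∀ x ∈ CH h2 hω, ∃ i < 1920, mt x = decR F ω (L1c i)) ∧
    ∀ i < 1920, ∀ x : threeJ3 F ω, mt x = decR F ω (L1c i) → x ∈ CH h2 hω :=
  hat_facts _ _ (CH_map h2 hω) 1920 L1c (C1_facts h2 hω)

theorem SH_facts : Nat.card (SH h2 hω) = 128 ∧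
    (∀ x ∈ SH h2 hω, ∃ i < 128, mt x = decR F ω (S0c i)) ∧
    ∀ i < 128, ∀ x : threeJ3 F ω, mt x = decR F ω (S0c i) → x ∈ SH h2 hω :=
  hat_facts _ _ (SH_map h2 hω) 128 S0c (S0_facts h2 hω)

theorem QH_facts : Nat.card (QH h2 hω) = 32 ∧
    (∀ x ∈ QH h2 hω, ∃ i < 32, mt x = decR F ω (Qc i)) ∧
    ∀ i < 32, ∀ x : threeJ3 F ω, mt x = decR F ω (Qc i) → x ∈ QH h2 hω :=
  hat_facts _ _ (QH_map h2 hω) 32 Qc (Q_facts h2 hω)

theorem mt_cH (s : Fin 3) : mt (cH h2 hω s) = decR F ω (cg s) := rfl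
theorem mt_sH (s : Fin 3) : mt (sH h2 hω s) = decR F ω (sg s) := rfl
theorem mt_qH (k : Fin 4) : mt (qH h2 hω k) = decR F ω (qg k) := rfl

theorem SH_le : SH h2 hω ≤ CH h2 hω := by
  refine (Subgroup.closure_le _).mpr ?_
  rintro _ ⟨s, rfl⟩
  obtain ⟨-, -, -, -, -, -, -, hlt, e⟩ := J3Cen.cMisc.1 s
  exact (CH_facts h2 hω).2.2 _ hlt _ (by rw [mt_sH, e])

theorem QH_le : QH h2 hω ≤ SH h2 hω := by
  refine (Subgroup.closure_le _).mpr ?_
  rintro _ ⟨k, rfl⟩
  obtain ⟨-, hlt, e⟩ := J3Cen.cMisc.2.1 k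
  exact (SH_facts h2 hω).2.2 _ hlt _ (by rw [mt_qH, e])

theorem t_mem_SH : t' h2 hω ∈ SH h2 hω :=
  (SH_facts h2 hω).2.2 _ J3Cen.cMisc.2.2.1 _ (by rw [mt_t, ← J3Cen.cMisc.2.2.2.1])

theorem t_mem_QH : t' h2 hω ∈ QH h2 hω :=
  (QH_facts h2 hω).2.2 29 (by norm_num) _ (by rw [mt_t, ← cTQ])

theorem cH_sq (s : Fin 3) : cH h2 hω s * cH h2 hω s = 1 := by
  apply mt_inj
  rw [mt_mul, mt_cH, ← decR_mul h2 hω, (J3Cen.cMisc.1 s).1, decR_one, mt_one]

theorem sH_sq (s : Fin 3) : sH h2 hω s * sH h2 hω s = 1 := by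
  apply mt_inj
  rw [mt_mul, mt_sH, ← decR_mul h2 hω, (J3Cen.cMisc.1 s).2.2.2.2.2.2.1, decR_one, mt_one]

theorem qH_sq (k : Fin 4) : qH h2 hω k * qH h2 hω k = 1 := by
  apply mt_inj
  rw [mt_mul, mt_qH, ← decR_mul h2 hω, (J3Cen.cMisc.2.1 k).1, decR_one, mt_one]

theorem cH_comm (s : Fin 3) : cH h2 hω s * t' h2 hω = t' h2 hω * cH h2 hω s := by
  apply mt_inj
  rw [mt_mul, mt_mul, mt_cH, mt_t, ← decR_mul h2 hω, ← decR_mul h2 hω, (J3Cen.cMisc.1 s).2.1]

theorem CH_comm : ∀ c ∈ CH h2 hω, c * t' h2 hω = t' h2 hω * c := by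
  intro c hc
  have hle : CH h2 hω ≤ Subgroup.centralizer {t' h2 hω} := by
    refine (Subgroup.closure_le _).mpr ?_
    rintro _ ⟨s, rfl⟩
    rw [SetLike.mem_coe, Subgroup.mem_centralizer_iff]
    intro x hx
    rw [Set.mem_singleton_iff.mp hx]
    exact (cH_comm h2 hω s).symm
  have := Subgroup.mem_centralizer_iff.mp (hle hc) _ rfl
  exact this.symm

/-- the projection to `J3` is injective on the centraliser subgroup -/
theorem qm_inj_CH {x y : threeJ3 F ω} (hx : x ∈ CH h2 hω) (hy : y ∈ CH h2 hω)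
    (h : qm x = qm y) : x = y := by
  have hw : x⁻¹ * y ∈ CH h2 hω := Subgroup.mul_mem _ (Subgroup.inv_mem _ hx) hy
  have hq : qm (x⁻¹ * y) = 1 := by rw [map_mul, map_inv, h, inv_mul_cancel]
  have hz : x⁻¹ * y ∈ Zs h2 hω := by
    rw [← center_J h2 hω]
    exact (QuotientGroup.eq_one_iff _).mp hq
  obtain ⟨i, hi, e⟩ := (CH_facts h2 hω).2.1 _ hw
  have hc := cLZ_all i hi
  unfold chkLZ at hc
  simp only [Bool.or_eq_true, decide_eq_true_eq, Bool.and_eq_true] at hc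
  rcases hc with hc | ⟨hc1, hc2⟩
  · omega
  rcases (mem_Zs h2 hω _).mp hz with h1 | h1 | h1
  · exact inv_mul_eq_one.mp h1
  · exfalso
    have h5 : L1c i = zc :=
      decR_inj h2 hω (norm_look _ _) (normc).2.1 (by rw [← e, h1, mt_z])
    exact hc1 h5
  · exfalso
    have h5 : L1c i = zc2 :=
      decR_inj h2 hω (norm_look _ _) (normc).2.2.1 (by rw [← e, h1, mt_z2])
    exact hc2 h5

/-- the centraliser subgroup normalises the extraspecial subgroup -/
theorem QH_norm : ∀ c ∈ CH h2 hω, ∀ q ∈ QH h2 hω, c * q * c⁻¹ ∈ QH h2 hω := by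
  have hgen : ∀ (s : Fin 3) (k : Fin 4),
      cH h2 hω s * qH h2 hω k * (cH h2 hω s)⁻¹ ∈ QH h2 hω := by
    intro s k
    have hc := allB_spec _ _ cQN (4 * s.val + k.val) (by omega)
    unfold chkQN at hc
    simp only [Bool.and_eq_true, decide_eq_true_eq] at hc
    have e1 : Nat.div (4 * s.val + k.val) 4 = s.val := by
      show (4 * s.val + k.val) / 4 = s.val; omega
    have e2 : Nat.mod (4 * s.val + k.val) 4 = k.val := by
      show (4 * s.val + k.val) % 4 = k.val; omega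
    rw [e1, e2] at hc
    obtain ⟨hlt, e⟩ := hc
    apply (QH_facts h2 hω).2.2 _ hlt
    have h3 : mt (cH h2 hω s * qH h2 hω k) =
        decR F ω (Qc (qn (4 * s.val + k.val))) * mt (cH h2 hω s) := by
      rw [mt_mul, mt_cH, mt_qH, ← decR_mul h2 hω, e, decR_mul h2 hω]
    rw [mt_mul, h3, mul_assoc, mt_mul_inv, mul_one]
  have hinv : ∀ s : Fin 3, ∀ q ∈ QH h2 hω, cH h2 hω s * q * (cH h2 hω s)⁻¹ ∈ QH h2 hω := by
    intro s
    have hle : QH h2 hω ≤ (QH h2 hω).comap (MulAut.conj (cH h2 hω s)).toMonoidHom := by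
      refine (Subgroup.closure_le _).mpr ?_
      rintro _ ⟨k, rfl⟩
      exact hgen s k
    intro q hq
    exact hle hq
  have hN : CH h2 hω ≤ Subgroup.normalizer ((QH h2 hω : Subgroup (threeJ3 F ω)) :
      Set (threeJ3 F ω)) := by
    refine (Subgroup.closure_le _).mpr ?_
    rintro _ ⟨s, rfl⟩
    exact Cfsg.Agent.H85.mem_normalizer_of_involution _ (cH_sq h2 hω s) (hinv s)
  intro c hc q hq
  exact (Subgroup.mem_normalizer_iff.mp (hN hc) q).mp hq

/-- only `1` and the involution centralise the extraspecial subgroup -/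
theorem cent_QH : ∀ c ∈ CH h2 hω, (∀ k : Fin 4, c * qH h2 hω k = qH h2 hω k * c) →
    c = 1 ∨ c = t' h2 hω := by
  intro c hc hcomm
  obtain ⟨i, hi, e⟩ := (CH_facts h2 hω).2.1 _ hc
  have h := cCQ_all i hi
  unfold chkCQ at h
  simp only [Bool.or_eq_true, decide_eq_true_eq] at h
  rcases h with ((h | h) | h) | h
  · omega
  · left; apply mt_inj; rw [e, h, decR_one, mt_one]
  · right; apply mt_inj; rw [e, h, mt_t]
  · exfalso
    apply h
    have hk : wq i < 4 := lookN_lt 2 _ _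
    have h1 := congrArg J3Main.mt (hcomm ⟨wq i, hk⟩)
    rw [mt_mul, mt_mul, e, mt_qH, ← decR_mul h2 hω, ← decR_mul h2 hω] at h1
    apply decR_inj h2 hω (norm_normR _) (norm_normR _)
    rw [decR_normR, decR_normR]
    exact h1

/-- the involution is the only central involution of the Sylow 2-subgroup -/
theorem cent_SH : ∀ x ∈ SH h2 hω, x * x = 1 → x ≠ 1 →
    (∀ s : Fin 3, x * sH h2 hω s = sH h2 hω s * x) → x = t' h2 hω := by
  intro x hx hxx hx1 hcomm
  obtain ⟨i, hi, e⟩ := (SH_facts h2 hω).2.1 _ hx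
  have h := allB_spec _ _ cZ i hi
  unfold chkZ at h
  simp only [Bool.or_eq_true, decide_eq_true_eq] at h
  rcases h with ((h | h) | h) | h
  · exfalso; apply hx1; apply mt_inj; rw [e, h, decR_one, mt_one]
  · apply mt_inj; rw [e, h, mt_t]
  · exfalso
    apply h
    apply decR_inj h2 hω (norm_normR _) norm_oneR
    rw [decR_normR, decR_mul h2 hω, ← e, ← mt_mul, hxx, mt_one, decR_one]
  · exfalso
    apply h
    obtain ⟨s, hs⟩ := sg_clamp (wz i) (lookN_lt 2 _ _)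
    have h1 := congrArg J3Main.mt (hcomm s)
    rw [mt_mul, mt_mul, e, mt_sH, ← decR_mul h2 hω, ← decR_mul h2 hω] at h1
    apply decR_inj h2 hω (norm_normR _) (norm_normR _)
    rw [decR_normR, decR_normR, hs]
    exact h1

/-- every involution of `3.J3` is conjugate to the chosen one -/
theorem inv_conj (x : threeJ3 F ω) (hx : x * x = 1) (hne : x ≠ 1) :
    ∃ g : threeJ3 F ω, g * t' h2 hω * g⁻¹ = x := by
  have : Fact (Nat.Prime 2) := ⟨Nat.prime_two⟩
  have hP : Nat.card ((P2G h2 hω).subgroupOf (threeJ3 F ω)) = 2 ^ 7 := by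
    rw [Nat.card_congr (Subgroup.subgroupOfEquivOfLe (P2G_le h2 hω)).toEquiv, (P2_facts h2 hω).1]
    norm_num
  have hG : ¬ 2 ^ (7 + 1) ∣ Nat.card (threeJ3 F ω) := by rw [(card_J h2 hω).1]; norm_num
  have ho : orderOf x = 2 := orderOf_eq_prime (by rw [pow_two]; exact hx) hne
  have hQ : IsPGroup 2 (Subgroup.zpowers x) := by
    apply IsPGroup.of_card (n := 1)
    rw [Nat.card_zpowers, ho]; norm_num
  obtain ⟨g, hg⟩ := J3Abs.exists_conj_le _ 7 hP hG _ hQ
  have hmem := hg x (Subgroup.mem_zpowers x)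
  rw [Subgroup.mem_subgroupOf] at hmem
  obtain ⟨i, hi, e⟩ := (P2_facts h2 hω).2.1 _ hmem
  have e' : mt (g * x * g⁻¹) = decR F ω (P2c i) := e
  have hc := allB_spec _ _ cJ i hi
  unfold chkJ at hc
  simp only [Bool.or_eq_true, Bool.and_eq_true, decide_eq_true_eq] at hc
  rcases hc with (hc | hc) | ⟨⟨⟨h1, h1'⟩, h1''⟩, h3⟩
  · exfalso
    have h1 : g * x * g⁻¹ = 1 := mt_inj (by rw [mt_one, e', hc, decR_one])
    apply hne
    have h' := congrArg (fun y => g⁻¹ * y * g) h1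
    simp only [mul_one, inv_mul_cancel] at h'
    rw [← h']; group
  · exfalso
    have ht2 : (g * x * g⁻¹) ^ 2 = 1 := by
      rw [pow_two]
      have : g * x * g⁻¹ * (g * x * g⁻¹) = g * (x * x) * g⁻¹ := by group
      rw [this, hx]; group
    have h1 : decR F ω (sqR (P2c i)) = decR F ω oneR := by
      rw [decR_sq h2 hω, ← e', ← mt_pow, ht2, mt_one, decR_one]
    exact decR_ne' h2 hω norm_oneR hc h1
  · obtain ⟨h, hhJ, hh⟩ := inG_T h2 hω _ _ _ h1 h1' h1''
    have hhJ' : h ∈ threeJ3 F ω := by rw [J_eq h2 hω]; exact hhJ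
    have hmt : mt (⟨h, hhJ'⟩ : threeJ3 F ω) = decR F ω (trip (cjTr i)) := hh
    generalize (⟨h, hhJ'⟩ : threeJ3 F ω) = h' at hmt
    have e1 : h' * (g * x * g⁻¹) = t' h2 hω * h' := by
      apply mt_inj
      rw [mt_mul, hmt, e', mt_mul (t' h2 hω) h', hmt, ← decR_mul h2 hω, h3, decR_mul h2 hω]
      rfl
    have e2 : x = (h' * g)⁻¹ * t' h2 hω * ((h' * g)⁻¹)⁻¹ := by
      have e3 : t' h2 hω = h' * (g * x * g⁻¹) * h'⁻¹ := by rw [e1]; group
      rw [e3]; group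
    exact ⟨(h' * g)⁻¹, e2.symm⟩

include h2 hω in
theorem rep_ex (m : Nat) (hm : m < 1377) : ∃ ρ : threeJ3 F ω, mt ρ = decR F ω (rep m) := by
  have h := cT_all m hm
  unfold chkT at h
  simp only [Bool.or_eq_true, decide_eq_true_eq, Bool.and_eq_true] at h
  rcases h with h | ⟨⟨⟨h1, h1'⟩, h1''⟩, e⟩
  · omega
  obtain ⟨g, hgJ, hg⟩ := inG_T h2 hω _ _ _ h1 h1' h1''
  have hgJ' : g ∈ threeJ3 F ω := by rw [J_eq h2 hω]; exact hgJ
  exact ⟨⟨g, hgJ'⟩, by rw [e]; exact hg⟩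

include h2 hω in
theorem inv_ex (i : Nat) (hi : i < 9639) :
    ∃ x : threeJ3 F ω, mt x = decR F ω (invc i) ∧ x * x = 1 ∧ x ≠ 1 := by
  have h := cI_all i hi
  unfold chkI at h
  simp only [Bool.or_eq_true, decide_eq_true_eq, Bool.and_eq_true] at h
  rcases h with h | ⟨⟨⟨⟨hm, hj⟩, e⟩, hsq⟩, hne⟩
  · omega
  obtain ⟨ρ, hρ⟩ := rep_ex h2 hω _ hm
  generalize Nat.div (srt i) 32 = m at hm e hρ
  generalize Nat.mod (srt i) 32 = j at hj e
  have hx : mt (a' h2 hω ^ j * ρ * a' h2 hω ^ (Nat.sub 19 j)) = decR F ω (invc i) := by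
    have hj' : Nat.mod j 19 = j := Nat.mod_eq_of_lt hj
    have h1 := apw_mod h2 hω j
    rw [hj'] at h1
    rw [e, decR_mul h2 hω, decR_mul h2 hω, mt_mul, mt_mul, hρ, apw_mod h2 hω (Nat.sub 19 j), h1]
  refine ⟨_, hx, ?_, ?_⟩
  · apply mt_inj
    rw [mt_mul, hx, ← decR_mul h2 hω, hsq, decR_one, mt_one]
  · intro h1
    have h5 : invc i = oneR :=
      decR_inj h2 hω (norm_look _ _) norm_oneR (by rw [← hx, h1, mt_one, decR_one])
    exact hne h5

include h2 hω in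
/-- 9639 distinct involutions of `3.J3` -/
theorem inv_family : ∃ x : Fin 9639 → threeJ3 F ω, (∀ i, x i * x i = 1 ∧ x i ≠ 1) ∧
    Function.Injective x := by
  choose x hx using fun i : Fin 9639 => inv_ex h2 hω i.val i.isLt
  refine ⟨x, fun i => (hx i).2, ?_⟩
  intro i j hij
  apply Fin.ext
  apply invc_inj _ _ i.isLt j.isLt
  have h5 : invc i.val = invc j.val :=
    decR_inj h2 hω (norm_look _ _) (norm_look _ _) (by rw [← (hx i).1, ← (hx j).1, hij])
  exact h5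

include h2 hω in
/-- involutions of `3.J3` with the same image in `J3` are equal -/
theorem inv_eq_of_qm {x y : threeJ3 F ω} (hx : x * x = 1) (hy : y * y = 1)
    (h : qm x = qm y) : x = y := by
  have hq : qm (x * y⁻¹) = 1 := by rw [map_mul, map_inv, h, mul_inv_cancel]
  have hz : x * y⁻¹ ∈ Subgroup.center (threeJ3 F ω) := (QuotientGroup.eq_one_iff _).mp hq
  have h3 : (x * y⁻¹) ^ 3 = 1 :=
    J3Out.Zs_pow h2 hω _ (by rw [← center_J h2 hω]; exact hz)
  exact eq_of_central_cube hx hy (fun g => Subgroup.mem_center_iff.mp hz g) h3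

end Hat

end Cfsg.Agent.Lib.Helper26.J3Cen
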