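import Cfsg.Agent.Lib.Helper26.J3Cen2
import Cfsg.Agent.Lib.Helper26.FusJ3

/-!
# The 2-fusion system of `J3` is simple
The centraliser of an involution of `J3`, its Sylow 2-subgroup and its extraspecial normal
subgroup satisfy the hypotheses of the criterion `FusJ3.simple_of_data`.  Helper26.
-/

set_option autoImplicit false
set_option maxRecDepth 100000
set_option linter.unusedSectionVars false

namespace Cfsg.Agent.Lib.Helper26.J3Cen

open Cfsg.Spor Cfsg.Agent.Lib.Helper26.J3Code Cfsg.Agent.Lib.Helper26.J3Main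
open Cfsg.Agent.Lib.Helper26.J3Gens Cfsg.Agent.Lib.Helper26.J3Tab
open Cfsg.Agent.Lib.Helper26.J3Out (qm t' mt_t t_mul qt_ne)

/-- counting: many conjugates bound the centraliser -/
theorem card_centralizer_le {G : Type*} [Group G] [Finite G] (t : G) (N : ℕ) (y : Fin N → G)
    (hy : Function.Injective y) (hconj : ∀ i, ∃ g : G, g * t * g⁻¹ = y i) :
    N * Nat.card (Subgroup.centralizer {t}) ≤ Nat.card G := by
  classical
  choose g hg using hconj
  have hinj : Function.Injective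
      (fun i : Fin N => (QuotientGroup.mk (g i) : G ⧸ Subgroup.centralizer {t})) := by
    intro i j hij
    apply hy
    have h1 : (g i)⁻¹ * g j ∈ Subgroup.centralizer {t} := QuotientGroup.eq.mp hij
    have h2 : t * ((g i)⁻¹ * g j) = (g i)⁻¹ * g j * t :=
      Subgroup.mem_centralizer_iff.mp h1 t rfl
    rw [← hg i, ← hg j]
    calc g i * t * (g i)⁻¹ = g i * (t * ((g i)⁻¹ * g j)) * (g j)⁻¹ := by group
      _ = g i * ((g i)⁻¹ * g j * t) * (g j)⁻¹ := by rw [h2]
      _ = g j * t * (g j)⁻¹ := by group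
  have h1 : N ≤ Nat.card (G ⧸ Subgroup.centralizer {t}) := by
    have := Nat.card_le_card_of_injective _ hinj
    simpa using this
  rw [Subgroup.card_eq_card_quotient_mul_card_subgroup (Subgroup.centralizer {t})]
  exact Nat.mul_le_mul_right _ h1

section J

variable {F : Type*} [Field F] [Finite F] {ω : F} (h2 : (2 : F) = 0) (hω : ω ^ 2 + ω + 1 = 0)

/-- the centraliser of the involution in `J3` -/
def CJ : Subgroup (J3 F ω) := (CH h2 hω).map qm
/-- a Sylow 2-subgroup of `J3` -/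
def SJ : Subgroup (J3 F ω) := (SH h2 hω).map qm
/-- the extraspecial subgroup of `J3` -/
def QJ : Subgroup (J3 F ω) := (QH h2 hω).map qm

theorem card_map_qm (H : Subgroup (threeJ3 F ω)) (hH : H ≤ CH h2 hω) :
    Nat.card (H.map qm) = Nat.card H := by
  have hinj : Function.Injective ((qm : threeJ3 F ω →* J3 F ω).comp H.subtype) := by
    intro x y hxy
    exact Subtype.ext (qm_inj_CH h2 hω (hH x.2) (hH y.2) hxy)
  have e : H.map qm = ((qm : threeJ3 F ω →* J3 F ω).comp H.subtype).range := by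
    rw [MonoidHom.range_comp, Subgroup.range_subtype]
  rw [e]
  exact (Nat.card_congr (MonoidHom.ofInjective hinj).toEquiv).symm

theorem card_CJ : Nat.card (CJ h2 hω) = 1920 := by
  unfold CJ
  rw [card_map_qm h2 hω _ le_rfl, (CH_facts h2 hω).1]

theorem card_SJ : Nat.card (SJ h2 hω) = 128 := by
  unfold SJ
  rw [card_map_qm h2 hω _ (SH_le h2 hω), (SH_facts h2 hω).1]

theorem card_QJ : Nat.card (QJ h2 hω) = 32 := by
  unfold QJ
  rw [card_map_qm h2 hω _ ((QH_le h2 hω).trans (SH_le h2 hω)), (QH_facts h2 hω).1]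

theorem CJ_le : CJ h2 hω ≤ Subgroup.centralizer {(qm (t' h2 hω) : J3 F ω)} := by
  intro g hg
  obtain ⟨c, hc, rfl⟩ := Subgroup.mem_map.mp hg
  rw [Subgroup.mem_centralizer_iff]
  intro x hx
  rw [Set.mem_singleton_iff.mp hx, ← map_mul, ← map_mul, CH_comm h2 hω c hc]

/-- the centraliser of the involution of `J3` -/
theorem cent_eq : Subgroup.centralizer {(qm (t' h2 hω) : J3 F ω)} = CJ h2 hω := by
  symm
  apply Subgroup.eq_of_le_of_card_ge (CJ_le h2 hω)
  obtain ⟨x, hx, hxinj⟩ := inv_family h2 hω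
  have hcard := card_centralizer_le (qm (t' h2 hω) : J3 F ω) 9639 (fun i => qm (x i))
    (fun i j hij => hxinj (inv_eq_of_qm h2 hω (hx i).1 (hx j).1 hij))
    (fun i => by
      obtain ⟨g, hg⟩ := inv_conj h2 hω (x i) (hx i).1 (hx i).2
      exact ⟨qm g, by rw [← map_inv, ← map_mul, ← map_mul, hg]⟩)
  have hd1 := Subgroup.card_dvd_of_le (CJ_le h2 hω)
  have hd2 : Nat.card (Subgroup.centralizer {(qm (t' h2 hω) : J3 F ω)}) ∣ Nat.card (J3 F ω) :=
    Subgroup.card_subgroup_dvd_card _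
  rw [(main_thm h2 hω).2.2.1] at hd2 hcard
  rw [card_CJ h2 hω] at hd1 ⊢
  obtain ⟨k, hk⟩ := hd1
  rw [hk] at hd2 hcard ⊢
  have hk2 : k ≤ 2 := by omega
  interval_cases k
  · norm_num at hd2
  · norm_num
  · norm_num at hd2

/-- the data of the simplicity criterion for `J3` -/
theorem j3_data : FusJ3.Data (SJ h2 hω) (qm (t' h2 hω) : J3 F ω) (QJ h2 hω) := by
  have hmemC : ∀ g : J3 F ω, g * qm (t' h2 hω) = qm (t' h2 hω) * g → g ∈ CJ h2 hω := by
    intro g hg
    rw [← cent_eq h2 hω, Subgroup.mem_centralizer_iff]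
    intro x hx
    rw [Set.mem_singleton_iff.mp hx]; exact hg.symm
  refine ⟨?_, qt_ne h2 hω, ?_, ?_, ?_, ?_, ?_, ?_, ?_, ?_, ?_⟩
  · rw [← map_mul, t_mul, map_one]
  · intro u huu hu1
    obtain ⟨x, hx2, hxne, rfl⟩ := J3Out.lift_inv h2 hω u huu hu1
    obtain ⟨g, hg⟩ := inv_conj h2 hω x hx2 hxne
    exact ⟨qm g, by rw [← map_inv, ← map_mul, ← map_mul, hg]⟩
  · intro T hT
    have hle : SH h2 hω ≤ T.comap qm := by
      refine (Subgroup.closure_le _).mpr ?_
      rintro _ ⟨s, rfl⟩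
      show qm (sH h2 hω s) ∈ T
      exact hT _ (Subgroup.mem_map_of_mem _ (Subgroup.subset_closure ⟨s, rfl⟩))
        (by rw [← map_mul, sH_sq, map_one])
    exact Subgroup.map_le_iff_le_comap.mpr hle
  · exact Subgroup.mem_map_of_mem _ (t_mem_SH h2 hω)
  · intro u hu
    obtain ⟨s, hs, rfl⟩ := Subgroup.mem_map.mp hu
    rw [← map_mul, ← map_mul, CH_comm h2 hω s (SH_le h2 hω hs)]
  · intro u hu huu hu1 hcen
    obtain ⟨x, hx, rfl⟩ := Subgroup.mem_map.mp hu
    have hxC := SH_le h2 hω hx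
    have hxx : x * x = 1 :=
      qm_inj_CH h2 hω (Subgroup.mul_mem _ hxC hxC) (Subgroup.one_mem _)
        (by rw [map_mul, map_one]; exact huu)
    have hx1 : x ≠ 1 := fun e => hu1 (by rw [e, map_one])
    have hcomm : ∀ s : Fin 3, x * sH h2 hω s = sH h2 hω s * x := by
      intro s
      have hsS : sH h2 hω s ∈ SH h2 hω := Subgroup.subset_closure ⟨s, rfl⟩
      have hsC := SH_le h2 hω hsS
      apply qm_inj_CH h2 hω (Subgroup.mul_mem _ hxC hsC) (Subgroup.mul_mem _ hsC hxC)
      rw [map_mul, map_mul]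
      exact (hcen _ (Subgroup.mem_map_of_mem _ hsS)).symm
    rw [cent_SH h2 hω x hx hxx hx1 hcomm]
  · exact Subgroup.map_mono (QH_le h2 hω)
  · intro g hg y hy
    obtain ⟨q, hq, rfl⟩ := Subgroup.mem_map.mp hy
    obtain ⟨c, hc, rfl⟩ := Subgroup.mem_map.mp (hmemC g hg)
    rw [← map_inv, ← map_mul, ← map_mul]
    exact Subgroup.mem_map_of_mem _ (QH_norm h2 hω c hc q hq)
  · intro g hg
    have hgt : g * qm (t' h2 hω) = qm (t' h2 hω) * g :=
      hg _ (Subgroup.mem_map_of_mem _ (t_mem_QH h2 hω))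
    obtain ⟨c, hc, rfl⟩ := Subgroup.mem_map.mp (hmemC g hgt)
    have hcomm : ∀ k : Fin 4, c * qH h2 hω k = qH h2 hω k * c := by
      intro k
      have hqQ : qH h2 hω k ∈ QH h2 hω := Subgroup.subset_closure ⟨k, rfl⟩
      have hqC := SH_le h2 hω (QH_le h2 hω hqQ)
      apply qm_inj_CH h2 hω (Subgroup.mul_mem _ hc hqC) (Subgroup.mul_mem _ hqC hc)
      rw [map_mul, map_mul]
      exact hg _ (Subgroup.mem_map_of_mem _ hqQ)
    rcases cent_QH h2 hω c hc hcomm with h1 | h1
    · rw [h1, map_one]; exact Subgroup.one_mem _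
    · rw [h1]; exact Subgroup.mem_map_of_mem _ (t_mem_SH h2 hω)
  · intro K hK g hg
    have hle : CH h2 hω ≤ K.comap qm := by
      refine (Subgroup.closure_le _).mpr ?_
      rintro _ ⟨s, rfl⟩
      show qm (cH h2 hω s) ∈ K
      exact hK _ (by rw [← map_mul, cH_sq, map_one])
        (by rw [← map_mul, ← map_mul, cH_comm])
    exact (Subgroup.map_le_iff_le_comap.mpr hle) (hmemC g hg)

include h2 hω in
/-- the `2`-fusion system of a group isomorphic to `J3` is simple -/
theorem j3_simple_fs {G : Type*} [Group G] [Finite G] (e : G ≃* J3 F ω) (S : Sylow 2 G) :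
    (Cfsg.groupFusionSystem (S : Subgroup G)).IsSimple 2 := by
  have hd := (j3_data h2 hω).map e.symm
  have hcS : Nat.card ((SJ h2 hω).map e.symm.toMonoidHom) = 2 ^ 7 := by
    rw [Subgroup.card_map_of_injective e.symm.injective, card_SJ h2 hω]
    norm_num
  have hcG : ¬ 2 ^ (7 + 1) ∣ Nat.card G := by
    rw [Nat.card_congr e.toEquiv, (main_thm h2 hω).2.2.1]; norm_num
  exact FusJ3.simple_of_data' hd 7 hcS hcG S

end J

end Cfsg.Agent.Lib.Helper26.J3Cen
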