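import Cfsg.Agent.Lib.Helper26.J3Tab

/-!
# Kernel checks of the coset chain tables of 3.J3 (generated)
Helper26.
-/

set_option autoImplicit false
set_option maxRecDepth 100000

namespace Cfsg.Agent.Lib.Helper26.J3Tab

open Cfsg.Agent.Lib.Helper26.J3Code

theorem c3a : allB (fun l => chk3 l) 720 = true := by decide +kernel

theorem c3b : allB (fun l => chk3 (720 + l)) 720 = true := by decide +kernel

theorem cP3 : allB chkP3 1440 = true := by decide +kernel

theorem c2 : allB chk2 17 = true := by decide +kernel

theorem cP2 : allB chkP2 17 = true := by decide +kernel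

theorem cP1 : allB chkP1 6156 = true := by decide +kernel

theorem c0 : U1c 0 = oneR ∧ U2c 0 = oneR ∧ L3c 0 = oneR := by decide +kernel

end Cfsg.Agent.Lib.Helper26.J3Tab
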