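import Cfsg.Agent.Lib.Helper26.J3Tab

/-!
# Kernel checks of the top coset table of 3.J3, part 3 (generated)
Helper26.
-/

set_option autoImplicit false
set_option maxRecDepth 100000

namespace Cfsg.Agent.Lib.Helper26.J3Tab

open Cfsg.Agent.Lib.Helper26.J3Code

theorem c1_9 : allB (fun i => chk1 (4617 + i)) 513 = true := by decide +kernel

theorem c1_10 : allB (fun i => chk1 (5130 + i)) 513 = true := by decide +kernel

theorem c1_11 : allB (fun i => chk1 (5643 + i)) 513 = true := by decide +kernel

end Cfsg.Agent.Lib.Helper26.J3Tab
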