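import Cfsg.Agent.Lib.Helper26.J3Tab2

/-!
# Kernel checks for the Sylow subgroups and certificates of 3.J3 (generated)
Helper26.
-/

set_option autoImplicit false
set_option maxRecDepth 100000

namespace Cfsg.Agent.Lib.Helper26.J3Tab

open Cfsg.Spor Cfsg.Agent.Lib.Helper26.J3Code Cfsg.Agent.Lib.Helper26.J3Gens

theorem cS2 : allB chkS2 128 = true := by decide +kernel
theorem cPS2 : allB chkPS2 128 = true := by decide +kernel
theorem cC2 : allB chkC2 128 = true := by decide +kernel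
theorem cN2 : ((List.range 128).map P2n).Nodup := by decide +kernel
theorem cS3a : allB chkS3 365 = true := by decide +kernel
theorem cS3b : allB (fun l => chkS3 (365 + l)) 364 = true := by decide +kernel
theorem cPS3 : allB chkPS3 729 = true := by decide +kernel
theorem cC3 : allB chkC3 729 = true := by decide +kernel
theorem cN3 : ((List.range 729).map P3n).Nodup := by decide +kernel
theorem c0' : P2c 0 = oneR ∧ P3c 0 = oneR := by decide +kernel
theorem cinv2 : ∀ s : Fin 3, mulR (p2g s) (p2gi s) = oneR ∧ mulR (p2gi s) (p2g s) = oneR := by decide +kernel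
theorem ctr2 : ∀ s : Fin 3, (p2tr s).1 < 6156 ∧ (p2tr s).2.1 < 17 ∧ (p2tr s).2.2 < 1440 ∧
    mulR (U1c (p2tr s).1) (mulR (U2c (p2tr s).2.1) (L3c (p2tr s).2.2)) = p2g s := by decide +kernel
theorem cp3f : ∀ s : Fin 6, (p3f s).1 < 3 := by decide
theorem cx5 : cubeR (s2c 1) = x5c ∧ pw 5 x5c = oneR ∧ x5c ≠ oneR ∧ pw 17 (s2c 4) = oneR ∧ s2c 4 ≠ oneR := by
  decide +kernel
theorem cab : pw 19 ga = oneR ∧ pw 19 gb = oneR ∧ normR (mulR ga gb) ≠ normR (mulR gb ga) := by decide +kernel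
theorem cz : s2c 3 = zc ∧ mulR zc zc = zc2 ∧ mulR zc zc2 = oneR ∧ zc ≠ oneR ∧ zc2 ≠ oneR ∧ zc ≠ zc2 := by
  decide +kernel
theorem ccert : certOK x5c cert5c cert5t = true ∧ cert5t / 8192 = 19 ∧
    certOK (s2c 4) cert17c cert17t = true ∧ cert17t / 8192 = 19 := by decide +kernel
theorem cnorm : ∀ i : Fin 9, x5c.row i < 2 ^ 18 ∧ zc.row i < 2 ^ 18 ∧ zc2.row i < 2 ^ 18 ∧
    ga.row i < 2 ^ 18 ∧ gb.row i < 2 ^ 18 ∧ (∀ s : Fin 5, (s2c s).row i < 2 ^ 18) := by decide +kernel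

end Cfsg.Agent.Lib.Helper26.J3Tab
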