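import Mathlib
import Cfsg.Prelude.Def_Spor_J3

/-!
# Packed 9 x 9 matrices over the field with four elements (kernel-friendly arithmetic)

A matrix is a structure `R9` of nine rows; a row is a natural number whose bits `2j`, `2j+1`
hold the coefficient `lo + hi * w` of column `j` (`w` a root of `w^2 + w + 1`).
`mulR` is the matrix product, written with raw `Nat` bit operations so that the kernel
evaluates it fast; `decR` decodes into `Matrix F9 F9 F` and `decR_mul` is the correctness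
statement.  Helper26.
-/

set_option autoImplicit false

namespace Cfsg.Agent.Lib.Helper26.J3Code

open Cfsg.Spor

/-- nine packed rows -/
structure R9 where
  r0 : Nat
  r1 : Nat
  r2 : Nat
  r3 : Nat
  r4 : Nat
  r5 : Nat
  r6 : Nat
  r7 : Nat
  r8 : Nat
deriving DecidableEq

/-- row `i` (rows beyond 8 read as row 8) -/
def R9.row (m : R9) : Nat → Nat
  | 0 => m.r0
  | 1 => m.r1
  | 2 => m.r2
  | 3 => m.r3
  | 4 => m.r4
  | 5 => m.r5
  | 6 => m.r6
  | 7 => m.r7
  | _ => m.r8

/-- multiplication of a packed row by `w` -/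
def mulw (r : Nat) : Nat :=
  Nat.lor (Nat.shiftLeft (Nat.xor (Nat.land (Nat.shiftRight r 1) 87381) (Nat.land r 87381)) 1)
    (Nat.land (Nat.shiftRight r 1) 87381)

/-- packed row times matrix -/
def rowmul (r : Nat) (b : R9) : Nat :=
  Nat.xor (Nat.xor (Nat.xor (Nat.xor (Nat.xor (Nat.xor (Nat.xor (Nat.xor (Nat.xor (Nat.mul (Nat.land (Nat.shiftRight r 0) 1) b.r0) (Nat.mul (Nat.land (Nat.shiftRight r 2) 1) b.r1)) (Nat.mul (Nat.land (Nat.shiftRight r 4) 1) b.r2)) (Nat.mul (Nat.land (Nat.shiftRight r 6) 1) b.r3)) (Nat.mul (Nat.land (Nat.shiftRight r 8) 1) b.r4)) (Nat.mul (Nat.land (Nat.shiftRight r 10) 1) b.r5)) (Nat.mul (Nat.land (Nat.shiftRight r 12) 1) b.r6)) (Nat.mul (Nat.land (Nat.shiftRight r 14) 1) b.r7)) (Nat.mul (Nat.land (Nat.shiftRight r 16) 1) b.r8))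
    (mulw (Nat.xor (Nat.xor (Nat.xor (Nat.xor (Nat.xor (Nat.xor (Nat.xor (Nat.xor (Nat.mul (Nat.land (Nat.shiftRight r 1) 1) b.r0) (Nat.mul (Nat.land (Nat.shiftRight r 3) 1) b.r1)) (Nat.mul (Nat.land (Nat.shiftRight r 5) 1) b.r2)) (Nat.mul (Nat.land (Nat.shiftRight r 7) 1) b.r3)) (Nat.mul (Nat.land (Nat.shiftRight r 9) 1) b.r4)) (Nat.mul (Nat.land (Nat.shiftRight r 11) 1) b.r5)) (Nat.mul (Nat.land (Nat.shiftRight r 13) 1) b.r6)) (Nat.mul (Nat.land (Nat.shiftRight r 15) 1) b.r7)) (Nat.mul (Nat.land (Nat.shiftRight r 17) 1) b.r8)))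

/-- matrix product -/
def mulR (a b : R9) : R9 := ⟨rowmul a.r0 b, rowmul a.r1 b, rowmul a.r2 b, rowmul a.r3 b, rowmul a.r4 b, rowmul a.r5 b, rowmul a.r6 b, rowmul a.r7 b, rowmul a.r8 b⟩

/-- unpack a 162-bit code into rows -/
def unp (c : Nat) : R9 := ⟨Nat.land (Nat.shiftRight c 0) 262143, Nat.land (Nat.shiftRight c 18) 262143, Nat.land (Nat.shiftRight c 36) 262143, Nat.land (Nat.shiftRight c 54) 262143, Nat.land (Nat.shiftRight c 72) 262143, Nat.land (Nat.shiftRight c 90) 262143, Nat.land (Nat.shiftRight c 108) 262143, Nat.land (Nat.shiftRight c 126) 262143, Nat.land (Nat.shiftRight c 144) 262143⟩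

/-- the identity matrix -/
def oneR : R9 := ⟨1, 4, 16, 64, 256, 1024, 4096, 16384, 65536⟩

/-- `n`-th entry of a list (0 beyond the end) -/
def nth : List Nat → Nat → Nat
  | [], _ => 0
  | x :: _, 0 => x
  | _ :: xs, n + 1 => nth xs n

/-- entry `i` of a table of 162-bit codes stored 256 to a chunk -/
def look (T : List Nat) (i : Nat) : R9 :=
  unp (Nat.shiftRight (nth T (Nat.div i 256)) (Nat.mul 162 (Nat.mod i 256)))

/-- entry `i` of a table of `w`-bit numbers stored 256 to a chunk -/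
def lookN (w : Nat) (T : List Nat) (i : Nat) : Nat :=
  Nat.mod (Nat.shiftRight (nth T (Nat.div i 256)) (Nat.mul w (Nat.mod i 256))) (Nat.pow 2 w)


/-! ### decoding -/

/-- position of an index in `0..8` -/
def ix (z : F9) : Nat := 3 * z.1.val + z.2.val

theorem ix_lt (z : F9) : ix z < 9 := by revert z; decide

/-- the index set as `Fin 9` -/
def e9 : F9 ≃ Fin 9 where
  toFun u := ⟨ix u, ix_lt u⟩
  invFun k := (((k.val / 3 : ℕ) : ZMod 3), ((k.val % 3 : ℕ) : ZMod 3))
  left_inv := by decide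
  right_inv := by decide

theorem sum_ix {M : Type*} [AddCommMonoid M] (g : Nat → M) :
    ∑ u : F9, g (ix u) = ∑ k ∈ Finset.range 9, g k := by
  rw [← Fin.sum_univ_eq_sum_range g 9, ← Equiv.sum_comp e9]
  rfl

theorem tb_eq (r k : Nat) : Nat.land (Nat.shiftRight r k) 1 = (r.testBit k).toNat := by
  show (r >>> k) &&& 1 = _
  rw [Nat.and_one_is_mod, Nat.shiftRight_eq_div_pow, Nat.toNat_testBit]

theorem m_tb : ∀ k : Fin 18, Nat.testBit 87381 k.val = decide (k.val % 2 = 0) := by decide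

theorem m_tb' (k : Nat) (hk : k < 18) : Nat.testBit 87381 k = decide (k % 2 = 0) := m_tb ⟨k, hk⟩

theorem mulw_even (x j : Nat) (hj : j < 9) : (mulw x).testBit (2 * j) = x.testBit (2 * j + 1) := by
  show (((x >>> 1 &&& 87381) ^^^ (x &&& 87381)) <<< 1 ||| (x >>> 1 &&& 87381)).testBit _ = _
  simp only [Nat.testBit_or, Nat.testBit_shiftLeft, Nat.testBit_xor, Nat.testBit_and,
    Nat.testBit_shiftRight]
  interval_cases j <;> simp (decide := true) [m_tb']

theorem mulw_odd (x j : Nat) (hj : j < 9) :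
    (mulw x).testBit (2 * j + 1) = (x.testBit (2 * j + 1) ^^ x.testBit (2 * j)) := by
  show (((x >>> 1 &&& 87381) ^^^ (x &&& 87381)) <<< 1 ||| (x >>> 1 &&& 87381)).testBit _ = _
  simp only [Nat.testBit_or, Nat.testBit_shiftLeft, Nat.testBit_xor, Nat.testBit_and,
    Nat.testBit_shiftRight]
  interval_cases j <;> simp (decide := true) [m_tb']

theorem row_mulR (a b : R9) (i : Nat) (hi : i < 9) : (mulR a b).row i = rowmul (a.row i) b := by
  interval_cases i <;> rfl

section Field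

variable (F : Type*) [Field F] (ω : F)

/-- the coefficient of column `j` in the packed row `r` -/
def val (r j : Nat) : F :=
  ((r.testBit (2 * j)).toNat : F) + ω * ((r.testBit (2 * j + 1)).toNat : F)

/-- the matrix of a code -/
def decR (m : R9) : Matrix F9 F9 F := fun w z => val F ω (m.row (ix w)) (ix z)

variable {F} {ω}

theorem bcast (h2 : (2 : F) = 0) (a b : Bool) :
    (((a ^^ b).toNat : ℕ) : F) = ((a.toNat : ℕ) : F) + ((b.toNat : ℕ) : F) := by
  have h11 : (1 : F) + 1 = 0 := by rw [one_add_one_eq_two]; exact h2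
  cases a <;> cases b <;> simp [h11]

theorem val_xor (h2 : (2 : F) = 0) (x y j : Nat) :
    val F ω (Nat.xor x y) j = val F ω x j + val F ω y j := by
  unfold val
  show ((((x ^^^ y).testBit _).toNat : ℕ) : F) + ω * ((((x ^^^ y).testBit _).toNat : ℕ) : F) = _
  rw [Nat.testBit_xor, Nat.testBit_xor, bcast h2, bcast h2]
  ring

theorem val_sel (r k x j : Nat) :
    val F ω (Nat.mul (Nat.land (Nat.shiftRight r k) 1) x) j
      = (((r.testBit k).toNat : ℕ) : F) * val F ω x j := by
  rw [tb_eq]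
  cases r.testBit k <;> simp [val]

theorem val_mulw (h2 : (2 : F) = 0) (hω : ω ^ 2 + ω + 1 = 0) (x j : Nat) (hj : j < 9) :
    val F ω (mulw x) j = ω * val F ω x j := by
  unfold val
  rw [mulw_even x j hj, mulw_odd x j hj, bcast h2]
  linear_combination (((x.testBit (2 * j + 1)).toNat : ℕ) : F) * hω
    - (((x.testBit (2 * j + 1)).toNat : ℕ) : F) * ω ^ 2 * h2

theorem val_rowmul (h2 : (2 : F) = 0) (hω : ω ^ 2 + ω + 1 = 0) (r : Nat) (b : R9) (j : Nat)
    (hj : j < 9) :
    val F ω (rowmul r b) j = ∑ k ∈ Finset.range 9, val F ω r k * val F ω (b.row k) j := by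
  unfold rowmul
  rw [val_xor h2, val_mulw h2 hω _ j hj]
  simp only [val_xor h2, val_sel]
  simp only [Finset.sum_range_succ, Finset.sum_range_zero, R9.row]
  unfold val
  ring

theorem decR_mul (h2 : (2 : F) = 0) (hω : ω ^ 2 + ω + 1 = 0) (a b : R9) :
    decR F ω (mulR a b) = decR F ω a * decR F ω b := by
  ext w z
  rw [Matrix.mul_apply]
  show val F ω ((mulR a b).row (ix w)) (ix z) = ∑ u : F9, val F ω (a.row (ix w)) (ix u) *
    val F ω (b.row (ix u)) (ix z)
  rw [row_mulR a b _ (ix_lt w), val_rowmul h2 hω _ _ _ (ix_lt z),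
    sum_ix (fun k => val F ω (a.row (ix w)) k * val F ω (b.row k) (ix z))]

theorem oneR_bits : ∀ w z : F9, (oneR.row (ix w)).testBit (2 * ix z) = decide (w = z) ∧
    (oneR.row (ix w)).testBit (2 * ix z + 1) = false := by decide

theorem decR_one : decR F ω oneR = 1 := by
  ext w z
  show val F ω (oneR.row (ix w)) (ix z) = _
  unfold val
  rw [(oneR_bits w z).1, (oneR_bits w z).2, Matrix.one_apply]
  by_cases h : w = z <;> simp [h]

end Field

end Cfsg.Agent.Lib.Helper26.J3Code
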