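import Cfsg.Agent.Lib.Helper26.J3Tab

/-!
# The generating matrices of 3.J3 as codes (generated data + bridge to the definitions)
Helper26.
-/

set_option autoImplicit false
set_option maxRecDepth 100000

namespace Cfsg.Agent.Lib.Helper26.J3Gens

open Cfsg.Spor Cfsg.Agent.Lib.Helper26.J3Code Cfsg.Agent.Lib.Helper26.J3Tab

def GENtab : List Nat := [
  0x10000100001000010000100001000010000100001,
  0x30000200001000030000200001000030000200001,
  0x20000300001000020000300001000020000300001,
  0x30000300003000020000200002000010000100001,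
  0x20000100003000010000300002000030000200001,
  0x10000200003000030000100002000020000300001,
  0x20000200002000030000300003000010000100001,
  0x10000300002000020000100003000030000200001,
  0x30000100002000010000200003000020000300001,
  0x30000300002000030000300002000020000200001,
  0x30000200003000030000200003000020000100002,
  0x20000300003000020000300003000010000200002,
  0x30000300002000020000200001000030000300002,
  0x30000200003000020000100002000030000200003,
  0x20000300003000010000200002000020000300003,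
  0x20000200001000030000300002000030000300002,
  0x20000100002000030000200003000030000200003,
  0x10000200002000020000300003000020000300003,
  0x10000100001000010000100001000010000100001,
  0x800004001000000c000040010000004000040010,
  0x1000c00004000001000800004000001000400004,
  0xc00008000040000400004000050000100001000,
  0x1000010004000001000010008040000c0010000,
  0x40010000100000040010000302000400004000,
  0x1000010000180000c000040000400004000040,
  0x4000040030100001000400000100002000400,
  0x10004000080400100001000000c0010000100,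
  0,
  0x4000004000004400000400000401000001000001,
  0x400400000010004004000000100040040000001,
  0x10000100001000010000100001000010000100001,
  0x1000000100400000400040100000100400000001,
  0x10040000100001000004400004000010000001,
  0x100010000040100010000040000004000400001,
  0x4001010000040000010004000400100000001,
  0x40000404000000101000010010000004000001,
  0,
  0x14400414001044504004500041400054040500001,
  0x4500504001050414014400041101014001500001,
  0x14100510000054114010500040501050041100001,
  0x54041104500041401014510010500504000001,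
  0x1050001510500040501044504014400114000001,
  0x10500114001014510014100001501044041400001,
  0x1044040514100001501050414004500510000001,
  0x1014041414400041100054114014100414000001]

def GENItab : List Nat := [
  0x10000100001000010000100001000010000100001,
  0x20000300001000020000300001000020000300001,
  0x30000200001000030000200001000030000200001,
  0x20000200002000030000300003000010000100001,
  0x30000100002000010000200003000020000300001,
  0x10000300002000020000100003000030000200001,
  0x30000300003000020000200002000010000100001,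
  0x10000200003000030000100002000020000300001,
  0x20000100003000010000300002000030000200001,
  0x20000200003000020000200003000030000300001,
  0x20000300002000020000300002000030000100003,
  0x30000200002000030000200002000010000300003,
  0x20000200003000030000300001000020000200003,
  0x20000300002000030000100003000020000300002,
  0x30000200002000010000300003000030000200002,
  0x30000300001000020000200003000020000200003,
  0x30000100003000020000300002000020000300002,
  0x10000300003000030000200002000030000200002,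
  0x10000100001000010000100001000010000100001,
  0x1000c00004000001000800004000001000400004,
  0x800004001000000c000040010000004000040010,
  0x1000010000180000c000040000400004000040,
  0x10004000080400100001000000c0010000100,
  0x4000040030100001000400000100002000400,
  0xc00008000040000400004000050000100001000,
  0x40010000100000040010000302000400004000,
  0x1000010004000001000010008040000c0010000,
  0x0,
  0x400400000010004004000000100040040000001,
  0x4000004000004400000400000401000001000001,
  0x10000100001000010000100001000010000100001,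
  0x4001010000040000010004000400100000001,
  0x40000404000000101000010010000004000001,
  0x100010000040100010000040000004000400001,
  0x1000000100400000400040100000100400000001,
  0x10040000100001000004400004000010000001,
  0x0,
  0x14400414001044504004500041400054040500001,
  0x4500504001050414014400041101014001500001,
  0x14100510000054114010500040501050041100001,
  0x54041104500041401014510010500504000001,
  0x1050001510500040501044504014400114000001,
  0x10500114001014510014100001501044041400001,
  0x1044040514100001501050414004500510000001,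
  0x1014041414400041100054114014100414000001]

def TRtab : List Nat := [
  0x72005dd68213a2b475a4d13d19c4af3097d511c8253b0773901a9356f200000006f09a2f0a16cfec1d9a3c1010e0772f6e1a080000001fa39453628a69a00000001c444f1c71823c0729f5ef75ef33512834d548c906a23fca78a278467e80000000d0010292ac336ba9cb9ec08d004e5b0b985351929344c4caa33ee0556eb33ca08a7c555fa1493c1138610904688e22cfc75c146439ad1d36b076921ad420000000]

def waL : List (Nat × F9) := [(0, (0, 1)), (2, (1, 0)), (2, (2, 1)), (1, (1, 1)), (2, (0, 1)), (4, (1, 2)), (3, (1, 1))]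

def wbL : List (Nat × F9) := [(2, (2, 1)), (0, (2, 2)), (3, (1, 1)), (1, (2, 2)), (4, (1, 1))]

def SLPtab : List (Nat × Nat) := [(0, 0), (2, 2), (3, 3), (4, 4), (2, 5), (1, 1), (7, 7), (8, 8), (9, 9), (7, 10), (1, 6), (12, 1), (1, 11), (14, 6), (0, 1), (16, 11), (12, 11), (18, 1), (19, 6), (20, 11), (21, 6), (22, 6), (23, 11), (24, 1), (11, 1), (25, 25), (27, 27), (28, 28), (27, 29), (13, 0), (31, 0), (32, 1), (33, 0), (34, 1), (35, 11), (36, 1), (37, 6), (38, 1), (39, 0), (40, 1), (41, 6), (42, 1), (43, 11), (44, 6), (45, 45), (46, 46), (46, 47), (0, 6), (49, 6), (50, 1), (26, 6), (52, 11), (6, 1), (54, 0), (53, 1), (56, 6), (57, 6), (58, 1), (59, 0), (60, 1), (61, 11), (62, 6), (17, 6), (64, 11), (65, 0), (66, 0), (67, 11), (68, 1), (69, 0), (70, 11), (71, 1), (63, 48), (73, 72), (48, 74), (15, 1), (76, 11), (77, 6), (78, 0), (79, 11), (80, 0), (81, 1), (82, 0), (83, 11), (18, 6), (85, 1), (86, 6), (87, 0), (88, 1), (89, 11), (90, 0), (91, 1), (92, 11), (48, 93), (94, 48), (95, 84), (96, 96), (97, 97), (84, 98), (55,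 6), (100, 0), (101, 6), (102, 1), (103, 11), (104, 1), (105, 1), (106, 11), (107, 6), (108, 0), (109, 11), (110, 0), (111, 0), (112, 6), (51, 6), (114, 0), (115, 1), (116, 11), (117, 11), (118, 1), (119, 11), (120, 0), (121, 6), (122, 0), (123, 6), (124, 11), (125, 0), (48, 126), (127, 48), (128, 113), (48, 113), (130, 48), (131, 126), (129, 129), (133, 133), (133, 134), (132, 132), (136, 136), (136, 137), (135, 99), (139, 135), (140, 99), (141, 135), (142, 99), (138, 99), (144, 135), (145, 138), (146, 99), (147, 135), (148, 99), (149, 99), (150, 30), (151, 30), (75, 152), (153, 75), (154, 75), (155, 75)]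

def SLPtargets : List Nat := [48, 156, 143, 30, 75]

def gai : R9 := ⟨16, 2055, 131079, 133123, 53504, 49472, 133124, 53312, 4416⟩
def gbi : R9 := ⟨12534, 171055, 132546, 207391, 108796, 76636, 175147, 103176, 35824⟩

def s2ci : Nat → R9
  | 0 => ⟨188836, 107361, 230687, 194311, 52633, 135760, 87183, 135870, 56551⟩
  | 1 => ⟨175871, 126679, 196503, 198557, 160717, 128291, 140013, 248718, 173346⟩
  | 2 => ⟨31019, 73277, 103704, 223968, 218504, 3843, 113667, 193283, 98456⟩
  | 3 => ⟨2, 8, 32, 128, 512, 2048, 8192, 32768, 131072⟩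
  | _ => ⟨214276, 122126, 73514, 261191, 32467, 34169, 108507, 109580, 212705⟩

/-- code of the generator of family `fam` (0..4 for A, E, D, B, C) at `Z` -/
def cG (fam : Nat) (Z : F9) : R9 := unp (nth GENtab (9 * fam + ix Z))
/-- code of its inverse -/
def cGi (fam : Nat) (Z : F9) : R9 := unp (nth GENItab (9 * fam + ix Z))

def dA (Z w z : F9) : Nat := if w = z then (Z.1 * w.1 + Z.2 * w.2).val + 1 else 0
def dE (Z w z : F9) : Nat := if w = z then ((Z.1 - w.1) ^ 2 + (Z.2 - w.2) ^ 2).val + 1 else 0
def lamD (Z z : F9) : Nat :=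
  if z = 0 then 1
  else if F9.div Z z = F9.I - F9.one then 2
  else if F9.div Z z = -F9.I - F9.one then 3
  else 1
def dD (Z w z : F9) : Nat := if w = z + Z then lamD Z z else 0
def dB (Z w z : F9) : Nat := if w = F9.mul Z z then 1 else 0
def dC (Z w z : F9) : Nat :=
  if z = 0 then (if w = 0 then 1 else 0)
  else if w = -F9.div Z z ∨ w = F9.mul F9.I (F9.div Z z) ∨ w = -F9.mul F9.I (F9.div Z z) then 1 else 0

/-- the digit of a code at `(w, z)` -/
def dig (m : R9) (w z : F9) : Nat :=
  ((m.row (ix w)).testBit (2 * ix z)).toNat + 2 * ((m.row (ix w)).testBit (2 * ix z + 1)).toNat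

theorem digA : ∀ Z w z : F9, dig (cG 0 Z) w z = dA Z w z := by decide +kernel
theorem digE : ∀ Z w z : F9, dig (cG 1 Z) w z = dE Z w z := by decide +kernel
theorem digD : ∀ Z w z : F9, dig (cG 2 Z) w z = dD Z w z := by decide +kernel
theorem digB : ∀ Z w z : F9, Z ≠ 0 → dig (cG 3 Z) w z = dB Z w z := by decide +kernel
theorem digC : ∀ Z w z : F9, Z ≠ 0 → dig (cG 4 Z) w z = dC Z w z := by decide +kernel

theorem invG : ∀ Z : F9, ∀ fam : Fin 5, (fam.val < 3 ∨ Z ≠ 0) →
    mulR (cG fam Z) (cGi fam Z) = oneR ∧ mulR (cGi fam Z) (cG fam Z) = oneR := by decide +kernel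

/-- product of a word in the generators -/
def prodW : List (Nat × F9) → R9
  | [] => oneR
  | (f, Z) :: l => mulR (cG f Z) (prodW l)

theorem ga_eq : prodW waL = ga := by decide +kernel
theorem gb_eq : mulR (prodW wbL) (mulR (prodW wbL) (prodW wbL)) = gb := by decide +kernel
theorem waL_ok : ∀ p ∈ waL, p.1 < 5 ∧ (p.1 < 3 ∨ p.2 ≠ 0) := by decide
theorem wbL_ok : ∀ p ∈ wbL, p.1 < 5 ∧ (p.1 < 3 ∨ p.2 ≠ 0) := by decide

theorem inv_ab : mulR ga gai = oneR ∧ mulR gai ga = oneR ∧ mulR gb gbi = oneR ∧ mulR gbi gb = oneR := by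
  decide +kernel
theorem inv_s2 : ∀ s : Fin 5, mulR (s2c s) (s2ci s) = oneR ∧ mulR (s2ci s) (s2c s) = oneR := by
  decide +kernel

/-- straight line programs: the accumulator is kept reversed, `n` is its length -/
def slpRun : List (Nat × Nat) → List R9 → Nat → List R9
  | [], acc, _ => acc
  | (i, j) :: ps, acc, n =>
    slpRun ps (mulR (acc.getD (n - 1 - i) oneR) (acc.getD (n - 1 - j) oneR) :: acc) (n + 1)

theorem slp_ok : SLPtargets.map (fun t => (slpRun SLPtab [gb, ga] 2).getD (156 - t) oneR)
    = [s2c 0, s2c 1, s2c 2, s2c 3, s2c 4] := by decide +kernel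

/-- the 43 generators in the coset table -/
def chkT (fam : Nat) (Z : F9) : Bool :=
  decide (lookN 29 TRtab (9 * fam + ix Z) % 8192 < 6156) &&
  decide (lookN 29 TRtab (9 * fam + ix Z) / 8192 % 32 < 17) &&
  decide (lookN 29 TRtab (9 * fam + ix Z) / 262144 < 1440) &&
  decide (mulR (U1c (lookN 29 TRtab (9 * fam + ix Z) % 8192))
    (mulR (U2c (lookN 29 TRtab (9 * fam + ix Z) / 8192 % 32))
      (L3c (lookN 29 TRtab (9 * fam + ix Z) / 262144))) = cG fam Z)

theorem cT : ∀ Z : F9, ∀ fam : Fin 5, (fam.val < 3 ∨ Z ≠ 0) → chkT fam Z = true := by decide +kernel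

section

variable {F : Type*} [Field F] {ω : F}

/-- the field element of a digit -/
def e4 (F : Type*) [Field F] (ω : F) : Nat → F
  | 0 => 0
  | 1 => 1
  | 2 => ω
  | 3 => ω ^ 2
  | _ => 0

theorem val_e4 (h2 : (2 : F) = 0) (hω : ω ^ 2 + ω + 1 = 0) (r j : Nat) :
    val F ω r j = e4 F ω ((r.testBit (2 * j)).toNat + 2 * (r.testBit (2 * j + 1)).toNat) := by
  unfold val
  cases r.testBit (2 * j) <;> cases r.testBit (2 * j + 1) <;> simp [e4]
  linear_combination (-1 : F) * hω + (ω + 1) * h2

theorem decR_of_dig (h2 : (2 : F) = 0) (hω : ω ^ 2 + ω + 1 = 0) (m : R9) (d : F9 → F9 → Nat)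
    (h : ∀ w z, dig m w z = d w z) :
    decR F ω m = Matrix.of (fun w z => e4 F ω (d w z)) := by
  ext w z
  show val F ω (m.row (ix w)) (ix z) = _
  rw [val_e4 h2 hω, Matrix.of_apply, ← h w z]
  rfl

theorem pw (n : ZMod 3) : omegaPow F ω n = e4 F ω (n.val + 1) := by
  have h : n.val = 0 ∨ n.val = 1 ∨ n.val = 2 := by
    have := ZMod.val_lt n
    omega
  rcases h with h | h | h <;> simp [omegaPow, h, e4]

theorem j3A_eq (Z : F9) : j3A F ω Z = Matrix.of (fun w z => e4 F ω (dA Z w z)) := by
  ext w z
  simp only [j3A, Matrix.diagonal_apply, Matrix.of_apply, dA]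
  split_ifs with h
  · exact pw _
  · rfl

theorem j3E_eq (Z : F9) : j3E F ω Z = Matrix.of (fun w z => e4 F ω (dE Z w z)) := by
  ext w z
  simp only [j3E, Matrix.diagonal_apply, Matrix.of_apply, dE]
  split_ifs with h
  · exact pw _
  · rfl

theorem lam_eq (Z z : F9) : j3Lam F ω Z z = e4 F ω (lamD Z z) := by
  unfold j3Lam lamD
  split_ifs <;> rfl

theorem j3D_eq (Z : F9) : j3D F ω Z = Matrix.of (fun w z => e4 F ω (dD Z w z)) := by
  ext w z
  simp only [j3D, Matrix.of_apply, dD]
  split_ifs with h
  · exact lam_eq _ _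
  · rfl

theorem j3B_eq (Z : F9) : j3B F Z = Matrix.of (fun w z => e4 F ω (dB Z w z)) := by
  ext w z
  simp only [j3B, Matrix.of_apply, dB]
  split_ifs <;> rfl

theorem j3C_eq (Z : F9) : j3C F Z = Matrix.of (fun w z => e4 F ω (dC Z w z)) := by
  ext w z
  simp only [j3C, Matrix.of_apply, dC]
  split_ifs <;> rfl

variable (h2 : (2 : F) = 0) (hω : ω ^ 2 + ω + 1 = 0)
include h2 hω

theorem decA (Z : F9) : decR F ω (cG 0 Z) = j3A F ω Z := by
  rw [j3A_eq, decR_of_dig h2 hω _ _ (digA Z)]
theorem decE (Z : F9) : decR F ω (cG 1 Z) = j3E F ω Z := by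
  rw [j3E_eq, decR_of_dig h2 hω _ _ (digE Z)]
theorem decD (Z : F9) : decR F ω (cG 2 Z) = j3D F ω Z := by
  rw [j3D_eq, decR_of_dig h2 hω _ _ (digD Z)]
theorem decB (Z : F9) (hZ : Z ≠ 0) : decR F ω (cG 3 Z) = j3B F Z := by
  rw [j3B_eq (ω := ω), decR_of_dig h2 hω _ _ (fun w z => digB Z w z hZ)]
theorem decC (Z : F9) (hZ : Z ≠ 0) : decR F ω (cG 4 Z) = j3C F Z := by
  rw [j3C_eq (ω := ω), decR_of_dig h2 hω _ _ (fun w z => digC Z w z hZ)]

/-- the element of `GL` with a given code and inverse code -/
def glOf (c c' : R9) (h : mulR c c' = oneR ∧ mulR c' c = oneR) : GL F9 F :=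
  ⟨decR F ω c, decR F ω c', by rw [← decR_mul h2 hω, h.1, decR_one],
    by rw [← decR_mul h2 hω, h.2, decR_one]⟩

theorem gen_mem (fam : Fin 5) (Z : F9) (hZ : fam.val < 3 ∨ Z ≠ 0) :
    decR F ω (cG fam Z) ∈ j3Gens F ω := by
  unfold j3Gens
  fin_cases fam
  · rw [show ((⟨0, by omega⟩ : Fin 5) : ℕ) = 0 from rfl, decA h2 hω]
    exact Or.inl (Or.inl (Or.inl (Or.inl ⟨Z, rfl⟩)))
  · rw [show ((⟨1, by omega⟩ : Fin 5) : ℕ) = 1 from rfl, decE h2 hω]
    exact Or.inl (Or.inl (Or.inl (Or.inr ⟨Z, rfl⟩)))
  · rw [show ((⟨2, by omega⟩ : Fin 5) : ℕ) = 2 from rfl, decD h2 hω]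
    exact Or.inl (Or.inl (Or.inr ⟨Z, rfl⟩))
  · have hZ' : Z ≠ 0 := by
      rcases hZ with h | h
      · exact absurd h (by decide)
      · exact h
    rw [show ((⟨3, by omega⟩ : Fin 5) : ℕ) = 3 from rfl, decB h2 hω Z hZ']
    exact Or.inl (Or.inr ⟨Z, hZ', rfl⟩)
  · have hZ' : Z ≠ 0 := by
      rcases hZ with h | h
      · exact absurd h (by decide)
      · exact h
    rw [show ((⟨4, by omega⟩ : Fin 5) : ℕ) = 4 from rfl, decC h2 hω Z hZ']
    exact Or.inr ⟨Z, hZ', rfl⟩

theorem gen_inG (fam : Fin 5) (Z : F9) (hZ : fam.val < 3 ∨ Z ≠ 0) :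
    InG F ω (threeJ3 F ω) (cG fam Z) :=
  ⟨glOf h2 hω _ _ (invG Z fam hZ), Subgroup.subset_closure (gen_mem h2 hω fam Z hZ), rfl⟩

theorem gens_cases (M : Matrix F9 F9 F) (hM : M ∈ j3Gens F ω) :
    ∃ fam : Fin 5, ∃ Z : F9, (fam.val < 3 ∨ Z ≠ 0) ∧ M = decR F ω (cG fam Z) := by
  unfold j3Gens at hM
  rcases hM with (((⟨Z, rfl⟩ | ⟨Z, rfl⟩) | ⟨Z, rfl⟩) | ⟨Z, hZ, rfl⟩) | ⟨Z, hZ, rfl⟩
  · exact ⟨0, Z, Or.inl (by decide), (decA h2 hω Z).symm⟩
  · exact ⟨1, Z, Or.inl (by decide), (decE h2 hω Z).symm⟩
  · exact ⟨2, Z, Or.inl (by decide), (decD h2 hω Z).symm⟩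
  · exact ⟨3, Z, Or.inr hZ, (decB h2 hω Z hZ).symm⟩
  · exact ⟨4, Z, Or.inr hZ, (decC h2 hω Z hZ).symm⟩

theorem prodW_inG (l : List (Nat × F9)) (hl : ∀ p ∈ l, p.1 < 5 ∧ (p.1 < 3 ∨ p.2 ≠ 0)) :
    InG F ω (threeJ3 F ω) (prodW l) := by
  induction l with
  | nil => exact InG.one _
  | cons p l ih =>
    obtain ⟨f, Z⟩ := p
    have h := hl (f, Z) (by simp)
    exact InG.mul h2 hω (gen_inG h2 hω ⟨f, h.1⟩ Z h.2) (ih (fun q hq => hl q (by simp [hq])))

theorem slp_inG (K : Subgroup (GL F9 F)) (prog : List (Nat × Nat)) :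
    ∀ (acc : List R9) (n : Nat), (∀ m ∈ acc, InG F ω K m) →
      ∀ m ∈ slpRun prog acc n, InG F ω K m := by
  induction prog with
  | nil => intro acc n h; exact h
  | cons p ps ih =>
    intro acc n h
    obtain ⟨i, j⟩ := p
    apply ih
    have hg : ∀ k, InG F ω K (acc.getD k oneR) := by
      intro k
      by_cases hk : k < acc.length
      · rw [List.getD_eq_getElem _ _ hk]; exact h _ (List.getElem_mem hk)
      · rw [List.getD_eq_default _ _ (by omega)]; exact InG.one K
    intro m hm
    rcases List.mem_cons.mp hm with rfl | hm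
    · exact InG.mul h2 hω (hg _) (hg _)
    · exact h m hm

end

end Cfsg.Agent.Lib.Helper26.J3Gens
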