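import Cfsg.Agent.Lib.Helper26.J3Code

/-!
# Codes as elements of GL(9, 4): closure certificates

`InG K m` says that the code `m` is the matrix of an element of the subgroup `K` of `GL F9 F`.
`cover` and `card_le` are the coset-table (Schreier) step on codes; `inG_of_tree` proves
membership along a spanning tree.  Helper26.
-/

set_option autoImplicit false

namespace Cfsg.Agent.Lib.Helper26.J3Code

open Cfsg.Spor

/-- `all f n`: `f i` holds for every `i < n` -/
def allB (f : Nat → Bool) : Nat → Bool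
  | 0 => true
  | n + 1 => allB f n && f n

theorem allB_spec (f : Nat → Bool) (n : Nat) (h : allB f n = true) : ∀ i < n, f i = true := by
  induction n with
  | zero => intro i hi; omega
  | succ n ih =>
    rw [allB, Bool.and_eq_true] at h
    intro i hi
    rcases Nat.lt_succ_iff_lt_or_eq.mp hi with h1 | h1
    · exact ih h.1 i h1
    · rw [h1]; exact h.2

section

variable {F : Type*} [Field F] {ω : F}

/-- the code `m` is the matrix of an element of `K` -/
def InG (F : Type*) [Field F] (ω : F) (K : Subgroup (GL F9 F)) (m : R9) : Prop :=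
  ∃ g ∈ K, (g : Matrix F9 F9 F) = decR F ω m

theorem InG.mono {K K' : Subgroup (GL F9 F)} (h : K ≤ K') {m : R9} (hm : InG F ω K m) :
    InG F ω K' m := by
  obtain ⟨g, hg, e⟩ := hm
  exact ⟨g, h hg, e⟩

theorem InG.one (K : Subgroup (GL F9 F)) : InG F ω K oneR :=
  ⟨1, K.one_mem, by rw [decR_one]; rfl⟩

theorem InG.mul (h2 : (2 : F) = 0) (hω : ω ^ 2 + ω + 1 = 0) {K : Subgroup (GL F9 F)} {m m' : R9}
    (hm : InG F ω K m) (hm' : InG F ω K m') : InG F ω K (mulR m m') := by
  obtain ⟨g, hg, e⟩ := hm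
  obtain ⟨g', hg', e'⟩ := hm'
  refine ⟨g * g', K.mul_mem hg hg', ?_⟩
  rw [decR_mul h2 hω, ← e, ← e']
  rfl

/-- membership along a spanning tree -/
theorem inG_of_tree (K : Subgroup (GL F9 F)) (n : ℕ) (u : ℕ → R9)
    (h0 : decR F ω (u 0) = 1)
    (step : ∀ j, 0 < j → j < n → ∃ i < j, ∃ g ∈ K,
      decR F ω (u j) = (g : Matrix F9 F9 F) * decR F ω (u i)) :
    ∀ j < n, InG F ω K (u j) := by
  intro j
  induction j using Nat.strong_induction_on with
  | _ j ih =>
    intro hj
    rcases Nat.eq_zero_or_pos j with h | h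
    · subst h
      exact ⟨1, K.one_mem, by rw [h0]; rfl⟩
    · obtain ⟨i, hij, g, hg, e⟩ := step j h hj
      obtain ⟨g', hg', e'⟩ := ih i hij (lt_trans hij hj)
      refine ⟨g * g', K.mul_mem hg hg', ?_⟩
      rw [e, ← e']
      rfl

variable [Finite F]

/-- the coset-table step: `closure S` is covered by the products `u i * h`, `h ∈ H` -/
theorem cover (S : Set (GL F9 F)) (H : Subgroup (GL F9 F)) (n : ℕ) (u : ℕ → R9)
    (hn : 0 < n) (h0 : decR F ω (u 0) = 1)
    (hS : ∀ s ∈ S, ∀ i < n, ∃ j < n, ∃ h ∈ H,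
      (s : Matrix F9 F9 F) * decR F ω (u i) = decR F ω (u j) * (h : Matrix F9 F9 F)) :
    ∀ g ∈ Subgroup.closure S, ∃ i < n, ∃ h ∈ H,
      (g : Matrix F9 F9 F) = decR F ω (u i) * (h : Matrix F9 F9 F) := by
  intro g hg
  rw [← Subgroup.mem_toSubmonoid, Subgroup.closure_toSubmonoid_of_finite] at hg
  induction hg using Submonoid.closure_induction_left with
  | one => exact ⟨0, hn, 1, H.one_mem, by rw [h0]; simp⟩
  | mul_left s hs y _ ih =>
    obtain ⟨i, hi, h, hh, e⟩ := ih
    obtain ⟨j, hj, h', hh', e'⟩ := hS s hs i hi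
    refine ⟨j, hj, h' * h, H.mul_mem hh' hh, ?_⟩
    have : ((s * y : GL F9 F) : Matrix F9 F9 F) = (s : Matrix F9 F9 F) * (y : Matrix F9 F9 F) := rfl
    rw [this, e, ← mul_assoc, e', mul_assoc]
    rfl

/-- the order bound of the coset-table step -/
theorem card_le (S : Set (GL F9 F)) (H : Subgroup (GL F9 F)) (n : ℕ) (u : ℕ → R9)
    (hn : 0 < n) (h0 : decR F ω (u 0) = 1)
    (hS : ∀ s ∈ S, ∀ i < n, ∃ j < n, ∃ h ∈ H,
      (s : Matrix F9 F9 F) * decR F ω (u i) = decR F ω (u j) * (h : Matrix F9 F9 F)) :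
    Nat.card (Subgroup.closure S) ≤ n * Nat.card H := by
  classical
  have hc := cover S H n u hn h0 hS
  choose fi hfi fh hfh hfe using hc
  let f : Subgroup.closure S → Fin n × H := fun g => (⟨fi g.1 g.2, hfi g.1 g.2⟩, ⟨fh g.1 g.2, hfh g.1 g.2⟩)
  have hinj : Function.Injective f := by
    intro g g' hgg
    have e1 : fi g.1 g.2 = fi g'.1 g'.2 := by
      have := congrArg (fun p => (p.1 : ℕ)) hgg
      exact this
    have e2 : fh g.1 g.2 = fh g'.1 g'.2 := by
      have := congrArg (fun p => (p.2 : GL F9 F)) hgg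
      exact this
    apply Subtype.ext
    apply Units.ext
    rw [hfe g.1 g.2, hfe g'.1 g'.2, e1, e2]
  have := Nat.card_le_card_of_injective f hinj
  rwa [Nat.card_prod, Nat.card_fin] at this

/-- lower bound from distinct codes -/
theorem card_ge (K : Subgroup (GL F9 F)) (n : ℕ) (u : ℕ → R9)
    (hin : ∀ i < n, InG F ω K (u i))
    (hinj : ∀ i < n, ∀ j < n, decR F ω (u i) = decR F ω (u j) → i = j) :
    n ≤ Nat.card K := by
  classical
  choose g hg he using hin
  let f : Fin n → K := fun i => ⟨g i.1 i.2, hg i.1 i.2⟩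
  have hinj' : Function.Injective f := by
    intro i j hij
    have e : g i.1 i.2 = g j.1 j.2 := congrArg Subtype.val hij
    apply Fin.ext
    apply hinj i.1 i.2 j.1 j.2
    rw [← he i.1 i.2, ← he j.1 j.2, e]
  have := Nat.card_le_card_of_injective f hinj'
  rwa [Nat.card_fin] at this

end

end Cfsg.Agent.Lib.Helper26.J3Code
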