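import Cfsg.Agent.Lib.Helper26.J3Grp

/-!
# Injectivity of the decoding on normalised codes
Helper26.
-/

set_option autoImplicit false

namespace Cfsg.Agent.Lib.Helper26.J3Code

open Cfsg.Spor

/-- all nine rows are below `2^18` -/
def Norm (m : R9) : Prop := ∀ i < 9, m.row i < 2 ^ 18

/-- reduce the rows modulo `2^18` -/
def normR (m : R9) : R9 :=
  ⟨m.r0 % 262144, m.r1 % 262144, m.r2 % 262144, m.r3 % 262144, m.r4 % 262144, m.r5 % 262144,
    m.r6 % 262144, m.r7 % 262144, m.r8 % 262144⟩

theorem normR_row (m : R9) (i : Nat) (hi : i < 9) : (normR m).row i = m.row i % 2 ^ 18 := by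
  interval_cases i <;> rfl

theorem norm_normR (m : R9) : Norm (normR m) := by
  intro i hi
  rw [normR_row m i hi]
  exact Nat.mod_lt _ (by norm_num)

theorem unp_row (c : Nat) (i : Nat) (hi : i < 9) :
    (unp c).row i = (c >>> (18 * i)) &&& (2 ^ 18 - 1) := by
  interval_cases i <;> rfl

theorem norm_unp (c : Nat) : Norm (unp c) := by
  intro i hi
  rw [unp_row c i hi]
  have : (c >>> (18 * i)) &&& (2 ^ 18 - 1) ≤ 2 ^ 18 - 1 := Nat.and_le_right
  omega

theorem norm_look (T : List Nat) (i : Nat) : Norm (look T i) := norm_unp _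

theorem norm_oneR : Norm oneR := by
  intro i hi
  interval_cases i <;> decide

theorem R9.ext_row {m m' : R9} (h : ∀ i < 9, m.row i = m'.row i) : m = m' := by
  obtain ⟨a0, a1, a2, a3, a4, a5, a6, a7, a8⟩ := m
  obtain ⟨b0, b1, b2, b3, b4, b5, b6, b7, b8⟩ := m'
  have h0 := h 0 (by norm_num); have h1 := h 1 (by norm_num); have h2 := h 2 (by norm_num)
  have h3 := h 3 (by norm_num); have h4 := h 4 (by norm_num); have h5 := h 5 (by norm_num)
  have h6 := h 6 (by norm_num); have h7 := h 7 (by norm_num); have h8 := h 8 (by norm_num)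
  simp only [R9.row] at h0 h1 h2 h3 h4 h5 h6 h7 h8
  subst h0 h1 h2 h3 h4 h5 h6 h7 h8
  rfl

section

variable {F : Type*} [Field F] {ω : F}

theorem val_mod (r j : Nat) (hj : j < 9) : val F ω (r % 2 ^ 18) j = val F ω r j := by
  unfold val
  rw [Nat.testBit_mod_two_pow, Nat.testBit_mod_two_pow]
  have h1 : decide (2 * j < 18) = true := by simp; omega
  have h2 : decide (2 * j + 1 < 18) = true := by simp; omega
  rw [h1, h2]
  simp

theorem decR_normR (m : R9) : decR F ω (normR m) = decR F ω m := by
  ext w z
  show val F ω ((normR m).row (ix w)) (ix z) = val F ω (m.row (ix w)) (ix z)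
  rw [normR_row m _ (ix_lt w), val_mod _ _ (ix_lt z)]

theorem omega_ne_zero (hω : ω ^ 2 + ω + 1 = 0) : ω ≠ 0 := by
  intro h
  rw [h] at hω
  simp at hω

variable (h2 : (2 : F) = 0) (hω : ω ^ 2 + ω + 1 = 0)
include h2 hω

theorem omega_ne_one : ω ≠ 1 := by
  intro h
  rw [h] at hω
  have : (1 : F) = 0 := by linear_combination hω - h2
  exact one_ne_zero this

theorem val_inj (a b a' b' : Bool)
    (h : ((a.toNat : ℕ) : F) + ω * ((b.toNat : ℕ) : F) = ((a'.toNat : ℕ) : F) + ω * ((b'.toNat : ℕ) : F)) :
    a = a' ∧ b = b' := by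
  have h0 := omega_ne_zero hω
  have h1 := omega_ne_one h2 hω
  have h11 : (1 : F) + 1 = 0 := by rw [one_add_one_eq_two]; exact h2
  cases a <;> cases b <;> cases a' <;> cases b' <;> simp at h ⊢
  all_goals first
    | exact h0 h
    | exact h0 h.symm
    | exact h1 h
    | exact h1 h.symm
    | (exfalso; apply h0; linear_combination h)
    | (exfalso; apply h0; linear_combination h + h11)
    | (exfalso; apply h0; linear_combination h - h11)
    | (exfalso; apply h0; linear_combination -h)
    | (exfalso; apply h0; linear_combination -h + h11)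
    | (exfalso; apply h0; linear_combination -h - h11)
    | (exfalso; apply h1; linear_combination h)
    | (exfalso; apply h1; linear_combination h + h11)
    | (exfalso; apply h1; linear_combination h - h11)
    | (exfalso; apply h1; linear_combination -h)
    | (exfalso; apply h1; linear_combination -h + h11)
    | (exfalso; apply h1; linear_combination -h - h11)
    | (exfalso; apply one_ne_zero (α := F); linear_combination h)
    | (exfalso; apply one_ne_zero (α := F); linear_combination h + h11)
    | (exfalso; apply one_ne_zero (α := F); linear_combination h - h11)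
    | (exfalso; apply one_ne_zero (α := F); linear_combination -h)
    | (exfalso; apply one_ne_zero (α := F); linear_combination -h + h11)
    | (exfalso; apply one_ne_zero (α := F); linear_combination -h - h11)

theorem decR_inj {m m' : R9} (hm : Norm m) (hm' : Norm m') (h : decR F ω m = decR F ω m') :
    m = m' := by
  apply R9.ext_row
  intro i hi
  apply Nat.eq_of_testBit_eq
  intro q
  by_cases hq : q < 18
  · have hw : ∃ w : F9, ix w = i := ⟨e9.symm ⟨i, hi⟩, congrArg Fin.val (e9.apply_symm_apply ⟨i, hi⟩)⟩
    obtain ⟨w, rfl⟩ := hw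
    have hz : ∃ z : F9, ix z = q / 2 :=
      ⟨e9.symm ⟨q / 2, by omega⟩, congrArg Fin.val (e9.apply_symm_apply ⟨q / 2, by omega⟩)⟩
    obtain ⟨z, hz⟩ := hz
    have e := congrFun (congrFun h w) z
    have e' := val_inj h2 hω _ _ _ _ e
    rw [hz] at e'
    rcases Nat.mod_two_eq_zero_or_one q with h0 | h0
    · have : 2 * (q / 2) = q := by omega
      rw [this] at e'
      exact e'.1
    · have : 2 * (q / 2) + 1 = q := by omega
      rw [this] at e'
      exact e'.2
  · have h18 : (2 : ℕ) ^ 18 ≤ 2 ^ q := Nat.pow_le_pow_right (by norm_num) (by omega)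
    rw [Nat.testBit_lt_two_pow (lt_of_lt_of_le (hm i hi) h18),
      Nat.testBit_lt_two_pow (lt_of_lt_of_le (hm' i hi) h18)]

/-- inequality of matrices from inequality of normalised codes -/
theorem decR_ne {m m' : R9} (hm : Norm m) (hm' : Norm m') (h : m ≠ m') :
    decR F ω m ≠ decR F ω m' := fun e => h (decR_inj h2 hω hm hm' e)

/-- inequality for a possibly unnormalised code against a normalised one -/
theorem decR_ne' {m m' : R9} (hm' : Norm m') (h : normR m ≠ m') :
    decR F ω m ≠ decR F ω m' := by
  rw [← decR_normR (F := F) (ω := ω) m]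
  exact decR_ne h2 hω (norm_normR m) hm' h

end

end Cfsg.Agent.Lib.Helper26.J3Code
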