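import Cfsg.Agent.Lib.Helper26.J3Chk0
import Cfsg.Agent.Lib.Helper26.J3Chk1a
import Cfsg.Agent.Lib.Helper26.J3Chk1b
import Cfsg.Agent.Lib.Helper26.J3Chk1c
import Cfsg.Agent.Lib.Helper26.J3Chk1d
import Cfsg.Agent.Lib.Helper26.J3Chk2
import Cfsg.Agent.Lib.Helper26.J3Abs

/-!
# The group 3.J3 of the definitions: order, centre, simplicity of the central quotient

Assembly of the kernel-checked tables.  Main results (for a field `F` with `(2 : F) = 0` and
`ω ^ 2 + ω + 1 = 0`, `F` finite):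

* `card_J` : `Nat.card (threeJ3 F ω) = 150698880`
* `J_eq` : `threeJ3 F ω = closure {aG, bG}` (two explicit elements of order 19)
* `normal_cases` : a normal subgroup lies in the scalars `Zs` or is everything
* `card_L` : the subgroup `LG` (3 x L2(16):2) has order 24480

Helper26.
-/

set_option autoImplicit false
set_option maxRecDepth 100000

namespace Cfsg.Agent.Lib.Helper26.J3Main

open Cfsg.Spor Cfsg.Agent.Lib.Helper26.J3Code Cfsg.Agent.Lib.Helper26.J3Tab
  Cfsg.Agent.Lib.Helper26.J3Gens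

/-! ### table facts in usable form -/

theorem chk3_all : ∀ l < 1440, chk3 l = true := by
  intro l hl
  by_cases h : l < 720
  · exact allB_spec _ _ c3a l h
  · have := allB_spec _ _ c3b (l - 720) (by omega)
    simpa [show 720 + (l - 720) = l by omega] using this

theorem chk1_all : ∀ i < 6156, chk1 i = true := by
  intro i hi
  have key : ∀ q < 12, ∀ r < 513, chk1 (513 * q + r) = true := by
    intro q hq r hr
    interval_cases q
    · simpa using allB_spec _ _ c1_0 r hr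
    · exact allB_spec _ _ c1_1 r hr
    · exact allB_spec _ _ c1_2 r hr
    · exact allB_spec _ _ c1_3 r hr
    · exact allB_spec _ _ c1_4 r hr
    · exact allB_spec _ _ c1_5 r hr
    · exact allB_spec _ _ c1_6 r hr
    · exact allB_spec _ _ c1_7 r hr
    · exact allB_spec _ _ c1_8 r hr
    · exact allB_spec _ _ c1_9 r hr
    · exact allB_spec _ _ c1_10 r hr
    · exact allB_spec _ _ c1_11 r hr
  have := key (i / 513) (by omega) (i % 513) (Nat.mod_lt _ (by norm_num))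
  rwa [Nat.div_add_mod] at this

theorem chkS3_all : ∀ l < 729, chkS3 l = true := by
  intro l hl
  by_cases h : l < 365
  · exact allB_spec _ _ cS3a l h
  · have := allB_spec _ _ cS3b (l - 365) (by omega)
    simpa [show 365 + (l - 365) = l by omega] using this

section

variable {F : Type*} [Field F] {ω : F}

theorem mem_of_inG {K : Subgroup (GL F9 F)} {c : R9} (h : InG F ω K c) (g : GL F9 F)
    (hg : (g : Matrix F9 F9 F) = decR F ω c) : g ∈ K := by
  obtain ⟨g', hg', e⟩ := h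
  have : g = g' := Units.ext (hg.trans e.symm)
  rw [this]
  exact hg'

variable (h2 : (2 : F) = 0) (hω : ω ^ 2 + ω + 1 = 0)
include h2 hω

theorem decR_sq (x : R9) : decR F ω (sqR x) = decR F ω x ^ 2 := by
  rw [sqR, decR_mul h2 hω, pow_two]

theorem decR_cube (x : R9) : decR F ω (cubeR x) = decR F ω x ^ 3 := by
  rw [cubeR, decR_mul h2 hω, decR_mul h2 hω]
  simp only [pow_succ, pow_zero, one_mul, mul_assoc]

theorem decR_pw5 (x : R9) : decR F ω (J3Tab.pw 5 x) = decR F ω x ^ 5 := by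
  have e : J3Tab.pw 5 x = mulR (sqR (sqR x)) x := by
    unfold J3Tab.pw; rw [if_pos rfl]
  rw [e]
  simp only [sqR, decR_mul h2 hω]
  simp only [pow_succ, pow_zero, one_mul, mul_assoc]

theorem decR_pw17 (x : R9) : decR F ω (J3Tab.pw 17 x) = decR F ω x ^ 17 := by
  have e : J3Tab.pw 17 x = mulR (sqR (sqR (sqR (sqR x)))) x := by
    unfold J3Tab.pw; rw [if_neg (by norm_num), if_pos rfl]
  rw [e]
  simp only [sqR, decR_mul h2 hω]
  simp only [pow_succ, pow_zero, one_mul, mul_assoc]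

theorem decR_pw19 (x : R9) : decR F ω (J3Tab.pw 19 x) = decR F ω x ^ 19 := by
  have e : J3Tab.pw 19 x = mulR (sqR (sqR (sqR (sqR x)))) (mulR (sqR x) x) := by
    unfold J3Tab.pw; rw [if_neg (by norm_num), if_neg (by norm_num)]
  rw [e]
  simp only [sqR, decR_mul h2 hω]
  simp only [pow_succ, pow_zero, one_mul, mul_assoc]

theorem decR_pw (p : Nat) (hp : p = 5 ∨ p = 17 ∨ p = 19) (x : R9) :
    decR F ω (J3Tab.pw p x) = decR F ω x ^ p := by
  rcases hp with rfl | rfl | rfl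
  · exact decR_pw5 h2 hω x
  · exact decR_pw17 h2 hω x
  · exact decR_pw19 h2 hω x

end

section Chain

variable {F : Type*} [Field F] [Finite F] {ω : F} (h2 : (2 : F) = 0) (hω : ω ^ 2 + ω + 1 = 0)

/-- the two generators of order 19 -/
def aG : GL F9 F := glOf h2 hω ga gai ⟨inv_ab.1, inv_ab.2.1⟩
def bG : GL F9 F := glOf h2 hω gb gbi ⟨inv_ab.2.2.1, inv_ab.2.2.2⟩
/-- generators of `3 x L2(16):2` -/
def sG (s : Fin 5) : GL F9 F := glOf h2 hω (s2c s) (s2ci s) (inv_s2 s)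
/-- the group generated by `aG`, `bG` -/
def G0 : Subgroup (GL F9 F) := Subgroup.closure {aG h2 hω, bG h2 hω}
/-- `3 x L2(16):2` -/
def LG : Subgroup (GL F9 F) := Subgroup.closure (Set.range (sG h2 hω))
/-- its Borel subgroup -/
def H3 : Subgroup (GL F9 F) :=
  Subgroup.closure (Set.range (fun s : Fin 4 => sG h2 hω s.castSucc))

omit [Finite F] in
theorem H3_le_LG : H3 h2 hω ≤ LG h2 hω := by
  apply Subgroup.closure_mono
  rintro _ ⟨s, rfl⟩
  exact ⟨_, rfl⟩

theorem l3_step (s : Fin 4) (i : Nat) (hi : i < 1440) :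
    lookN 11 NX3tab (4 * i + s.val) < 1440 ∧
      mulR (s2c s.val) (L3c i) = L3c (lookN 11 NX3tab (4 * i + s.val)) := by
  have h := allB_spec _ _ (show allB _ 4 = true from chk3_all i hi) s.val s.isLt
  simpa [Bool.and_eq_true, decide_eq_true_eq] using h

theorem card_H3 : Nat.card (H3 h2 hω) ≤ 1440 := by
  have := card_le (F := F) (ω := ω) (Set.range (fun s : Fin 4 => sG h2 hω s.castSucc)) ⊥ 1440 L3c
    (by norm_num) (by rw [c0.2.2, decR_one]) ?_
  · simpa [H3] using this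
  · rintro _ ⟨s, rfl⟩ i hi
    obtain ⟨h1, e⟩ := l3_step s i hi
    refine ⟨_, h1, 1, Subgroup.one_mem _, ?_⟩
    show decR F ω (s2c (s.castSucc : Fin 5)) * decR F ω (L3c i) = _ * ((1 : GL F9 F) : Matrix F9 F9 F)
    rw [← decR_mul h2 hω, Fin.val_castSucc, e]
    simp

omit [Finite F] in
theorem inG_L3 (l : Nat) (hl : l < 1440) : InG F ω (H3 h2 hω) (L3c l) := by
  refine inG_of_tree (H3 h2 hω) 1440 L3c (by rw [c0.2.2, decR_one]) ?_ l hl
  intro j hj0 hj
  have hp := allB_spec _ _ cP3 j hj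
  have hp' : lookN 13 PAR3tab j / 4 < j ∧ lookN 11 NX3tab (lookN 13 PAR3tab j) = j := by
    unfold chkP3 at hp
    simp only [Bool.or_eq_true, beq_iff_eq, Bool.and_eq_true, decide_eq_true_eq] at hp
    rcases hp with h | h
    · omega
    · exact h
  have hs : lookN 13 PAR3tab j % 4 < 4 := Nat.mod_lt _ (by norm_num)
  obtain ⟨_, e⟩ := l3_step ⟨lookN 13 PAR3tab j % 4, hs⟩ (lookN 13 PAR3tab j / 4) (by omega)
  simp only [Nat.div_add_mod] at e
  rw [hp'.2] at e
  refine ⟨lookN 13 PAR3tab j / 4, hp'.1, sG h2 hω (Fin.castSucc ⟨lookN 13 PAR3tab j % 4, hs⟩),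
    Subgroup.subset_closure ⟨_, rfl⟩, ?_⟩
  rw [← e, decR_mul h2 hω]
  rfl

theorem l2_step (s : Fin 5) (k : Nat) (hk : k < 17) :
    lookN 16 NX2tab (5 * k + s.val) % 32 < 17 ∧ lookN 16 NX2tab (5 * k + s.val) / 32 < 1440 ∧
      mulR (s2c s.val) (U2c k) = mulR (U2c (lookN 16 NX2tab (5 * k + s.val) % 32))
        (L3c (lookN 16 NX2tab (5 * k + s.val) / 32)) := by
  have h := allB_spec _ _ (show allB _ 5 = true from allB_spec _ _ c2 k hk) s.val s.isLt
  simpa [Bool.and_eq_true, decide_eq_true_eq, and_assoc] using h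

theorem card_LG : Nat.card (LG h2 hω) ≤ 24480 := by
  have := card_le (F := F) (ω := ω) (Set.range (sG h2 hω)) (H3 h2 hω) 17 U2c
    (by norm_num) (by rw [c0.2.1, decR_one]) ?_
  · have h3 := card_H3 h2 hω
    have : Nat.card (LG h2 hω) ≤ 17 * Nat.card (H3 h2 hω) := this
    omega
  · rintro _ ⟨s, rfl⟩ i hi
    obtain ⟨h1, h1', e⟩ := l2_step s i hi
    obtain ⟨h, hh, eh⟩ := inG_L3 h2 hω _ h1'
    refine ⟨_, h1, h, hh, ?_⟩
    show decR F ω (s2c s) * decR F ω (U2c i) = _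
    rw [← decR_mul h2 hω, e, decR_mul h2 hω, eh]

omit [Finite F] in
theorem inG_U2 (k : Nat) (hk : k < 17) : InG F ω (LG h2 hω) (U2c k) := by
  refine inG_of_tree (LG h2 hω) 17 U2c (by rw [c0.2.1, decR_one]) ?_ k hk
  intro j hj0 hj
  have hp := allB_spec _ _ cP2 j hj
  have hp' : lookN 8 PAR2tab j / 5 < j ∧ lookN 16 NX2tab (lookN 8 PAR2tab j) = j := by
    unfold chkP2 at hp
    simp only [Bool.or_eq_true, beq_iff_eq, Bool.and_eq_true, decide_eq_true_eq] at hp
    rcases hp with h | h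
    · omega
    · exact h
  have hs : lookN 8 PAR2tab j % 5 < 5 := Nat.mod_lt _ (by norm_num)
  obtain ⟨_, _, e⟩ := l2_step ⟨lookN 8 PAR2tab j % 5, hs⟩ (lookN 8 PAR2tab j / 5) (by omega)
  simp only [Nat.div_add_mod] at e
  rw [hp'.2] at e
  have e1 : j % 32 = j := by omega
  have e2 : j / 32 = 0 := by omega
  rw [e1, e2] at e
  refine ⟨lookN 8 PAR2tab j / 5, hp'.1, sG h2 hω ⟨lookN 8 PAR2tab j % 5, hs⟩,
    Subgroup.subset_closure ⟨_, rfl⟩, ?_⟩
  have e' := congrArg (decR F ω) e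
  rw [decR_mul h2 hω, decR_mul h2 hω, c0.2.2, decR_one, mul_one] at e'
  rw [← e']
  rfl

omit [Finite F] in
include h2 hω in
theorem chkOne_sound (g : R9) (i t : Nat) (h : chkOne g i t = true) :
    t % 8192 < 6156 ∧ t / 8192 % 32 < 17 ∧ t / 262144 < 1440 ∧
    decR F ω g * decR F ω (U1c i) = decR F ω (U1c (t % 8192)) *
      (decR F ω (U2c (t / 8192 % 32)) * decR F ω (L3c (t / 262144))) := by
  unfold chkOne at h
  simp only [Bool.and_eq_true, decide_eq_true_eq] at h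
  obtain ⟨⟨⟨h1, h2'⟩, h3⟩, h4⟩ := h
  refine ⟨h1, h2', h3, ?_⟩
  split_ifs at h4 with ht
  · have hk : t / 8192 % 32 = 0 := by omega
    have hl : t / 262144 = 0 := by omega
    rw [hk, hl, c0.2.1, c0.2.2, decR_one, mul_one, mul_one, ← decR_mul h2 hω]
    exact congrArg _ (of_decide_eq_true h4)
  · rw [← decR_mul h2 hω, ← decR_mul h2 hω, ← decR_mul h2 hω]
    exact congrArg _ (of_decide_eq_true h4)

omit [Finite F] in
theorem l1_step (i : Nat) (hi : i < 6156) :
    chkOne ga i (lookN 29 NX1tab (2 * i)) = true ∧ chkOne gb i (lookN 29 NX1tab (2 * i + 1)) = true := by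
  have h := chk1_all i hi
  unfold chk1 at h
  simpa [Bool.and_eq_true] using h

theorem card_G0 : Nat.card (G0 h2 hω) ≤ 6156 * Nat.card (LG h2 hω) := by
  refine card_le (F := F) (ω := ω) {aG h2 hω, bG h2 hω} (LG h2 hω) 6156 U1c
    (by norm_num) (by rw [c0.1, decR_one]) ?_
  intro g hg i hi
  have key : ∀ (c : R9) (t : Nat), chkOne c i t = true → ∃ j < 6156, ∃ h ∈ LG h2 hω,
      decR F ω c * decR F ω (U1c i) = decR F ω (U1c j) * (h : Matrix F9 F9 F) := by
    intro c t hc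
    obtain ⟨h1, h1', h1'', e⟩ := chkOne_sound h2 hω c i t hc
    obtain ⟨x, hx, ex⟩ := inG_U2 h2 hω _ h1'
    obtain ⟨y, hy, ey⟩ := inG_L3 h2 hω _ h1''
    refine ⟨_, h1, x * y, (LG h2 hω).mul_mem hx (H3_le_LG h2 hω hy), ?_⟩
    rw [e, ← ex, ← ey]
    rfl
  rcases hg with rfl | rfl
  · exact key ga _ (l1_step i hi).1
  · exact key gb _ (l1_step i hi).2

omit [Finite F] in
theorem inG_U1 (j : Nat) (hj : j < 6156) : InG F ω (G0 h2 hω) (U1c j) := by
  refine inG_of_tree (G0 h2 hω) 6156 U1c (by rw [c0.1, decR_one]) ?_ j hj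
  intro j hj0 hj
  have hp := allB_spec _ _ cP1 j hj
  have hp' : lookN 14 PAR1tab j / 2 < j ∧ lookN 29 NX1tab (lookN 14 PAR1tab j) = j := by
    unfold chkP1 at hp
    simp only [Bool.or_eq_true, beq_iff_eq, Bool.and_eq_true, decide_eq_true_eq] at hp
    rcases hp with h | h
    · omega
    · exact h
  have hstep := l1_step (lookN 14 PAR1tab j / 2) (by omega)
  have e1 : j % 8192 = j := by omega
  have e2 : j / 8192 % 32 = 0 := by omega
  have e3 : j / 262144 = 0 := by omega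
  rcases Nat.mod_two_eq_zero_or_one (lookN 14 PAR1tab j) with hs | hs
  · have e0 : 2 * (lookN 14 PAR1tab j / 2) = lookN 14 PAR1tab j := by omega
    have h := hstep.1
    rw [e0, hp'.2] at h
    obtain ⟨_, _, _, e⟩ := chkOne_sound (F := F) (ω := ω) h2 hω _ _ _ h
    rw [e1, e2, e3, c0.2.1, c0.2.2, decR_one, mul_one, mul_one] at e
    exact ⟨_, hp'.1, aG h2 hω, Subgroup.subset_closure (by simp), e.symm⟩
  · have e0 : 2 * (lookN 14 PAR1tab j / 2) + 1 = lookN 14 PAR1tab j := by omega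
    have h := hstep.2
    rw [e0, hp'.2] at h
    obtain ⟨_, _, _, e⟩ := chkOne_sound (F := F) (ω := ω) h2 hω _ _ _ h
    rw [e1, e2, e3, c0.2.1, c0.2.2, decR_one, mul_one, mul_one] at e
    exact ⟨_, hp'.1, bG h2 hω, Subgroup.subset_closure (by simp), e.symm⟩

end Chain

/-! ### explicit subgroups given by closed lists -/

theorem unp_inj {c c' : Nat} (h : unp c = unp c') : c % 2 ^ 162 = c' % 2 ^ 162 := by
  apply Nat.eq_of_testBit_eq
  intro k
  rw [Nat.testBit_mod_two_pow, Nat.testBit_mod_two_pow]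
  by_cases hk : k < 162
  · have hr := congrArg (fun m : R9 => (m.row (k / 18)).testBit (k % 18)) h
    simp only [unp_row _ _ (show k / 18 < 9 by omega), Nat.testBit_and, Nat.testBit_shiftRight,
      Nat.testBit_two_pow_sub_one] at hr
    have e : 18 * (k / 18) + k % 18 = k := Nat.div_add_mod k 18
    have hlt : decide (k % 18 < 18) = true := by simp; omega
    rw [e, hlt, Bool.and_true, Bool.and_true] at hr
    simp [hk, hr]
  · simp [hk]

theorem look_inj (T : List Nat) (n : Nat) (hnd : ((List.range n).map (lookN 162 T)).Nodup)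
    (i j : Nat) (hi : i < n) (hj : j < n) (h : look T i = look T j) : i = j := by
  apply List.inj_on_of_nodup_map hnd (List.mem_range.mpr hi) (List.mem_range.mpr hj)
  exact unp_inj h

section Expl

variable {F : Type*} [Field F] [Finite F] {ω : F} (h2 : (2 : F) = 0) (hω : ω ^ 2 + ω + 1 = 0)
include h2 hω

/-- a list of codes closed under left multiplication by generators is a subgroup -/
theorem explicit_sub {r : ℕ} (g : Fin r → GL F9 F) (c : Fin r → R9)
    (hg : ∀ s, (g s : Matrix F9 F9 F) = decR F ω (c s)) (n : ℕ) (hn : 0 < n) (u : ℕ → R9)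
    (h0 : u 0 = oneR)
    (hcl : ∀ s : Fin r, ∀ i < n, ∃ j < n, mulR (c s) (u i) = u j)
    (htree : ∀ j, 0 < j → j < n → ∃ i < j, ∃ s : Fin r, mulR (c s) (u i) = u j)
    (hnorm : ∀ i, Norm (u i))
    (hinj : ∀ i < n, ∀ j < n, u i = u j → i = j) :
    Nat.card (Subgroup.closure (Set.range g)) = n ∧
      (∀ x ∈ Subgroup.closure (Set.range g), ∃ i < n, (x : Matrix F9 F9 F) = decR F ω (u i)) ∧
      ∀ i < n, InG F ω (Subgroup.closure (Set.range g)) (u i) := by
  have hS : ∀ s ∈ Set.range g, ∀ i < n, ∃ j < n, ∃ h ∈ (⊥ : Subgroup (GL F9 F)),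
      (s : Matrix F9 F9 F) * decR F ω (u i) = decR F ω (u j) * (h : Matrix F9 F9 F) := by
    rintro _ ⟨s, rfl⟩ i hi
    obtain ⟨j, hj, e⟩ := hcl s i hi
    refine ⟨j, hj, 1, Subgroup.one_mem _, ?_⟩
    rw [hg, ← decR_mul h2 hω, e]
    simp
  have h0' : decR F ω (u 0) = 1 := by rw [h0, decR_one]
  have hin : ∀ i < n, InG F ω (Subgroup.closure (Set.range g)) (u i) := by
    refine inG_of_tree _ n u h0' ?_
    intro j hj0 hj
    obtain ⟨i, hij, s, e⟩ := htree j hj0 hj
    exact ⟨i, hij, g s, Subgroup.subset_closure ⟨s, rfl⟩, by rw [hg, ← decR_mul h2 hω, e]⟩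
  refine ⟨le_antisymm ?_ ?_, ?_, hin⟩
  · have := card_le (F := F) (ω := ω) (Set.range g) ⊥ n u hn h0' hS
    simpa using this
  · exact card_ge _ n u hin (fun i hi j hj e => hinj i hi j hj (decR_inj h2 hω (hnorm i) (hnorm j) e))
  · intro x hx
    obtain ⟨i, hi, h, hh, e⟩ := cover (F := F) (ω := ω) (Set.range g) ⊥ n u hn h0' hS x hx
    rw [Subgroup.mem_bot] at hh
    refine ⟨i, hi, ?_⟩
    rw [e, hh]
    simp

end Expl

section Top

variable {F : Type*} [Field F] [Finite F] {ω : F} (h2 : (2 : F) = 0) (hω : ω ^ 2 + ω + 1 = 0)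

omit [Finite F] in
theorem aG_mem : aG h2 hω ∈ threeJ3 F ω :=
  mem_of_inG (c := ga) (by rw [← ga_eq]; exact prodW_inG h2 hω _ waL_ok) _ rfl

omit [Finite F] in
theorem bG_mem : bG h2 hω ∈ threeJ3 F ω :=
  mem_of_inG (c := gb) (by
    rw [← gb_eq]
    exact InG.mul h2 hω (prodW_inG h2 hω _ wbL_ok)
      (InG.mul h2 hω (prodW_inG h2 hω _ wbL_ok) (prodW_inG h2 hω _ wbL_ok))) _ rfl

omit [Finite F] in
theorem G0_le : G0 h2 hω ≤ threeJ3 F ω := by
  unfold G0
  rw [Subgroup.closure_le]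
  rintro _ (rfl | rfl)
  · exact aG_mem h2 hω
  · exact bG_mem h2 hω

omit [Finite F] in
theorem inG_s2 (s : Fin 5) : InG F ω (G0 h2 hω) (s2c s) := by
  have hacc : ∀ m ∈ [gb, ga], InG F ω (G0 h2 hω) m := by
    intro m hm
    simp only [List.mem_cons, List.not_mem_nil, or_false] at hm
    rcases hm with rfl | rfl
    · exact ⟨bG h2 hω, Subgroup.subset_closure (by simp), rfl⟩
    · exact ⟨aG h2 hω, Subgroup.subset_closure (by simp), rfl⟩
  have hall := slp_inG h2 hω (G0 h2 hω) SLPtab [gb, ga] 2 hacc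
  have hmem : s2c s ∈ SLPtargets.map (fun t => (slpRun SLPtab [gb, ga] 2).getD (156 - t) oneR) := by
    rw [slp_ok]
    fin_cases s <;> simp
  obtain ⟨t, _, ht⟩ := List.mem_map.mp hmem
  rw [← ht]
  by_cases hk : 156 - t < (slpRun SLPtab [gb, ga] 2).length
  · rw [List.getD_eq_getElem _ _ hk]
    exact hall _ (List.getElem_mem hk)
  · rw [List.getD_eq_default _ _ (by omega)]
    exact InG.one _

omit [Finite F] in
theorem sG_mem (s : Fin 5) : sG h2 hω s ∈ G0 h2 hω := mem_of_inG (inG_s2 h2 hω s) _ rfl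

omit [Finite F] in
theorem LG_le : LG h2 hω ≤ G0 h2 hω := by
  unfold LG
  rw [Subgroup.closure_le]
  rintro _ ⟨s, rfl⟩
  exact sG_mem h2 hω s

omit [Finite F] in
theorem inG_T (i k l : Nat) (hi : i < 6156) (hk : k < 17) (hl : l < 1440) :
    InG F ω (G0 h2 hω) (mulR (U1c i) (mulR (U2c k) (L3c l))) :=
  InG.mul h2 hω (inG_U1 h2 hω _ hi) (InG.mul h2 hω ((inG_U2 h2 hω _ hk).mono (LG_le h2 hω))
    ((inG_L3 h2 hω _ hl).mono ((H3_le_LG h2 hω).trans (LG_le h2 hω))))

omit [Finite F] in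
theorem J_le : threeJ3 F ω ≤ G0 h2 hω := by
  unfold threeJ3
  rw [Subgroup.closure_le]
  intro g hg
  obtain ⟨fam, Z, hZ, e⟩ := gens_cases h2 hω _ hg
  have hc := cT Z fam hZ
  unfold chkT at hc
  simp only [Bool.and_eq_true, decide_eq_true_eq] at hc
  obtain ⟨⟨⟨h1, h1'⟩, h1''⟩, e'⟩ := hc
  refine mem_of_inG (c := cG fam Z) ?_ g e
  rw [← e']
  exact inG_T h2 hω _ _ _ h1 h1' h1''

omit [Finite F] in
/-- the group of the definitions is generated by the two elements of order 19 -/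
theorem J_eq : threeJ3 F ω = G0 h2 hω := le_antisymm (J_le h2 hω) (G0_le h2 hω)

end Top

section Card

variable {F : Type*} [Field F] [Finite F] {ω : F} (h2 : (2 : F) = 0) (hω : ω ^ 2 + ω + 1 = 0)

/-- generators of a Sylow 2-subgroup -/
def pG (s : Fin 3) : GL F9 F := glOf h2 hω (p2g s) (p2gi s) (cinv2 s)
/-- a Sylow 2-subgroup -/
def P2G : Subgroup (GL F9 F) := Subgroup.closure (Set.range (pG h2 hω))
/-- generators of a Sylow 3-subgroup -/
def qG (s : Fin 6) : GL F9 F :=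
  glOf h2 hω (p3g s) (cGi (p3f s).1 (p3f s).2)
    (invG (p3f s).2 ⟨(p3f s).1, lt_trans (cp3f s) (by norm_num)⟩ (Or.inl (cp3f s)))
/-- a Sylow 3-subgroup -/
def P3G : Subgroup (GL F9 F) := Subgroup.closure (Set.range (qG h2 hω))

theorem P2_facts : Nat.card (P2G h2 hω) = 128 ∧
    (∀ x ∈ P2G h2 hω, ∃ i < 128, (x : Matrix F9 F9 F) = decR F ω (P2c i)) ∧
    ∀ i < 128, InG F ω (P2G h2 hω) (P2c i) := by
  have hstep : ∀ s : Fin 3, ∀ i < 128, lookN 7 NXP2tab (3 * i + s.val) < 128 ∧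
      mulR (p2g s.val) (P2c i) = P2c (lookN 7 NXP2tab (3 * i + s.val)) := by
    intro s i hi
    have h := allB_spec _ _ (show allB _ 3 = true from allB_spec _ _ cS2 i hi) s.val s.isLt
    simpa [Bool.and_eq_true, decide_eq_true_eq] using h
  refine explicit_sub h2 hω (pG h2 hω) (fun s => p2g s) (fun s => rfl) 128 (by norm_num) P2c
    c0'.1 (fun s i hi => ⟨_, (hstep s i hi).1, (hstep s i hi).2⟩) ?_ (fun i => norm_look _ _)
    (fun i hi j hj e => look_inj P2tab 128 cN2 i j hi hj e)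
  intro j hj0 hj
  have hp := allB_spec _ _ cPS2 j hj
  have hp' : lookN 9 PARP2tab j / 3 < j ∧ lookN 7 NXP2tab (lookN 9 PARP2tab j) = j := by
    unfold chkPS2 at hp
    simp only [Bool.or_eq_true, beq_iff_eq, Bool.and_eq_true, decide_eq_true_eq] at hp
    rcases hp with h | h
    · omega
    · exact h
  have hs : lookN 9 PARP2tab j % 3 < 3 := Nat.mod_lt _ (by norm_num)
  have e := (hstep ⟨lookN 9 PARP2tab j % 3, hs⟩ (lookN 9 PARP2tab j / 3) (by omega)).2
  simp only [Nat.div_add_mod] at e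
  rw [hp'.2] at e
  exact ⟨_, hp'.1, ⟨lookN 9 PARP2tab j % 3, hs⟩, e⟩

theorem P3_facts : Nat.card (P3G h2 hω) = 729 ∧
    (∀ x ∈ P3G h2 hω, ∃ i < 729, (x : Matrix F9 F9 F) = decR F ω (P3c i)) ∧
    ∀ i < 729, InG F ω (P3G h2 hω) (P3c i) := by
  have hstep : ∀ s : Fin 6, ∀ i < 729, lookN 10 NXP3tab (6 * i + s.val) < 729 ∧
      mulR (p3g s.val) (P3c i) = P3c (lookN 10 NXP3tab (6 * i + s.val)) := by
    intro s i hi
    have h := allB_spec _ _ (show allB _ 6 = true from chkS3_all i hi) s.val s.isLt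
    simpa [Bool.and_eq_true, decide_eq_true_eq] using h
  refine explicit_sub h2 hω (qG h2 hω) (fun s => p3g s) (fun s => rfl) 729 (by norm_num) P3c
    c0'.2 (fun s i hi => ⟨_, (hstep s i hi).1, (hstep s i hi).2⟩) ?_ (fun i => norm_look _ _)
    (fun i hi j hj e => look_inj P3tab 729 cN3 i j hi hj e)
  intro j hj0 hj
  have hp := allB_spec _ _ cPS3 j hj
  have hp' : lookN 13 PARP3tab j / 6 < j ∧ lookN 10 NXP3tab (lookN 13 PARP3tab j) = j := by
    unfold chkPS3 at hp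
    simp only [Bool.or_eq_true, beq_iff_eq, Bool.and_eq_true, decide_eq_true_eq] at hp
    rcases hp with h | h
    · omega
    · exact h
  have hs : lookN 13 PARP3tab j % 6 < 6 := Nat.mod_lt _ (by norm_num)
  have e := (hstep ⟨lookN 13 PARP3tab j % 6, hs⟩ (lookN 13 PARP3tab j / 6) (by omega)).2
  simp only [Nat.div_add_mod] at e
  rw [hp'.2] at e
  exact ⟨_, hp'.1, ⟨lookN 13 PARP3tab j % 6, hs⟩, e⟩

omit [Finite F] in
theorem P2G_le : P2G h2 hω ≤ threeJ3 F ω := by
  rw [J_eq h2 hω]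
  unfold P2G
  rw [Subgroup.closure_le]
  rintro _ ⟨s, rfl⟩
  obtain ⟨h1, h1', h1'', e⟩ := ctr2 s
  refine mem_of_inG (c := p2g s) ?_ _ rfl
  rw [← e]
  exact inG_T h2 hω _ _ _ h1 h1' h1''

omit [Finite F] in
theorem P3G_le : P3G h2 hω ≤ threeJ3 F ω := by
  unfold P3G
  rw [Subgroup.closure_le]
  rintro _ ⟨s, rfl⟩
  exact mem_of_inG (gen_inG h2 hω ⟨(p3f s).1, lt_trans (cp3f s) (by norm_num)⟩ (p3f s).2
    (Or.inl (cp3f s))) _ rfl

omit [Finite F] in
theorem normc : Norm x5c ∧ Norm zc ∧ Norm zc2 ∧ Norm ga ∧ Norm gb ∧ ∀ s : Fin 5, Norm (s2c s) :=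
  ⟨fun i hi => (cnorm ⟨i, hi⟩).1, fun i hi => (cnorm ⟨i, hi⟩).2.1, fun i hi => (cnorm ⟨i, hi⟩).2.2.1,
    fun i hi => (cnorm ⟨i, hi⟩).2.2.2.1, fun i hi => (cnorm ⟨i, hi⟩).2.2.2.2.1,
    fun s i hi => (cnorm ⟨i, hi⟩).2.2.2.2.2 s⟩

omit [Finite F] in
theorem aG_pow : aG h2 hω ^ 19 = 1 := by
  apply Units.ext
  rw [Units.val_pow_eq_pow_val]
  show decR F ω ga ^ 19 = 1
  rw [← decR_pw19 h2 hω, cab.1, decR_one]

omit [Finite F] in
theorem bG_pow : bG h2 hω ^ 19 = 1 := by
  apply Units.ext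
  rw [Units.val_pow_eq_pow_val]
  show decR F ω gb ^ 19 = 1
  rw [← decR_pw19 h2 hω, cab.2.1, decR_one]

omit [Finite F] in
theorem ab_ne : aG h2 hω * bG h2 hω ≠ bG h2 hω * aG h2 hω := by
  intro h
  have e : decR F ω (mulR ga gb) = decR F ω (mulR gb ga) := by
    rw [decR_mul h2 hω, decR_mul h2 hω]
    exact congrArg Units.val h
  rw [← decR_normR (mulR ga gb), ← decR_normR (mulR gb ga)] at e
  exact cab.2.2 (decR_inj h2 hω (norm_normR _) (norm_normR _) e)

omit [Finite F] in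
theorem aG_order : orderOf (aG h2 hω) = 19 := by
  haveI : Fact (Nat.Prime 19) := ⟨by norm_num⟩
  refine orderOf_eq_prime (aG_pow h2 hω) ?_
  intro h
  apply ab_ne h2 hω
  rw [h, one_mul, mul_one]

/-- an element of order 17 -/
def x17G : GL F9 F := sG h2 hω 4
/-- an element of order 5 -/
def x5G : GL F9 F := sG h2 hω 1 ^ 3

omit [Finite F] in
theorem x17_val : ((x17G h2 hω : GL F9 F) : Matrix F9 F9 F) = decR F ω (s2c 4) := rfl

omit [Finite F] in
theorem x5_val : ((x5G h2 hω : GL F9 F) : Matrix F9 F9 F) = decR F ω x5c := by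
  unfold x5G
  rw [Units.val_pow_eq_pow_val]
  show decR F ω (s2c 1) ^ 3 = _
  rw [← decR_cube h2 hω, cx5.1]

omit [Finite F] in
theorem x17_order : orderOf (x17G h2 hω) = 17 := by
  haveI : Fact (Nat.Prime 17) := ⟨by norm_num⟩
  refine orderOf_eq_prime ?_ ?_
  · apply Units.ext
    rw [Units.val_pow_eq_pow_val, x17_val, ← decR_pw17 h2 hω, cx5.2.2.2.1, decR_one]
    rfl
  · intro h
    have e : decR F ω (s2c 4) = decR F ω oneR := by
      rw [← x17_val h2 hω, h, decR_one]; rfl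
    exact cx5.2.2.2.2 (decR_inj h2 hω ((normc).2.2.2.2.2 4) norm_oneR e)

omit [Finite F] in
theorem x5_order : orderOf (x5G h2 hω) = 5 := by
  haveI : Fact (Nat.Prime 5) := ⟨by norm_num⟩
  refine orderOf_eq_prime ?_ ?_
  · apply Units.ext
    rw [Units.val_pow_eq_pow_val, x5_val, ← decR_pw5 h2 hω, cx5.2.1, decR_one]
    rfl
  · intro h
    have e : decR F ω x5c = decR F ω oneR := by
      rw [← x5_val h2 hω, h, decR_one]; rfl
    exact cx5.2.2.1 (decR_inj h2 hω (normc).1 norm_oneR e)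

omit [Finite F] in
theorem x17_mem : x17G h2 hω ∈ threeJ3 F ω := by
  rw [J_eq h2 hω]; exact sG_mem h2 hω 4

omit [Finite F] in
theorem x5_mem : x5G h2 hω ∈ threeJ3 F ω := by
  rw [J_eq h2 hω]; exact Subgroup.pow_mem _ (sG_mem h2 hω 1) 3

end Card

end Cfsg.Agent.Lib.Helper26.J3Main
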