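import Mathlib
import Cfsg.Agent.Lib.Helper26.J3CenQ
import Cfsg.Agent.Lib.Helper26.J3MultTab

/-!
# The Schur multiplier of `J3`: code-level checks
Helper26.
-/

set_option autoImplicit false

namespace Cfsg.Agent.Lib.Helper26.J3Mult

open Cfsg.Spor Cfsg.Agent.Lib.Helper26.J3Code Cfsg.Agent.Lib.Helper26.J3Main
open Cfsg.Agent.Lib.Helper26.J3Gens Cfsg.Agent.Lib.Helper26.J3Tab
open Cfsg.Agent.Lib.Helper26.J3Out (t0c trip)
open Cfsg.Agent.Lib.Helper26.J3Cen (L1c S0c Qc mq sg qg)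

/-! ### the Sylow 3-subgroup -/

/-- the table of a Sylow 3-subgroup of `3.J3` (order 729) -/
def t3c (i : Nat) : R9 := look M3tab i
def t3n (i : Nat) : Nat := lookN 162 M3tab i
def nx3 (i : Nat) : Nat := lookN 10 M3nx i
def par3 (i : Nat) : Nat := lookN 11 M3par i
def s3 (r : Nat) : Nat := lookN 10 M3srt r
def r3 (i : Nat) : Nat := lookN 10 M3rk i

/-- pairs (code of an element, code of its inverse): product -/
def mulP (a b : R9 × R9) : R9 × R9 := (mulR a.1 b.1, mulR b.2 a.2)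
/-- inverse -/
def invP (a : R9 × R9) : R9 × R9 := (a.2, a.1)
/-- commutator `a b a⁻¹ b⁻¹` -/
def cmP (a b : R9 × R9) : R9 × R9 := mulP (mulP (mulP a b) (invP a)) (invP b)

def xP : R9 × R9 := (x3c, x3ci)
def cP : R9 × R9 := (c8c, c8ci)
def yP : R9 × R9 := mulP (mulP cP xP) (invP cP)
def uP : R9 × R9 := cmP xP yP
def v1P : R9 × R9 := cmP uP xP
def v2P : R9 × R9 := cmP uP yP
def wP : R9 × R9 := cmP v1P yP

/-- the two generators of the Sylow 3-subgroup -/
def g3 (s : Nat) : R9 := cond (Nat.beq s 0) xP.1 yP.1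

def chk3 (i : Nat) : Bool :=
  decide (729 ≤ i) || allB (fun s => decide (nx3 (2 * i + s) < 729) &&
    decide (mulR (g3 s) (t3c i) = t3c (nx3 (2 * i + s)))) 2
def chkP3 (j : Nat) : Bool :=
  decide (729 ≤ j) || decide (j = 0) ||
    (decide (Nat.div (par3 j) 2 < j) && decide (nx3 (par3 j) = j))
def chkS3 (r : Nat) : Bool :=
  decide (728 ≤ r) || Nat.blt (t3n (s3 r)) (t3n (s3 (r + 1)))
def chkR3 (i : Nat) : Bool :=
  decide (729 ≤ i) || (decide (r3 i < 729) && decide (s3 (r3 i) = i))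

/-- the word `u^a v₁^b v₂^c` -/
def w3 (a b c : Nat) : R9 := mulR (mulR (powR uP.1 a) (powR v1P.1 b)) (powR v2P.1 c)

/-! ### the centraliser of an involution -/

def cjx (i : Nat) : Nat := lookN 11 MCJtab i
def qw (k : Nat) : Nat := lookN 5 MQWtab k
def sw (s : Nat) : Nat := lookN 7 MSWtab s

/-- elements of order 4 of the extraspecial group are conjugate to a fixed one or its inverse
under elements of odd order of the centraliser -/
def chkCJ (i : Nat) : Bool :=
  decide (mq (32 * i + i) ≠ 29) ||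
    (decide (cjx i < 1920) && decide (powR (L1c (cjx i)) 15 = oneR) &&
      (decide (mulR (L1c (cjx i)) (Qc mx0) = mulR (Qc i) (L1c (cjx i))) ||
        decide (mulR (L1c (cjx i)) (Qc mx0) = mulR (mulR (Qc i) t0c) (L1c (cjx i)))))

def a1c : R9 := S0c ma1
def a2c : R9 := S0c ma2
def e3c : R9 := S0c me3
def q0c : R9 := Qc mq0
def b1c : R9 := mulR (mulR a1c q0c) a1c
def b2c : R9 := mulR (mulR a2c q0c) a2c
def b3c : R9 := mulR (mulR (mulR a1c a2c) q0c) (mulR a2c a1c)
def sel (m j : Nat) (c : R9) : R9 := cond (Nat.testBit m j) c oneR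
/-- a word in the four conjugates of `q₀` and the involution -/
def wdQ (m : Nat) : R9 :=
  mulR (mulR (mulR (mulR (sel m 0 q0c) (sel m 1 b1c)) (sel m 2 b2c)) (sel m 3 b3c)) (sel m 4 t0c)
/-- a word `q a₁^e a₂^f` -/
def wdS (m : Nat) : R9 := mulR (mulR (Qc (Nat.div m 4)) (sel m 1 a1c)) (sel m 0 a2c)

end Cfsg.Agent.Lib.Helper26.J3Mult
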