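import Mathlib
import Cfsg.Prelude.Def_KGroupFacts
import Cfsg.Agent.Lib.Helper26.J3Abs

/-!
# An outer automorphism group of order two, from a Sylow 19-subgroup and an involution

Abstract part of the computation of `Out(J3)`: `J` is generated by `a` of order 19 and `t`;
`n` normalises `⟨a⟩` acting as the fourth power, `σ` is an automorphism squaring `a` which is
not inner, and the automorphisms fixing `a` (resp. squaring it) are known on `t`.  Helper26.
-/

set_option autoImplicit false

namespace Cfsg.Agent.Lib.Helper26.J3OutAbs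

theorem arith19 : ∀ r : Fin 19, r ≠ 0 → ∃ e : Fin 9, (r.val * 4 ^ e.val) % 19 = 1 ∨
    (r.val * 4 ^ e.val) % 19 = 2 := by decide

variable {J : Type*} [Group J]

theorem conj_pow_four (a n : J) (hn : n * a * n⁻¹ = a ^ 4) (e : ℕ) :
    n ^ e * a * (n ^ e)⁻¹ = a ^ 4 ^ e := by
  induction e with
  | zero => simp
  | succ e ih =>
    have : n ^ (e + 1) * a * (n ^ (e + 1))⁻¹ = n * (n ^ e * a * (n ^ e)⁻¹) * n⁻¹ := by
      rw [pow_succ']; group
    rw [this, ih, ← conj_pow, hn, ← pow_mul, pow_succ']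

theorem aut_eq_of_gen (a t : J) (hgen : Subgroup.closure {a, t} = ⊤) (f g : MulAut J)
    (ha : f a = g a) (ht : f t = g t) : f = g := by
  have h : f.toMonoidHom = g.toMonoidHom := by
    apply MonoidHom.eq_of_eqOn_dense hgen
    rintro x (rfl | rfl)
    · exact ha
    · exact ht
  ext x
  exact DFunLike.congr_fun h x

theorem card_out_two [Finite J] (a t n : J) (σ : MulAut J)
    (hgen : Subgroup.closure {a, t} = ⊤)
    (ha : orderOf a = 19) (hcard : ¬ 19 ^ 2 ∣ Nat.card J)
    (hn : n * a * n⁻¹ = a ^ 4)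
    (hσa : σ a = a ^ 2)
    (hσ : σ ∉ Cfsg.Inn J)
    (h1 : ∀ α : MulAut J, α a = a → ∃ j : ℕ, α t = a ^ j * t * (a ^ j)⁻¹)
    (h2 : ∀ α : MulAut J, α a = a ^ 2 → ∃ j : ℕ, α t = a ^ j * σ t * (a ^ j)⁻¹) :
    Nat.card (Cfsg.Out J) = 2 := by
  have : Fact (Nat.Prime 19) := ⟨by norm_num⟩
  have hcases : ∀ α : MulAut J, α ∈ Cfsg.Inn J ∨ ∃ ι ∈ Cfsg.Inn J, α = ι * σ := by
    intro α
    -- Sylow step
    have hP : Nat.card (Subgroup.zpowers a) = 19 ^ 1 := by rw [Nat.card_zpowers, ha]; norm_num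
    have hQ : IsPGroup 19 (Subgroup.zpowers (α a)) := by
      apply IsPGroup.of_card (n := 1)
      rw [Nat.card_zpowers, MulEquiv.orderOf_eq, ha]; norm_num
    obtain ⟨g, hg⟩ := J3Abs.exists_conj_le (Subgroup.zpowers a) 1 hP (by simpa using hcard)
      (Subgroup.zpowers (α a)) hQ
    have hmem := hg (α a) (Subgroup.mem_zpowers _)
    rw [← mem_powers_iff_mem_zpowers] at hmem
    obtain ⟨k, hk⟩ := (Submonoid.mem_powers_iff _ _).mp hmem
    -- `k` is prime to 19
    have hk19 : ¬ 19 ∣ k := by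
      intro hdvd
      have h1' : a ^ k = 1 := by
        rw [← ha] at hdvd
        exact orderOf_dvd_iff_pow_eq_one.mp hdvd
      rw [h1'] at hk
      have : α a = 1 := by
        have := congrArg (fun x => g⁻¹ * x * g) hk
        simp only [mul_one, inv_mul_cancel] at this
        rw [this]; group
      have h19 : orderOf (α a) = 19 := by rw [MulEquiv.orderOf_eq, ha]
      rw [this, orderOf_one] at h19
      norm_num at h19
    have hr : (⟨k % 19, Nat.mod_lt _ (by norm_num)⟩ : Fin 19) ≠ 0 := by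
      intro h
      have := congrArg Fin.val h
      simp only [Fin.val_zero] at this
      exact hk19 (Nat.dvd_of_mod_eq_zero this)
    obtain ⟨e, he⟩ := arith19 _ hr
    simp only at he
    -- the adjusted automorphism
    let β : MulAut J := MulAut.conj (n ^ e.val * g) * α
    have hβa : β a = a ^ ((k * 4 ^ e.val) % 19) := by
      show n ^ e.val * g * α a * (n ^ e.val * g)⁻¹ = _
      have : n ^ e.val * g * α a * (n ^ e.val * g)⁻¹ = n ^ e.val * (g * α a * g⁻¹) * (n ^ e.val)⁻¹ := by
        group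
      rw [this, ← hk, ← conj_pow, conj_pow_four a n hn, ← pow_mul, mul_comm]
      conv_rhs => rw [← ha, pow_mod_orderOf]
    have hαβ : α = MulAut.conj (n ^ e.val * g)⁻¹ * β := by
      show α = MulAut.conj (n ^ e.val * g)⁻¹ * (MulAut.conj (n ^ e.val * g) * α)
      rw [← mul_assoc, ← map_mul, inv_mul_cancel, map_one, one_mul]
    have hmod : (k % 19 * 4 ^ e.val) % 19 = (k * 4 ^ e.val) % 19 := by
      rw [Nat.mul_mod, Nat.mod_mod, ← Nat.mul_mod]
    rw [hmod] at he
    rcases he with he | he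
    · -- `β a = a`
      rw [he, pow_one] at hβa
      obtain ⟨j, hj⟩ := h1 β hβa
      have hγ : MulAut.conj (a ^ j)⁻¹ * β = 1 := by
        apply aut_eq_of_gen a t hgen
        · show (a ^ j)⁻¹ * β a * (a ^ j)⁻¹⁻¹ = a
          rw [hβa]; group
        · show (a ^ j)⁻¹ * β t * (a ^ j)⁻¹⁻¹ = t
          rw [hj]; group
      left
      have hβ : β = MulAut.conj (a ^ j) := by
        have := congrArg (fun x => MulAut.conj (a ^ j) * x) hγ
        simp only [mul_one] at this
        rw [← this, ← mul_assoc, ← map_mul, mul_inv_cancel, map_one, one_mul]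
      rw [hαβ, hβ, ← map_mul]
      exact ⟨_, rfl⟩
    · -- `β a = a ^ 2`
      rw [he] at hβa
      obtain ⟨j, hj⟩ := h2 β hβa
      have hγ : MulAut.conj (a ^ j)⁻¹ * β = σ := by
        apply aut_eq_of_gen a t hgen
        · show (a ^ j)⁻¹ * β a * (a ^ j)⁻¹⁻¹ = σ a
          rw [hβa, hσa]; group
        · show (a ^ j)⁻¹ * β t * (a ^ j)⁻¹⁻¹ = σ t
          rw [hj]; group
      right
      have hβ : β = MulAut.conj (a ^ j) * σ := by
        rw [← hγ, ← mul_assoc, ← map_mul, mul_inv_cancel, map_one, one_mul]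
      refine ⟨MulAut.conj ((n ^ e.val * g)⁻¹ * a ^ j), ⟨_, rfl⟩, ?_⟩
      rw [hαβ, hβ, ← mul_assoc, ← map_mul]
  rw [Nat.card_eq_two_iff]
  refine ⟨1, QuotientGroup.mk σ, ?_, ?_⟩
  · intro h
    exact hσ ((QuotientGroup.eq_one_iff σ).mp h.symm)
  · ext x
    simp only [Set.mem_insert_iff, Set.mem_singleton_iff, Set.mem_univ, iff_true]
    induction x using QuotientGroup.induction_on with
    | H α =>
      rcases hcases α with h | ⟨ι, hι, rfl⟩
      · left; exact (QuotientGroup.eq_one_iff α).mpr h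
      · right
        rw [QuotientGroup.mk_mul, (QuotientGroup.eq_one_iff ι).mpr hι, one_mul]

end Cfsg.Agent.Lib.Helper26.J3OutAbs
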