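import Cfsg.Agent.Lib.Helper26.J3Out

/-!
# Kernel checks for the automorphisms of `J3` (generated)
Helper26.
-/

set_option autoImplicit false
set_option maxRecDepth 100000

namespace Cfsg.Agent.Lib.Helper26.J3Out

open Cfsg.Agent.Lib.Helper26.J3Code Cfsg.Agent.Lib.Helper26.J3Gens Cfsg.Agent.Lib.Helper26.J3Tab
open Cfsg.Agent.Lib.Helper26.J3Orb (allR)

theorem cMisc : apw 0 = oneR ∧ rep 0 = t0c ∧ rep msig = thc t0c ∧ thc ga = mulR ga ga ∧
    thc gb = trip tbTr ∧ thc zc = zc2 ∧ mulR Ac Aci = oneR ∧ mulR Aci Ac = oneR ∧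
    mulR (trip nTr) ga = mulR (powR ga 4) (trip nTr) ∧ wordR bword = gb ∧
    tbTr.1 < 6156 ∧ tbTr.2.1 < 17 ∧ tbTr.2.2 < 1440 ∧ nTr.1 < 6156 ∧ nTr.2.1 < 17 ∧
    nTr.2.2 < 1440 ∧ mulR t0c t0c = oneR ∧ msig < 1377 := by decide +kernel
theorem cAP : allB chkAP 19 = true := by decide +kernel
theorem cCT : allB chkCT 361 = true := by decide +kernel
theorem cJ : allB chkJ 128 = true := by decide +kernel
theorem cTB : allB chkTB 128 = true := by decide +kernel

end Cfsg.Agent.Lib.Helper26.J3Out
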