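import Cfsg.Agent.Lib.Helper26.J3Out

/-!
# Kernel checks for the automorphisms of `J3` (generated)
Helper26.
-/

set_option autoImplicit false
set_option maxRecDepth 100000

namespace Cfsg.Agent.Lib.Helper26.J3Out

open Cfsg.Agent.Lib.Helper26.J3Code Cfsg.Agent.Lib.Helper26.J3Gens Cfsg.Agent.Lib.Helper26.J3Tab
open Cfsg.Agent.Lib.Helper26.J3Orb (allR)

theorem cB_10 : allR chkB 10 (2 ^ 10 * 10) = true := by decide +kernel
theorem cB_11 : allR chkB 10 (2 ^ 10 * 11) = true := by decide +kernel
theorem cB_12 : allR chkB 10 (2 ^ 10 * 12) = true := by decide +kernel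
theorem cB_13 : allR chkB 10 (2 ^ 10 * 13) = true := by decide +kernel
theorem cB_14 : allR chkB 10 (2 ^ 10 * 14) = true := by decide +kernel

end Cfsg.Agent.Lib.Helper26.J3Out
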