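import Cfsg.Agent.Lib.Helper26.J3Out

/-!
# Kernel checks for the automorphisms of `J3` (generated)
Helper26.
-/

set_option autoImplicit false
set_option maxRecDepth 100000

namespace Cfsg.Agent.Lib.Helper26.J3Out

open Cfsg.Agent.Lib.Helper26.J3Code Cfsg.Agent.Lib.Helper26.J3Gens Cfsg.Agent.Lib.Helper26.J3Tab
open Cfsg.Agent.Lib.Helper26.J3Orb (allR)

theorem cF2_0 : allR chkF2 7 (2 ^ 7 * 0) = true := by decide +kernel
theorem cF2_1 : allR chkF2 7 (2 ^ 7 * 1) = true := by decide +kernel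
theorem cF2_2 : allR chkF2 7 (2 ^ 7 * 2) = true := by decide +kernel
theorem cF2_3 : allR chkF2 7 (2 ^ 7 * 3) = true := by decide +kernel
theorem cF2_4 : allR chkF2 7 (2 ^ 7 * 4) = true := by decide +kernel
theorem cF2_5 : allR chkF2 7 (2 ^ 7 * 5) = true := by decide +kernel
theorem cF2_6 : allR chkF2 7 (2 ^ 7 * 6) = true := by decide +kernel
theorem cF2_7 : allR chkF2 7 (2 ^ 7 * 7) = true := by decide +kernel
theorem cF2_8 : allR chkF2 7 (2 ^ 7 * 8) = true := by decide +kernel
theorem cF2_9 : allR chkF2 7 (2 ^ 7 * 9) = true := by decide +kernel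
theorem cF2_10 : allR chkF2 7 (2 ^ 7 * 10) = true := by decide +kernel

end Cfsg.Agent.Lib.Helper26.J3Out
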