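import Cfsg.Agent.Lib.Helper26.J3Out
import Cfsg.Agent.Lib.Helper26.J3OutAbs
import Cfsg.Agent.Lib.Helper26.J3OutChk0
import Cfsg.Agent.Lib.Helper26.J3OutChkB0
import Cfsg.Agent.Lib.Helper26.J3OutChkB1
import Cfsg.Agent.Lib.Helper26.J3OutChkB2
import Cfsg.Agent.Lib.Helper26.J3OutChkB3
import Cfsg.Agent.Lib.Helper26.J3OutChkB4
import Cfsg.Agent.Lib.Helper26.J3OutChkB5
import Cfsg.Agent.Lib.Helper26.J3OutChkF1
import Cfsg.Agent.Lib.Helper26.J3OutChkF2

/-!
# The outer automorphism group of `J3` has order two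

Assembly of the kernel checks of `J3OutChk*` with the abstract argument of `J3OutAbs`.
Helper26.
-/

set_option autoImplicit false
set_option maxRecDepth 100000

namespace Cfsg.Agent.Lib.Helper26.J3Out

open Cfsg.Spor Cfsg.Agent.Lib.Helper26.J3Code Cfsg.Agent.Lib.Helper26.J3Main
open Cfsg.Agent.Lib.Helper26.J3Gens Cfsg.Agent.Lib.Helper26.J3Tab
open Cfsg.Agent.Lib.Helper26.J3Orb (allR allR_spec allR_chunks lookW)

/-! ### the kernel checks, assembled -/

theorem cB_all : ∀ i < 26163, chkB i = true := by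
  intro i hi
  refine allR_chunks chkB 10 26 ?_ i (by omega)
  intro k hk
  interval_cases k
  · exact cB_0
  · exact cB_1
  · exact cB_2
  · exact cB_3
  · exact cB_4
  · exact cB_5
  · exact cB_6
  · exact cB_7
  · exact cB_8
  · exact cB_9
  · exact cB_10
  · exact cB_11
  · exact cB_12
  · exact cB_13
  · exact cB_14
  · exact cB_15
  · exact cB_16
  · exact cB_17
  · exact cB_18
  · exact cB_19
  · exact cB_20
  · exact cB_21
  · exact cB_22
  · exact cB_23
  · exact cB_24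
  · exact cB_25

theorem cF1_all : ∀ m < 1377, chkF1 m = true := by
  intro i hi
  refine allR_chunks chkF1 7 11 ?_ i (by omega)
  intro k hk
  interval_cases k
  · exact cF1_0
  · exact cF1_1
  · exact cF1_2
  · exact cF1_3
  · exact cF1_4
  · exact cF1_5
  · exact cF1_6
  · exact cF1_7
  · exact cF1_8
  · exact cF1_9
  · exact cF1_10

theorem cF2_all : ∀ m < 1377, chkF2 m = true := by
  intro i hi
  refine allR_chunks chkF2 7 11 ?_ i (by omega)
  intro k hk
  interval_cases k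
  · exact cF2_0
  · exact cF2_1
  · exact cF2_2
  · exact cF2_3
  · exact cF2_4
  · exact cF2_5
  · exact cF2_6
  · exact cF2_7
  · exact cF2_8
  · exact cF2_9
  · exact cF2_10

theorem c_t0 : inZ (normR t0c) = false := by decide +kernel

theorem c_apw0 : apw 0 = oneR := cMisc.1
theorem c_rep0 : rep 0 = t0c := cMisc.2.1
theorem c_repS : rep msig = thc t0c := cMisc.2.2.1
theorem c_tha : thc ga = mulR ga ga := cMisc.2.2.2.1
theorem c_thb : thc gb = trip tbTr := cMisc.2.2.2.2.1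
theorem c_thz : thc zc = zc2 := cMisc.2.2.2.2.2.1
theorem c_A : mulR Ac Aci = oneR ∧ mulR Aci Ac = oneR :=
  ⟨cMisc.2.2.2.2.2.2.1, cMisc.2.2.2.2.2.2.2.1⟩
theorem c_n : mulR (trip nTr) ga = mulR (powR ga 4) (trip nTr) := cMisc.2.2.2.2.2.2.2.2.1
theorem c_word : wordR bword = gb := cMisc.2.2.2.2.2.2.2.2.2.1
theorem c_tbTr : tbTr.1 < 6156 ∧ tbTr.2.1 < 17 ∧ tbTr.2.2 < 1440 :=
  ⟨cMisc.2.2.2.2.2.2.2.2.2.2.1, cMisc.2.2.2.2.2.2.2.2.2.2.2.1, cMisc.2.2.2.2.2.2.2.2.2.2.2.2.1⟩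
theorem c_nTr : nTr.1 < 6156 ∧ nTr.2.1 < 17 ∧ nTr.2.2 < 1440 :=
  ⟨cMisc.2.2.2.2.2.2.2.2.2.2.2.2.2.1, cMisc.2.2.2.2.2.2.2.2.2.2.2.2.2.2.1,
    cMisc.2.2.2.2.2.2.2.2.2.2.2.2.2.2.2.1⟩
theorem c_tt : mulR t0c t0c = oneR := cMisc.2.2.2.2.2.2.2.2.2.2.2.2.2.2.2.2.1
theorem c_msig : msig < 1377 := cMisc.2.2.2.2.2.2.2.2.2.2.2.2.2.2.2.2.2

/-! ### the Frobenius map on codes -/

theorem fr_even (x j : Nat) (hj : j < 9) :
    (fr x).testBit (2 * j) = (x.testBit (2 * j) ^^ x.testBit (2 * j + 1)) := by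
  show (x ^^^ (x >>> 1 &&& 87381)).testBit _ = _
  simp only [Nat.testBit_xor, Nat.testBit_and, Nat.testBit_shiftRight]
  interval_cases j <;> simp (decide := true) [m_tb']

theorem fr_odd (x j : Nat) (hj : j < 9) : (fr x).testBit (2 * j + 1) = x.testBit (2 * j + 1) := by
  show (x ^^^ (x >>> 1 &&& 87381)).testBit _ = _
  simp only [Nat.testBit_xor, Nat.testBit_and, Nat.testBit_shiftRight]
  interval_cases j <;> simp (decide := true) [m_tb']

theorem frobR_row (m : R9) (i : Nat) (hi : i < 9) : (frobR m).row i = fr (m.row i) := by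
  interval_cases i <;> rfl

section GLpart

variable {F : Type*} [Field F] {ω : F} (h2 : (2 : F) = 0) (hω : ω ^ 2 + ω + 1 = 0)

include hω in
theorem decR_frobR (m : R9) : decR F ω (frobR m) = (decR F ω m).map (J3Uni.sqHom h2) := by
  ext w z
  show val F ω ((frobR m).row (ix w)) (ix z) = (val F ω (m.row (ix w)) (ix z)) ^ 2
  rw [frobR_row _ _ (ix_lt w), J3Uni.val_sq h2 hω]
  unfold val
  rw [fr_even _ _ (ix_lt z), fr_odd _ _ (ix_lt z)]

include h2 hω in
theorem decR_powR (x : R9) (n : ℕ) : decR F ω (powR x n) = decR F ω x ^ n := by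
  induction n with
  | zero => rw [powR, decR_one, pow_zero]
  | succ n ih => rw [powR, decR_mul h2 hω, ih, pow_succ']

/-- the matrix of the outer automorphism -/
def Ag : GL F9 F := glOf h2 hω Ac Aci c_A

/-- the semilinear automorphism of `GL` -/
def thGL : GL F9 F →* GL F9 F :=
  (MulAut.conj (Ag h2 hω)).toMonoidHom.comp (Matrix.GeneralLinearGroup.map (J3Uni.sqHom h2))

theorem thGL_val (g : GL F9 F) (c : R9) (hg : (g : Matrix F9 F9 F) = decR F ω c) :
    ((thGL h2 hω g : GL F9 F) : Matrix F9 F9 F) = decR F ω (thc c) := by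
  have e1 : ((thGL h2 hω g : GL F9 F) : Matrix F9 F9 F) =
      decR F ω Ac * (g : Matrix F9 F9 F).map (J3Uni.sqHom h2) * decR F ω Aci := rfl
  rw [e1, hg, thc, decR_mul h2 hω, decR_mul h2 hω, decR_frobR h2 hω]

theorem thGL_inj : Function.Injective (thGL h2 hω) := by
  intro g g' h
  have h1 : Matrix.GeneralLinearGroup.map (J3Uni.sqHom h2) g =
      Matrix.GeneralLinearGroup.map (J3Uni.sqHom h2) g' := (MulAut.conj (Ag h2 hω)).injective h
  apply Units.ext
  ext i j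
  have h3' : ((Matrix.GeneralLinearGroup.map (J3Uni.sqHom h2) g : GL F9 F) : Matrix F9 F9 F) =
      ((Matrix.GeneralLinearGroup.map (J3Uni.sqHom h2) g' : GL F9 F) : Matrix F9 F9 F) := by
    rw [h1]
  have h3 : J3Uni.sqHom h2 ((g : Matrix F9 F9 F) i j) = J3Uni.sqHom h2 ((g' : Matrix F9 F9 F) i j) :=
    congrFun (congrFun h3' i) j
  exact (J3Uni.sqHom h2).injective h3

theorem thGL_aG : thGL h2 hω (aG h2 hω) = aG h2 hω * aG h2 hω := by
  apply Units.ext
  rw [thGL_val h2 hω _ ga rfl, c_tha, decR_mul h2 hω]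
  rfl

theorem thGL_mem (g : GL F9 F) (hg : g ∈ threeJ3 F ω) : thGL h2 hω g ∈ threeJ3 F ω := by
  have hle : G0 h2 hω ≤ (threeJ3 F ω).comap (thGL h2 hω) := by
    unfold G0
    rw [Subgroup.closure_le]
    rintro g (rfl | rfl)
    · show thGL h2 hω (aG h2 hω) ∈ threeJ3 F ω
      rw [thGL_aG]
      exact Subgroup.mul_mem _ (aG_mem h2 hω) (aG_mem h2 hω)
    · show thGL h2 hω (bG h2 hω) ∈ threeJ3 F ω
      apply G0_le h2 hω
      refine mem_of_inG (inG_T h2 hω _ _ _ c_tbTr.1 c_tbTr.2.1 c_tbTr.2.2) _ ?_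
      rw [thGL_val h2 hω _ gb rfl, c_thb]
      rfl
  rw [J_eq h2 hω] at hg
  exact hle hg

end GLpart

end Cfsg.Agent.Lib.Helper26.J3Out
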