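import Cfsg.Agent.Lib.Helper26.J3Out2

/-!
# The outer automorphism group of `J3` has order two: group-level assembly
Helper26.
-/

set_option autoImplicit false
set_option maxRecDepth 100000
set_option linter.unusedSectionVars false

namespace Cfsg.Agent.Lib.Helper26.J3Out

open Cfsg.Spor Cfsg.Agent.Lib.Helper26.J3Code Cfsg.Agent.Lib.Helper26.J3Main
open Cfsg.Agent.Lib.Helper26.J3Gens Cfsg.Agent.Lib.Helper26.J3Tab
open Cfsg.Agent.Lib.Helper26.J3Orb (lookW lookW_lt)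

/-- the word `x y x^2 y x^e y` -/
def W {M : Type*} [Monoid M] (x y : M) (e : ℕ) : M := x * y * x ^ 2 * y * x ^ e * y

theorem map_W {M N Φ : Type*} [Monoid M] [Monoid N] [FunLike Φ M N] [MonoidHomClass Φ M N]
    (f : Φ) (x y : M) (e : ℕ) : f (W x y e) = W (f x) (f y) e := by
  simp only [W, map_mul, map_pow]

/-- a word in two letters (letter 0 is the first) -/
def wordG {M : Type*} [Monoid M] (x y : M) : List Nat → M
  | [] => 1
  | l :: ls => (cond (Nat.beq l 0) x y) * wordG x y ls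

theorem wordG_mem {M : Type*} [Group M] (x y : M) (w : List Nat) :
    wordG x y w ∈ Subgroup.closure {x, y} := by
  induction w with
  | nil => exact Subgroup.one_mem _
  | cons l ls ih =>
    rw [wordG]
    refine Subgroup.mul_mem _ ?_ ih
    cases Nat.beq l 0
    · exact Subgroup.subset_closure (Or.inr rfl)
    · exact Subgroup.subset_closure (Or.inl rfl)

theorem map_center {G : Type*} [Group G] (e : G ≃* G) :
    (Subgroup.center G).map e.toMonoidHom = Subgroup.center G := by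
  ext y
  rw [Subgroup.mem_map, Subgroup.mem_center_iff]
  constructor
  · rintro ⟨x, hx, rfl⟩ h
    rw [Subgroup.mem_center_iff] at hx
    have := congrArg e (hx (e.symm h))
    simpa using this
  · intro hy
    refine ⟨e.symm y, ?_, by simp⟩
    rw [Subgroup.mem_center_iff]
    intro g
    have := congrArg e.symm (hy (e g))
    simpa using this

section Grp

variable {F : Type*} [Field F] [Finite F] {ω : F} (h2 : (2 : F) = 0) (hω : ω ^ 2 + ω + 1 = 0)

/-- the automorphism of `3.J3` as a homomorphism -/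
def thG : threeJ3 F ω →* threeJ3 F ω :=
  ((thGL h2 hω).comp (threeJ3 F ω).subtype).codRestrict (threeJ3 F ω)
    (fun g => thGL_mem h2 hω g.1 g.2)

theorem thG_inj : Function.Injective (thG h2 hω) := by
  intro x y h
  apply Subtype.ext
  apply thGL_inj h2 hω
  exact congrArg Subtype.val h

/-- the automorphism of `3.J3` -/
noncomputable def thE : threeJ3 F ω ≃* threeJ3 F ω :=
  MulEquiv.ofBijective (thG h2 hω)
    ⟨thG_inj h2 hω, Finite.surjective_of_injective (thG_inj h2 hω)⟩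

theorem mt_thE (x : threeJ3 F ω) (c : R9) (hx : mt x = decR F ω c) :
    mt (thE h2 hω x) = decR F ω (thc c) :=
  thGL_val h2 hω x.1 c hx

/-- the projection to `J3` -/
def qm : threeJ3 F ω →* J3 F ω := QuotientGroup.mk' (Subgroup.center (threeJ3 F ω))

/-- the outer automorphism of `J3` -/
noncomputable def sig : MulAut (J3 F ω) :=
  QuotientGroup.congr (Subgroup.center (threeJ3 F ω)) (Subgroup.center (threeJ3 F ω))
    (thE h2 hω) (map_center _)

theorem sig_mk (x : threeJ3 F ω) : sig h2 hω (qm x) = qm (thE h2 hω x) := rfl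

/-- the involution -/
def t' : threeJ3 F ω := ⟨sG h2 hω 0, (J_eq h2 hω) ▸ sG_mem h2 hω 0⟩

theorem mt_t : mt (t' h2 hω) = decR F ω t0c := rfl
theorem mt_a : mt (a' h2 hω) = decR F ω ga := rfl
theorem mt_b : mt (b' h2 hω) = decR F ω gb := rfl
theorem a_pow : a' h2 hω ^ 19 = 1 := Subtype.ext (aG_pow h2 hω)
theorem b_pow : b' h2 hω ^ 19 = 1 := Subtype.ext (bG_pow h2 hω)

include h2 hω in
theorem qm_eq_one_iff (g : threeJ3 F ω) (c : R9) (hg : mt g = decR F ω c) :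
    qm g = 1 ↔ inZ (normR c) = true := by
  have h1 : qm g = 1 ↔ g ∈ Subgroup.center (threeJ3 F ω) := QuotientGroup.eq_one_iff g
  rw [h1, center_J h2 hω, mem_Zs]
  unfold inZ
  simp only [Bool.or_eq_true, decide_eq_true_eq]
  have hn : mt g = decR F ω (normR c) := by rw [decR_normR]; exact hg
  constructor
  · rintro (h | h | h)
    · left; left
      apply decR_inj h2 hω (norm_normR _) norm_oneR
      rw [← hn, h, mt_one, decR_one]
    · left; right
      apply decR_inj h2 hω (norm_normR _) (normc).2.1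
      rw [← hn, h, mt_z]
    · right
      apply decR_inj h2 hω (norm_normR _) (normc).2.2.1
      rw [← hn, h, mt_z2]
  · rintro ((h | h) | h)
    · left; apply mt_inj; rw [hn, h, decR_one, mt_one]
    · right; left; apply mt_inj; rw [hn, h, mt_z]
    · right; right; apply mt_inj; rw [hn, h, mt_z2]

theorem apw_val : ∀ j < 19, decR F ω (apw j) = mt (a' h2 hω ^ j) := by
  intro j
  induction j with
  | zero => intro _; rw [c_apw0, decR_one, pow_zero, mt_one]
  | succ j ih =>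
    intro hj
    have hc := allB_spec _ _ cAP j (by omega)
    unfold chkAP at hc
    have hc' : mulR ga (apw j) = apw (Nat.mod (j + 1) 19) := of_decide_eq_true hc
    have hm : Nat.mod (j + 1) 19 = j + 1 := Nat.mod_eq_of_lt hj
    rw [hm] at hc'
    rw [← hc', decR_mul h2 hω, ih (by omega), pow_succ', mt_mul]
    rfl

theorem apw_mod (k : ℕ) : decR F ω (apw (Nat.mod k 19)) = mt (a' h2 hω ^ k) := by
  have h := apw_val h2 hω (Nat.mod k 19) (Nat.mod_lt k (by norm_num))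
  rw [h, pow_eq_pow_mod k (a_pow h2 hω)]
  rfl

theorem ct_val (j' j : ℕ) (hj' : j' < 19) (hj : j < 19) :
    decR F ω (ct (19 * j' + j)) = mt ((a' h2 hω ^ j')⁻¹ * b' h2 hω * a' h2 hω ^ j) := by
  have hc := allB_spec _ _ cCT (19 * j' + j) (by omega)
  unfold chkCT at hc
  have hc' := of_decide_eq_true hc
  have e1 : Nat.div (19 * j' + j) 19 = j' := by show (19 * j' + j) / 19 = j'; omega
  have e2 : Nat.mod (19 * j' + j) 19 = j := by show (19 * j' + j) % 19 = j; omega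
  rw [e1, e2] at hc'
  have h3 := congrArg (decR F ω) hc'
  rw [decR_mul h2 hω, decR_mul h2 hω, apw_val h2 hω _ hj', apw_val h2 hω _ hj] at h3
  have h4 : decR F ω (ct (19 * j' + j)) =
      mt (a' h2 hω ^ j')⁻¹ * (mt (a' h2 hω ^ j') * decR F ω (ct (19 * j' + j))) := by
    rw [← mul_assoc, ← mt_mul, inv_mul_cancel, mt_one, one_mul]
  rw [h4, h3, mt_mul, mt_mul, mul_assoc]
  rfl

theorem wr_val (κ m e3 : ℕ) (ρ : threeJ3 F ω) (hρ : mt ρ = decR F ω (rep m)) :
    decR F ω (wr κ m e3) = mt (W (a' h2 hω ^ κ) ρ e3) := by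
  unfold wr W
  rw [show 2 * κ = κ * 2 from mul_comm _ _]
  simp only [decR_mul h2 hω, mt_mul, apw_mod h2 hω, ← hρ, ← pow_mul]

theorem word_iff (κ m e3 n : ℕ) (ρ : threeJ3 F ω) (hρ : mt ρ = decR F ω (rep m)) :
    qm (W (a' h2 hω ^ κ) ρ e3) ^ n = 1 ↔ inZ (normR (powR (wr κ m e3) n)) = true := by
  rw [← map_pow]
  apply qm_eq_one_iff h2 hω
  rw [mt_pow, decR_powR h2 hω, wr_val h2 hω κ m e3 ρ hρ]

/-- conjugate, by a power of the first generator, to one of the listed involutions -/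
def InX (x : threeJ3 F ω) : Prop :=
  ∃ m < 1377, ∃ j : ℕ, mt ((a' h2 hω ^ j)⁻¹ * x * a' h2 hω ^ j) = decR F ω (rep m)

theorem InX_t : InX h2 hω (t' h2 hω) :=
  ⟨0, by norm_num, 0, by rw [pow_zero, inv_one, one_mul, mul_one, c_rep0]; rfl⟩

theorem InX_a (x : threeJ3 F ω) (hx : InX h2 hω x) :
    InX h2 hω (a' h2 hω * x * (a' h2 hω)⁻¹) := by
  obtain ⟨m, hm, j, e⟩ := hx
  refine ⟨m, hm, j + 1, ?_⟩
  rw [← e]
  congr 1
  rw [pow_succ]; group

theorem InX_b (x : threeJ3 F ω) (hx : InX h2 hω x) :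
    InX h2 hω (b' h2 hω * x * (b' h2 hω)⁻¹) := by
  obtain ⟨m, hm, j0, e0⟩ := hx
  have hj : j0 % 19 < 19 := Nat.mod_lt _ (by norm_num)
  have e : mt ((a' h2 hω ^ (j0 % 19))⁻¹ * x * a' h2 hω ^ (j0 % 19)) = decR F ω (rep m) := by
    rw [← pow_eq_pow_mod j0 (a_pow h2 hω)]; exact e0
  generalize j0 % 19 = j at hj e
  have hc := cB_all (19 * m + j) (by omega)
  unfold chkB at hc
  simp only [Bool.or_eq_true, Bool.and_eq_true, decide_eq_true_eq] at hc
  rcases hc with hc | ⟨⟨h1, h1'⟩, h3⟩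
  · omega
  have e1 : Nat.div (19 * m + j) 19 = m := by show (19 * m + j) / 19 = m; omega
  have e2 : Nat.mod (19 * m + j) 19 = j := by show (19 * m + j) % 19 = j; omega
  rw [e1, e2] at h3
  generalize Nat.div (nxb (19 * m + j)) 32 = m' at h1 h3
  generalize Nat.mod (nxb (19 * m + j)) 32 = j' at h1' h3
  have hct : decR F ω (ct (Nat.add (Nat.mul 19 j') j)) =
      mt ((a' h2 hω ^ j')⁻¹ * b' h2 hω * a' h2 hω ^ j) := ct_val h2 hω j' j h1' hj
  have h4 := congrArg (decR F ω) h3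
  rw [decR_mul h2 hω, decR_mul h2 hω, hct] at h4
  refine ⟨m', h1, j', ?_⟩
  have hg : (a' h2 hω ^ j')⁻¹ * (b' h2 hω * x * (b' h2 hω)⁻¹) * a' h2 hω ^ j' =
      ((a' h2 hω ^ j')⁻¹ * b' h2 hω * a' h2 hω ^ j) * ((a' h2 hω ^ j)⁻¹ * x * a' h2 hω ^ j) *
        ((a' h2 hω ^ j')⁻¹ * b' h2 hω * a' h2 hω ^ j)⁻¹ := by
    group
  rw [hg, mt_mul, mt_mul, e, h4, mul_assoc, mt_mul_inv, mul_one]

theorem InX_pow (g : threeJ3 F ω) (hg : ∀ x, InX h2 hω x → InX h2 hω (g * x * g⁻¹)) :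
    ∀ (n : ℕ) (x : threeJ3 F ω), InX h2 hω x → InX h2 hω (g ^ n * x * (g ^ n)⁻¹) := by
  intro n
  induction n with
  | zero => intro x hx; simpa using hx
  | succ n ih =>
    intro x hx
    have := hg _ (ih x hx)
    have e : g ^ (n + 1) * x * (g ^ (n + 1))⁻¹ = g * (g ^ n * x * (g ^ n)⁻¹) * g⁻¹ := by
      rw [pow_succ']; group
    rw [e]; exact this

theorem InX_conj (g x : threeJ3 F ω) (hx : InX h2 hω x) : InX h2 hω (g * x * g⁻¹) := by
  have key : ∀ g : threeJ3 F ω, g ∈ Subgroup.closure {a' h2 hω, b' h2 hω} →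
      (∀ x, InX h2 hω x → InX h2 hω (g * x * g⁻¹)) ∧
        (∀ x, InX h2 hω x → InX h2 hω (g⁻¹ * x * g)) := by
    intro g hg
    induction hg using Subgroup.closure_induction with
    | mem z hz =>
      have h19 : z ^ 19 = 1 := by
        rcases hz with rfl | rfl
        · exact a_pow h2 hω
        · exact b_pow h2 hω
      have hz1 : ∀ x, InX h2 hω x → InX h2 hω (z * x * z⁻¹) := by
        rcases hz with rfl | rfl
        · exact InX_a h2 hω
        · exact InX_b h2 hω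
      refine ⟨hz1, fun x hx => ?_⟩
      have h18 : z ^ 18 = z⁻¹ := by
        apply eq_inv_of_mul_eq_one_left
        rw [← pow_succ, h19]
      have := InX_pow h2 hω z hz1 18 x hx
      rw [h18, inv_inv] at this
      exact this
    | one => exact ⟨fun x hx => by simpa using hx, fun x hx => by simpa using hx⟩
    | mul y z hy hz ihy ihz =>
      refine ⟨fun x hx => ?_, fun x hx => ?_⟩
      · have := ihy.1 _ (ihz.1 x hx)
        have e : y * z * x * (y * z)⁻¹ = y * (z * x * z⁻¹) * y⁻¹ := by group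
        rw [e]; exact this
      · have := ihz.2 _ (ihy.2 x hx)
        have e : (y * z)⁻¹ * x * (y * z) = z⁻¹ * (y⁻¹ * x * y) * z := by group
        rw [e]; exact this
    | inv y hy ih =>
      refine ⟨fun x hx => ?_, fun x hx => ?_⟩
      · have := ih.2 x hx
        rw [inv_inv]; exact this
      · have := ih.1 x hx
        rw [inv_inv]; exact this
  exact (key g (by rw [closure_ab]; trivial)).1 x hx

theorem inv_InX (x : threeJ3 F ω) (hx : x * x = 1) (hne : x ≠ 1) : InX h2 hω x := by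
  have : Fact (Nat.Prime 2) := ⟨Nat.prime_two⟩
  have hP : Nat.card ((P2G h2 hω).subgroupOf (threeJ3 F ω)) = 2 ^ 7 := by
    rw [Nat.card_congr (Subgroup.subgroupOfEquivOfLe (P2G_le h2 hω)).toEquiv, (P2_facts h2 hω).1]
    norm_num
  have hG : ¬ 2 ^ (7 + 1) ∣ Nat.card (threeJ3 F ω) := by rw [(card_J h2 hω).1]; norm_num
  have ho : orderOf x = 2 := orderOf_eq_prime (by rw [pow_two]; exact hx) hne
  have hQ : IsPGroup 2 (Subgroup.zpowers x) := by
    apply IsPGroup.of_card (n := 1)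
    rw [Nat.card_zpowers, ho]; norm_num
  obtain ⟨g, hg⟩ := J3Abs.exists_conj_le _ 7 hP hG _ hQ
  have hmem := hg x (Subgroup.mem_zpowers x)
  rw [Subgroup.mem_subgroupOf] at hmem
  obtain ⟨i, hi, e⟩ := (P2_facts h2 hω).2.1 _ hmem
  have e' : mt (g * x * g⁻¹) = decR F ω (P2c i) := e
  have hc := allB_spec _ _ cJ i hi
  unfold chkJ at hc
  simp only [Bool.or_eq_true, Bool.and_eq_true, decide_eq_true_eq] at hc
  rcases hc with (hc | hc) | ⟨⟨⟨h1, h1'⟩, h1''⟩, h3⟩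
  · exfalso
    have h1 : g * x * g⁻¹ = 1 := mt_inj (by rw [mt_one, e', hc, decR_one])
    apply hne
    have h' := congrArg (fun y => g⁻¹ * y * g) h1
    simp only [mul_one, inv_mul_cancel] at h'
    rw [← h']; group
  · exfalso
    have ht2 : (g * x * g⁻¹) ^ 2 = 1 := by
      rw [pow_two]
      have : g * x * g⁻¹ * (g * x * g⁻¹) = g * (x * x) * g⁻¹ := by group
      rw [this, hx]; group
    have h1 : decR F ω (sqR (P2c i)) = decR F ω oneR := by
      rw [decR_sq h2 hω, ← e', ← mt_pow, ht2, mt_one, decR_one]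
    exact decR_ne' h2 hω norm_oneR hc h1
  · obtain ⟨h, hhJ, hh⟩ := inG_T h2 hω _ _ _ h1 h1' h1''
    have hhJ' : h ∈ threeJ3 F ω := by rw [J_eq h2 hω]; exact hhJ
    have hmt : mt (⟨h, hhJ'⟩ : threeJ3 F ω) = decR F ω (trip (cjTr i)) := hh
    generalize (⟨h, hhJ'⟩ : threeJ3 F ω) = h' at hmt
    have e1 : h' * (g * x * g⁻¹) = t' h2 hω * h' := by
      apply mt_inj
      rw [mt_mul, hmt, e', mt_mul (t' h2 hω) h', hmt, ← decR_mul h2 hω, h3, decR_mul h2 hω]
      rfl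
    have e2 : x = (h' * g)⁻¹ * t' h2 hω * ((h' * g)⁻¹)⁻¹ := by
      have e3 : t' h2 hω = h' * (g * x * g⁻¹) * h'⁻¹ := by rw [e1]; group
      rw [e3]; group
    rw [e2]
    exact InX_conj h2 hω _ _ (InX_t h2 hω)

theorem Zs_pow (c : threeJ3 F ω) (hc : c ∈ Zs h2 hω) : c ^ 3 = 1 := by
  rw [mem_Zs] at hc
  rcases hc with h | h | h <;> rw [h]
  · simp
  · exact z_pow h2 hω
  · rw [← pow_mul, pow_mul', z_pow h2 hω, one_pow]

include h2 hω in
theorem lift_inv (y : J3 F ω) (hy : y * y = 1) (hne : y ≠ 1) :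
    ∃ x : threeJ3 F ω, x * x = 1 ∧ x ≠ 1 ∧ qm x = y := by
  obtain ⟨y0, rfl⟩ := QuotientGroup.mk_surjective y
  have hz : y0 * y0 ∈ Zs h2 hω := by
    rw [← center_J h2 hω]
    exact (QuotientGroup.eq_one_iff _).mp hy
  have h3 : (y0 * y0) ^ 3 = 1 := Zs_pow h2 hω _ hz
  have hq : qm (y0 ^ 3) = (QuotientGroup.mk y0 : J3 F ω) := by
    show (QuotientGroup.mk (y0 ^ 3) : J3 F ω) = QuotientGroup.mk y0
    rw [QuotientGroup.mk_pow, pow_succ, pow_two, hy, one_mul]
  refine ⟨y0 ^ 3, ?_, ?_, hq⟩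
  · rw [← h3]; simp only [pow_succ, pow_zero, one_mul, mul_assoc]
  · intro h
    rw [h, map_one] at hq
    exact hne hq.symm

theorem t_mul : t' h2 hω * t' h2 hω = 1 := by
  apply mt_inj
  rw [mt_mul, mt_t, ← decR_mul h2 hω, c_tt, decR_one, mt_one]

theorem qt_ne : qm (t' h2 hω) ≠ 1 := by
  intro h
  have := (qm_eq_one_iff h2 hω _ t0c (mt_t h2 hω)).mp h
  rw [c_t0] at this
  exact Bool.false_ne_true this

theorem key_bits (κ : ℕ) (β : MulAut (J3 F ω))
    (hβa : β (qm (a' h2 hω)) = qm (a' h2 hω) ^ κ)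
    (ρ : threeJ3 F ω) (m : ℕ) (hρ : mt ρ = decR F ω (rep m))
    (hβt : β (qm (t' h2 hω)) = qm ρ) (i : ℕ) (hi : i < 128) :
    inZ (normR (powR (wr κ m (Nat.div i 16)) (Nat.mod i 16))) =
      tbit (Nat.div i 16) (Nat.mod i 16) := by
  have hc := allB_spec _ _ cTB i hi
  unfold chkTB at hc
  rw [beq_iff_eq] at hc
  rw [hc, Bool.eq_iff_iff]
  have hrep0 : mt (t' h2 hω) = decR F ω (rep 0) := by rw [c_rep0]; rfl
  rw [← word_iff h2 hω κ m _ _ ρ hρ, ← word_iff h2 hω 1 0 _ _ (t' h2 hω) hrep0, pow_one]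
  have hβ : β (qm (W (a' h2 hω) (t' h2 hω) (Nat.div i 16)) ^ Nat.mod i 16) =
      qm (W (a' h2 hω ^ κ) ρ (Nat.div i 16)) ^ Nat.mod i 16 := by
    rw [map_pow, map_W qm, map_W β, hβa, hβt, map_W qm, map_pow]
  rw [← hβ, EmbeddingLike.map_eq_one_iff]

theorem aut_t (κ : ℕ) (α : MulAut (J3 F ω))
    (hα : α (qm (a' h2 hω)) = qm (a' h2 hω) ^ κ) :
    ∃ j : ℕ, ∃ m < 1377, ∃ ρ : threeJ3 F ω, mt ρ = decR F ω (rep m) ∧
      α (qm (t' h2 hω)) = qm (a' h2 hω) ^ j * qm ρ * (qm (a' h2 hω) ^ j)⁻¹ ∧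
      ∀ i < 128, inZ (normR (powR (wr κ m (Nat.div i 16)) (Nat.mod i 16))) =
        tbit (Nat.div i 16) (Nat.mod i 16) := by
  have hy2 : α (qm (t' h2 hω)) * α (qm (t' h2 hω)) = 1 := by
    rw [← map_mul, ← map_mul, t_mul, map_one, map_one]
  have hyne : α (qm (t' h2 hω)) ≠ 1 := by
    intro h
    rw [EmbeddingLike.map_eq_one_iff] at h
    exact qt_ne h2 hω h
  obtain ⟨x, hx2, hxne, hxq⟩ := lift_inv h2 hω _ hy2 hyne
  obtain ⟨m, hm, j, e⟩ := inv_InX h2 hω x hx2 hxne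
  have hρq : qm ((a' h2 hω ^ j)⁻¹ * x * a' h2 hω ^ j) =
      (qm (a' h2 hω) ^ j)⁻¹ * α (qm (t' h2 hω)) * qm (a' h2 hω) ^ j := by
    rw [map_mul, map_mul, map_inv, map_pow, hxq]
  generalize (a' h2 hω ^ j)⁻¹ * x * a' h2 hω ^ j = ρ at e hρq
  refine ⟨j, m, hm, ρ, e, ?_, ?_⟩
  · rw [hρq]; group
  · have hβa : (MulAut.conj (qm (a' h2 hω) ^ j)⁻¹ * α) (qm (a' h2 hω)) = qm (a' h2 hω) ^ κ := by
      show (qm (a' h2 hω) ^ j)⁻¹ * α (qm (a' h2 hω)) * (qm (a' h2 hω) ^ j)⁻¹⁻¹ = _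
      rw [hα]; group
    have hβt : (MulAut.conj (qm (a' h2 hω) ^ j)⁻¹ * α) (qm (t' h2 hω)) = qm ρ := by
      show (qm (a' h2 hω) ^ j)⁻¹ * α (qm (t' h2 hω)) * (qm (a' h2 hω) ^ j)⁻¹⁻¹ = _
      rw [hρq, inv_inv]
    exact key_bits h2 hω κ _ hβa ρ m e hβt

theorem fp_lt (w : List Nat) (m : ℕ) : lookW 7 w m < 128 :=
  lt_of_lt_of_le (lookW_lt 7 w m) (by norm_num)

theorem aut_one (α : MulAut (J3 F ω)) (hα : α (qm (a' h2 hω)) = qm (a' h2 hω)) :
    ∃ j : ℕ, α (qm (t' h2 hω)) =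
      qm (a' h2 hω) ^ j * qm (t' h2 hω) * (qm (a' h2 hω) ^ j)⁻¹ := by
  obtain ⟨j, m, hm, ρ, hρ, hαt, hbits⟩ := aut_t h2 hω 1 α (by rw [pow_one]; exact hα)
  refine ⟨j, ?_⟩
  have hc := cF1_all m hm
  unfold chkF1 at hc
  simp only [Bool.or_eq_true, decide_eq_true_eq, bne_iff_ne] at hc
  rcases hc with (hc | hc) | hc
  · omega
  · subst hc
    have : ρ = t' h2 hω := mt_inj (by rw [hρ, c_rep0]; rfl)
    rw [hαt, this]
  · exact absurd (hbits (fp1 m) (fp_lt _ _)) hc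

theorem aut_two (α : MulAut (J3 F ω)) (hα : α (qm (a' h2 hω)) = qm (a' h2 hω) ^ 2) :
    ∃ j : ℕ, α (qm (t' h2 hω)) =
      qm (a' h2 hω) ^ j * sig h2 hω (qm (t' h2 hω)) * (qm (a' h2 hω) ^ j)⁻¹ := by
  obtain ⟨j, m, hm, ρ, hρ, hαt, hbits⟩ := aut_t h2 hω 2 α hα
  refine ⟨j, ?_⟩
  have hc := cF2_all m hm
  unfold chkF2 at hc
  simp only [Bool.or_eq_true, decide_eq_true_eq, bne_iff_ne] at hc
  rcases hc with (hc | hc) | hc
  · omega
  · subst hc
    have : ρ = thE h2 hω (t' h2 hω) :=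
      mt_inj (by rw [hρ, c_repS, mt_thE h2 hω _ t0c (mt_t h2 hω)])
    rw [hαt, this]
    rfl
  · exact absurd (hbits (fp2 m) (fp_lt _ _)) hc

theorem wordG_val (w : List Nat) :
    mt (wordG (a' h2 hω) (t' h2 hω) w) = decR F ω (wordR w) := by
  induction w with
  | nil => rw [wordG, wordR, mt_one, decR_one]
  | cons l ls ih =>
    rw [wordG, wordR, mt_mul, decR_mul h2 hω, ih]
    congr 1
    cases Nat.beq l 0 <;> rfl

theorem closure_at :
    Subgroup.closure {a' h2 hω, t' h2 hω} = (⊤ : Subgroup (threeJ3 F ω)) := by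
  rw [eq_top_iff, ← closure_ab h2 hω, Subgroup.closure_le]
  rintro g (rfl | rfl)
  · exact Subgroup.subset_closure (Or.inl rfl)
  · have hb : b' h2 hω = wordG (a' h2 hω) (t' h2 hω) bword := by
      apply mt_inj
      rw [wordG_val, c_word]; rfl
    rw [SetLike.mem_coe, hb]
    exact wordG_mem _ _ _

theorem closure_q :
    Subgroup.closure {qm (a' h2 hω), qm (t' h2 hω)} = (⊤ : Subgroup (J3 F ω)) := by
  have h := congrArg (Subgroup.map (qm (F := F) (ω := ω))) (closure_at h2 hω)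
  rw [MonoidHom.map_closure, Set.image_pair,
    Subgroup.map_top_of_surjective _ (QuotientGroup.mk_surjective)] at h
  exact h

theorem qa_order : orderOf (qm (a' h2 hω)) = 19 := by
  have : Fact (Nat.Prime 19) := ⟨by norm_num⟩
  refine orderOf_eq_prime ?_ ?_
  · rw [← map_pow, a_pow h2 hω, map_one]
  · intro h
    have hc : a' h2 hω ∈ Subgroup.center (threeJ3 F ω) := (QuotientGroup.eq_one_iff _).mp h
    rw [Subgroup.mem_center_iff] at hc
    exact ab_ne h2 hω (congrArg Subtype.val (hc (b' h2 hω))).symm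

theorem exists_n : ∃ n : threeJ3 F ω, n * a' h2 hω * n⁻¹ = a' h2 hω ^ 4 := by
  obtain ⟨h, hhJ, hh⟩ := inG_T h2 hω _ _ _ c_nTr.1 c_nTr.2.1 c_nTr.2.2
  have hhJ' : h ∈ threeJ3 F ω := by rw [J_eq h2 hω]; exact hhJ
  have hmt : mt (⟨h, hhJ'⟩ : threeJ3 F ω) = decR F ω (trip nTr) := hh
  generalize (⟨h, hhJ'⟩ : threeJ3 F ω) = n at hmt
  refine ⟨n, ?_⟩
  have e1 : n * a' h2 hω = a' h2 hω ^ 4 * n := by
    apply mt_inj
    rw [mt_mul, mt_mul, mt_pow, hmt]
    show decR F ω (trip nTr) * decR F ω ga = decR F ω ga ^ 4 * decR F ω (trip nTr)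
    rw [← decR_mul h2 hω, c_n, decR_mul h2 hω, decR_powR h2 hω]
  rw [e1]; group

theorem thE_a : thE h2 hω (a' h2 hω) = a' h2 hω ^ 2 := by
  apply mt_inj
  rw [mt_thE h2 hω _ ga rfl, c_tha, decR_mul h2 hω, mt_pow, pow_two]
  rfl

theorem sig_a : sig h2 hω (qm (a' h2 hω)) = qm (a' h2 hω) ^ 2 := by
  rw [← map_pow, ← thE_a]
  rfl

theorem sig_not_inn : sig h2 hω ∉ Cfsg.Inn (J3 F ω) := by
  rintro ⟨hbar, hh⟩
  obtain ⟨h, rfl⟩ := QuotientGroup.mk_surjective hbar
  have hc : ∀ g : threeJ3 F ω, g ^ 19 = 1 → thE h2 hω g = h * g * h⁻¹ := by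
    intro g hg
    have e1 : (QuotientGroup.mk (h * g * h⁻¹) : J3 F ω) = QuotientGroup.mk (thE h2 hω g) :=
      DFunLike.congr_fun hh (QuotientGroup.mk g)
    rw [QuotientGroup.eq] at e1
    have hcz : (h * g * h⁻¹)⁻¹ * thE h2 hω g ∈ Zs h2 hω := by rw [← center_J h2 hω]; exact e1
    have hc3 := Zs_pow h2 hω _ hcz
    have hcomm : Commute (h * g * h⁻¹) ((h * g * h⁻¹)⁻¹ * thE h2 hω g) :=
      Subgroup.mem_center_iff.mp e1 (h * g * h⁻¹)
    have hth : thE h2 hω g = h * g * h⁻¹ * ((h * g * h⁻¹)⁻¹ * thE h2 hω g) := by group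
    generalize (h * g * h⁻¹)⁻¹ * thE h2 hω g = c at hc3 hcomm hth
    have h19 : (thE h2 hω g) ^ 19 = 1 := by rw [← map_pow, hg, map_one]
    have hconj19 : (h * g * h⁻¹) ^ 19 = 1 := by rw [conj_pow, hg]; group
    rw [hth, hcomm.mul_pow, hconj19, one_mul] at h19
    have hc1 : c = 1 := by
      have e : c ^ 19 = (c ^ 3) ^ 6 * c := by rw [← pow_mul, ← pow_succ]
      rw [hc3, one_pow, one_mul] at e
      rw [← e, h19]
    rw [hth, hc1, mul_one]
  have hz : thE h2 hω (z' h2 hω) = h * z' h2 hω * h⁻¹ := by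
    have heq : (thE h2 hω).toMonoidHom = (MulAut.conj h).toMonoidHom := by
      apply MonoidHom.eq_of_eqOn_dense (closure_ab h2 hω)
      rintro x (rfl | rfl)
      · exact hc _ (a_pow h2 hω)
      · exact hc _ (b_pow h2 hω)
    exact DFunLike.congr_fun heq (z' h2 hω)
  have hz2 : thE h2 hω (z' h2 hω) = z' h2 hω ^ 2 := by
    apply mt_inj
    rw [mt_thE h2 hω _ zc (mt_z h2 hω), c_thz, mt_z2]
  have hzc : h * z' h2 hω * h⁻¹ = z' h2 hω := by
    have e := Subgroup.mem_center_iff.mp (Zs_le_center h2 hω (Subgroup.mem_zpowers _)) h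
    rw [e]; group
  rw [hz2, hzc] at hz
  apply z_ne h2 hω
  have e := congrArg (fun y => y * (z' h2 hω)⁻¹) hz
  simp only [mul_inv_cancel] at e
  rw [← e]; group

include h2 hω in
/-- the outer automorphism group of `J3` has order two -/
theorem out_J3 : Nat.card (Cfsg.Out (J3 F ω)) = 2 := by
  obtain ⟨n, hn⟩ := exists_n h2 hω
  refine J3OutAbs.card_out_two (qm (a' h2 hω)) (qm (t' h2 hω)) (qm n) (sig h2 hω)
    (closure_q h2 hω) (qa_order h2 hω) ?_ ?_ (sig_a h2 hω) (sig_not_inn h2 hω)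
    (aut_one h2 hω) (aut_two h2 hω)
  · rw [(main_thm h2 hω).2.2.1]; norm_num
  · rw [← map_pow, ← hn, map_mul, map_mul, map_inv]

end Grp

end Cfsg.Agent.Lib.Helper26.J3Out
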