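import Cfsg.Agent.Lib.Helper8.TernaryGolay

/-!
Data for the monomial automorphisms of the length-12 ternary code: two generators with their
signs, words giving a chain of elements that shows the transitivity on ordered sets of five
points, and words of the code describing the pairing of the points outside a hexad induced by
four points of the hexad.  All facts are checked by evaluation.
-/

set_option autoImplicit false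

namespace Cfsg.Agent.Lib.Helper26.M12Data

open Cfsg Cfsg.Agent.Lib.Helper8.TernaryGolay

/-- the index of a point -/
def ix (q : ArrayPt) : Fin 12 := ⟨3 * q.1.val + q.2.val, by
  have h1 := q.1.isLt
  have h2 := ZMod.val_lt q.2
  omega⟩

/-- the point of an index -/
def pt : Fin 12 → ArrayPt :=
  ![(0, 0), (0, 1), (0, 2), (1, 0), (1, 1), (1, 2), (2, 0), (2, 1), (2, 2), (3, 0), (3, 1), (3, 2)]

/-- the first generator -/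
def g1 : Equiv.Perm ArrayPt where
  toFun q := pt ((![0, 1, 9, 10, 6, 4, 8, 3, 11, 7, 2, 5] : Fin 12 → Fin 12) (ix q))
  invFun q := pt ((![0, 1, 10, 7, 5, 11, 4, 9, 6, 2, 3, 8] : Fin 12 → Fin 12) (ix q))
  left_inv := by
    intro q
    revert q
    decide +kernel
  right_inv := by
    intro q
    revert q
    decide +kernel

/-- the second generator -/
def g2 : Equiv.Perm ArrayPt where
  toFun q := pt ((![1, 4, 6, 11, 0, 2, 8, 9, 7, 5, 10, 3] : Fin 12 → Fin 12) (ix q))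
  invFun q := pt ((![4, 0, 5, 11, 1, 9, 2, 8, 6, 7, 10, 3] : Fin 12 → Fin 12) (ix q))
  left_inv := by
    intro q
    revert q
    decide +kernel
  right_inv := by
    intro q
    revert q
    decide +kernel

/-- the signs of the first generator -/
def c1 (q : ArrayPt) : (ZMod 3)ˣ := (![1, 1, 1, 1, 1, -1, 1, -1, 1, 1, -1, -1] : Fin 12 → (ZMod 3)ˣ) (ix q)

/-- the signs of the second generator -/
def c2 (q : ArrayPt) : (ZMod 3)ˣ := (![1, -1, -1, 1, -1, -1, -1, 1, -1, 1, 1, 1] : Fin 12 → (ZMod 3)ˣ) (ix q)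

/-- the generators -/
def gen : Fin 2 → Equiv.Perm ArrayPt := ![g1, g2]

/-- the five base points -/
def pp : Fin 5 → ArrayPt := ![(0, 0), (0, 1), (0, 2), (1, 0), (1, 1)]

/-- words in the generators -/
def wrd : Fin 5 → Fin 12 → List (Fin 2) := ![![[], [1], [1, 0, 0, 0, 0, 1, 1], [0, 1, 0, 0, 1, 1], [1, 1], [0, 0, 0, 0, 1, 1], [0, 1, 1], [1, 0, 0, 1, 1], [0, 0, 1, 1], [1, 1, 0, 0, 1, 1], [0, 0, 1, 0, 0, 1, 1], [0, 0, 0, 1, 1]], ![[], [], [0, 0, 0, 1, 1, 0, 1], [0, 1, 1, 0, 1], [0, 0, 1, 1, 0, 0, 0, 1], [0, 1, 1, 0, 0, 0, 1], [1, 1, 0, 0, 0, 0, 1], [1, 1, 0, 1], [0, 1, 1, 0, 0, 0, 0, 1], [1, 1, 0, 0, 1], [0, 0, 1, 1, 0, 1], [1, 1, 0, 0, 0, 1]], ![[], [], [], [0, 0, 0], [0, 0, 0, 0, 1, 1, 1, 0], [0, 0, 0, 1, 1, 1, 0], [1, 1, 1, 0], [0, 0], [0, 1, 1, 1, 0], [0], [0, 0, 0, 0], [0, 0, 1, 1, 1, 0]], ![[], [], [], [], [0, 0, 1, 0, 1, 1,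 1, 0, 0, 1, 1], [0, 0, 0, 1, 1, 1, 0, 1, 1, 1, 0, 0, 0, 0], [0, 0, 0, 1, 1, 1], [1, 1, 1, 0, 0], [0, 1, 1, 1, 0, 0, 0, 0, 1, 1, 1, 0, 0], [0, 1, 1, 1, 0, 0, 0, 0], [1, 1, 1, 0, 0, 1, 1, 1, 0, 0], [0, 0, 1, 1, 1, 0, 0, 1, 1, 1, 0]], ![[], [], [], [], [], [1, 1, 1, 0, 0, 0, 1, 1, 1, 0, 0, 1, 1, 1], [0, 1, 1, 0, 1, 1, 1, 0, 0, 1], [0, 0, 0, 1, 1, 0, 0, 1, 1, 1, 0, 0, 1, 1, 1, 0, 1, 0], [1, 1, 0, 0, 1, 0, 0, 1, 1, 0, 0, 1, 0], [1, 0, 1, 1, 1, 0, 0, 1, 1, 0, 1, 1, 1, 0], [0, 0, 0, 0, 1, 1, 1, 0, 0, 1, 1, 1, 0, 1, 1, 1, 0], [1, 1, 0, 0, 0, 0, 1, 0, 0, 0, 1, 1, 0, 1, 0, 0]]]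

/-- an element fixing the base points before the `k`-th and mapping the `k`-th to `q` -/
def welt (k : Fin 5) (q : ArrayPt) : Equiv.Perm ArrayPt := ((wrd k (ix q)).map gen).prod

/-- the word supported on the hexad through the base points -/
def t0 : Inf := (1, 1, 1, 2, 2, 0)

/-- the hexad through the base points -/
def h0 : Finset ArrayPt := ternarySupport (wdp t0)

/-- the sixth point of the hexad through the base points -/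
def p6 : ArrayPt := (1, 2)

/-- some sets of four points of the base hexad -/
def Fk : Fin 5 → Finset ArrayPt := ![{(0, 0), (0, 1), (0, 2), (1, 0)}, {(0, 0), (0, 1), (0, 2), (1, 1)}, {(0, 0), (0, 1), (0, 2), (1, 2)}, {(0, 0), (1, 0), (1, 1), (1, 2)}, {(0, 1), (1, 0), (1, 1), (1, 2)}]

/-- the partner of a point outside the base hexad with respect to a set of four points -/
def par (k : Fin 5) (q : ArrayPt) : ArrayPt :=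
  pt ((![![0, 0, 0, 0, 0, 0, 9, 11, 10, 6, 8, 7], ![0, 0, 0, 0, 0, 0, 11, 10, 9, 8, 7, 6], ![0, 0, 0, 0, 0, 0, 10, 9, 11, 7, 6, 8], ![0, 0, 0, 0, 0, 0, 9, 10, 11, 6, 7, 8], ![0, 0, 0, 0, 0, 0, 10, 11, 9, 8, 6, 7]] : Fin 5 → Fin 12 → Fin 12) k (ix q))

/-- a word supported on the four points, the point and its partner -/
def wit (k : Fin 5) (q : ArrayPt) : Inf :=
  (![![(0, 0, 0, 0, 0, 0), (0, 0, 0, 0, 0, 0), (0, 0, 0, 0, 0, 0), (0, 0, 0, 0, 0, 0), (0, 0, 0, 0, 0, 0), (0, 0, 0, 0, 0, 0), (1, 2, 2, 2, 0, 2), (1, 2, 1, 1, 0, 0), (1, 1, 2, 1, 0, 0), (1, 2, 2, 2, 0, 2), (1, 1, 2, 1, 0, 0), (1, 2, 1, 1, 0, 0)], ![(0, 0, 0, 0, 0, 0), (0, 0, 0, 0, 0, 0), (0, 0, 0, 0, 0, 0), (0, 0, 0, 0, 0, 0), (0, 0, 0, 0, 0, 0), (0, 0, 0, 0, 0, 0), (1, 1, 2, 0, 1, 1), (1, 2, 2, 0, 2, 0), (1, 2, 1, 0, 1, 0), (1, 2, 1, 0, 1, 0), (1, 2, 2, 0, 2, 0), (1, 1,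 2, 0, 1, 1)], ![(0, 0, 0, 0, 0, 0), (0, 0, 0, 0, 0, 0), (0, 0, 0, 0, 0, 0), (0, 0, 0, 0, 0, 0), (0, 0, 0, 0, 0, 0), (0, 0, 0, 0, 0, 0), (1, 2, 1, 0, 0, 1), (1, 1, 2, 0, 0, 0), (1, 2, 2, 0, 0, 0), (1, 1, 2, 0, 0, 0), (1, 2, 1, 0, 0, 1), (1, 2, 2, 0, 0, 0)], ![(0, 0, 0, 0, 0, 0), (0, 0, 0, 0, 0, 0), (0, 0, 0, 0, 0, 0), (0, 0, 0, 0, 0, 0), (0, 0, 0, 0, 0, 0), (0, 0, 0, 0, 0, 0), (1, 0, 0, 2, 1, 1), (1, 0, 0, 1, 2, 0), (1, 0, 0, 1, 1, 0), (1, 0, 0, 2, 1, 1), (1, 0, 0, 1, 2, 0), (1, 0, 0, 1, 1, 0)], ![(0, 0, 0, 0, 0, 0), (0, 0, 0, 0, 0, 0), (0, 0, 0, 0, 0, 0), (0, 0, 0, 0, 0, 0), (0, 0, 0, 0, 0, 0), (0, 0, 0, 0, 0, 0), (0, 1, 0, 1, 1, 1), (0, 1, 0, 2, 1, 0), (0, 1, 0, 1, 2, 0), (0, 1, 0, 1, 2, 0), (0, 1, 0, 1, 1, 1), (0, 1, 0, 2, 1, 0)]] : Fin 5 → Fin 12 → Inf) k (ix q)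

theorem pres1 : ∀ a : Inf,
    monomialMap g1 c1 (wdp a) = wdp (info (monomialMap g1 c1 (wdp a))) := by
  decide +kernel

theorem pres2 : ∀ a : Inf,
    monomialMap g2 c2 (wdp a) = wdp (info (monomialMap g2 c2 (wdp a))) := by
  decide +kernel

theorem chain : ∀ k : Fin 5, ∀ q : ArrayPt, (∀ i : Fin 5, i < k → q ≠ pp i) →
    welt k q (pp k) = q ∧ ∀ i : Fin 5, i < k → welt k q (pp i) = pp i := by
  decide +kernel

theorem base_facts : wt (wdp t0) = 6 ∧ (∀ i : Fin 5, pp i ∈ h0) ∧ p6 ∈ h0 ∧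
    (∀ z : ArrayPt, z ∈ h0 → z = p6 ∨ ∃ i : Fin 5, z = pp i) ∧ (∀ i : Fin 5, p6 ≠ pp i) ∧
      ∀ i j : Fin 5, pp i = pp j → i = j := by
  decide +kernel

theorem par_facts1 : ∀ k : Fin 5, Fk k ⊆ h0 ∧ (Fk k).card = 4 := by
  decide +kernel

theorem par_facts2 : ∀ k : Fin 5, ∀ x : ArrayPt, x ∉ h0 →
    wt (wdp (wit k x)) = 6 ∧ par k x ∉ h0 ∧ par k x ≠ x := by
  decide +kernel

theorem par_facts3 : ∀ k : Fin 5, ∀ x : ArrayPt, x ∉ h0 → ∀ z : ArrayPt,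
    z ∈ ternarySupport (wdp (wit k x)) ↔ (z = x ∨ z = par k x ∨ z ∈ Fk k) := by
  decide +kernel

theorem sep_facts : ∀ x y : ArrayPt, x ∉ h0 → y ∉ h0 → x ≠ y →
    ∃ k1 k2 : Fin 5, par k1 x = par k2 x ∧ par k1 y ≠ par k2 y := by
  decide +kernel

theorem neg_ne : ∀ u : (ZMod 3)ˣ, -u ≠ u := by decide

end Cfsg.Agent.Lib.Helper26.M12Data
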