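-- S5323: the McLaughlin group is isomorphic to the stabiliser of `v0`, `w0` in Co0 and that
-- stabiliser has order 898128000 (helper26; the transport lemmas follow helper27's McLOut, restated
-- here so that only the light part of helper27's library is needed).
import Mathlib
import Cfsg.Prelude.Def_Sporadic_a
import Cfsg.Prelude.Def_Spor_Conway
import Cfsg.Agent.Lib.Helper27.CoGlue
import Cfsg.Agent.Lib.Helper27.CoStd
import Cfsg.Agent.Lib.Helper27.SimpGlue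
import Cfsg.Agent.Lib.Helper27.SimpleCrit
import Cfsg.Agent.Lib.Helper27.SimpMcL

set_option autoImplicit false
set_option maxRecDepth 100000

namespace Cfsg.Agent.Lib.Helper26.McLIso

open Cfsg Cfsg.Agent.Lib.Helper27.Bits Cfsg.Agent.Lib.Helper27.Pk
open Cfsg.Agent.Lib.Helper27.MinTab Cfsg.Agent.Lib.Helper27.MinEnum Cfsg.Agent.Lib.Helper27.MinFast
open Cfsg.Agent.Lib.Helper27.MinAll Cfsg.Agent.Lib.Helper27.LDot Cfsg.Agent.Lib.Helper27.LMat
open Cfsg.Agent.Lib.Helper27.Spread Cfsg.Agent.Lib.Helper27.Co0Act Cfsg.Agent.Lib.Helper27.LApp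
open Cfsg.Agent.Lib.Helper27.OrbCert Cfsg.Agent.Lib.Helper27.CoGlue
open Cfsg.Agent.Lib.Helper27.CertBase
open Cfsg.Agent.Lib.Helper27.CoStd Cfsg.Agent.Lib.Helper27.SimpGlue
open Cfsg.Agent.Lib.Helper27.SimpleCrit
open Cfsg.Agent.Lib.Helper27.SimpMcL
open MulAction

/-- the stabiliser of `v0` and `w0` -/
abbrev MG : Subgroup Co0 := stabilizer Co0 v0 ⊓ stabilizer Co0 w0

theorem normU : sqNorm (Cfsg.Spor.leechU : GolayPt → ℤ) = 32 := by
  show sqNorm Cfsg.Spor.vecU = 32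
  unfold sqNorm
  rw [Fintype.sum_option]
  simp [Cfsg.Spor.vecU]

theorem normW : sqNorm ((-(Cfsg.Spor.leechV + Cfsg.Spor.leechU) : leechLattice) : GolayPt → ℤ)
    = 32 := by
  show sqNorm (-(Cfsg.Spor.vecV + Cfsg.Spor.vecU)) = 32
  unfold sqNorm
  rw [Fintype.sum_option]
  have h : ∀ x : ZMod 23, (-(Cfsg.Spor.vecV + Cfsg.Spor.vecU)) (some x) ^ 2
      = if x = 0 then 9 else 1 := by
    intro x
    by_cases hx : x = 0 <;> simp [Cfsg.Spor.vecU, Cfsg.Spor.vecV, hx]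
  simp only [h]
  simp [Cfsg.Spor.vecU, Cfsg.Spor.vecV, Finset.sum_ite, Finset.filter_eq', Finset.filter_ne']

theorem dotUW : dotInt (Cfsg.Spor.leechU : GolayPt → ℤ)
    ((-(Cfsg.Spor.leechV + Cfsg.Spor.leechU) : leechLattice) : GolayPt → ℤ) = -8 := by
  show dotInt Cfsg.Spor.vecU (-(Cfsg.Spor.vecV + Cfsg.Spor.vecU)) = -8
  unfold dotInt
  rw [Fintype.sum_option]
  simp [Cfsg.Spor.vecU, Cfsg.Spor.vecV]

/-- The McLaughlin group as a subgroup of the automorphism group of the lattice. -/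
def mclE : ↥Cfsg.Spor.McL ≃*
    ↥(stabilizer Co0 Cfsg.Spor.leechV ⊓ stabilizer Co0 Cfsg.Spor.leechU) where
  toFun a := ⟨⟨a.1, a.2.1.1⟩, ⟨mem_stabilizer_iff.mpr (mem_stabilizer_iff.mp a.2.1.2),
    mem_stabilizer_iff.mpr (mem_stabilizer_iff.mp a.2.2)⟩⟩
  invFun b := ⟨b.1.1, ⟨⟨b.1.2, mem_stabilizer_iff.mpr (mem_stabilizer_iff.mp b.2.1)⟩,
    mem_stabilizer_iff.mpr (mem_stabilizer_iff.mp b.2.2)⟩⟩
  left_inv _ := rfl
  right_inv _ := rfl
  map_mul' _ _ := rfl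

theorem conjMem (g0 : Co0) (h1 : g0 • Cfsg.Spor.leechU = v0)
    (h2 : g0 • (-(Cfsg.Spor.leechV + Cfsg.Spor.leechU)) = w0) (x : Co0) :
    x ∈ stabilizer Co0 Cfsg.Spor.leechV ⊓ stabilizer Co0 Cfsg.Spor.leechU ↔
      g0 * x * g0⁻¹ ∈ MG := by
  rw [mem_mcl, conj_fix g0 x h1, conj_fix g0 x h2, Subgroup.mem_inf, mem_stabilizer_iff,
    mem_stabilizer_iff, smul_neg_l, smul_add_l, neg_inj]
  constructor
  · rintro ⟨a, b⟩
    exact ⟨b, by rw [a, b]⟩
  · rintro ⟨a, b⟩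
    rw [a] at b
    exact ⟨add_right_cancel b, a⟩

/-- the McLaughlin group is isomorphic to the stabiliser of `v0`, `w0` -/
theorem mcl_iso : Nonempty (↥Cfsg.Spor.McL ≃* ↥MG) := by
  obtain ⟨g0, h1, h2⟩ := std_min Cfsg.Spor.leechU (-(Cfsg.Spor.leechV + Cfsg.Spor.leechU))
    normU normW dotUW
  exact ⟨mclE.trans (conjEquiv (stabilizer Co0 Cfsg.Spor.leechV ⊓ stabilizer Co0 Cfsg.Spor.leechU)
      MG g0 (conjMem g0 h1 h2))⟩

theorem card_MG : Nat.card ↥MG = 898128000 := card_mcl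

instance finite_MG : Finite ↥MG :=
  Nat.finite_of_card_ne_zero (by rw [card_MG]; norm_num)

end Cfsg.Agent.Lib.Helper26.McLIso
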