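-- S5323: kernel checks for the Sylow 2-subgroup data (helper26).
import Mathlib
import Cfsg.Agent.Lib.Helper27.SlpLib
import Cfsg.Agent.Lib.Helper26.McLFusStmt
import Cfsg.Agent.Lib.Helper26.McLSylData

set_option autoImplicit false
set_option maxRecDepth 100000

namespace Cfsg.Agent.Lib.Helper26.McLSylChk

open Cfsg Cfsg.Agent.Lib.Helper27.Bits Cfsg.Agent.Lib.Helper27.Pk
open Cfsg.Agent.Lib.Helper27.MinTab Cfsg.Agent.Lib.Helper27.MinEnum Cfsg.Agent.Lib.Helper27.MinFast
open Cfsg.Agent.Lib.Helper27.MinAll Cfsg.Agent.Lib.Helper27.LDot Cfsg.Agent.Lib.Helper27.LMat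
open Cfsg.Agent.Lib.Helper27.Spread Cfsg.Agent.Lib.Helper27.Co0Act Cfsg.Agent.Lib.Helper27.LApp
open Cfsg.Agent.Lib.Helper27.OrbCert Cfsg.Agent.Lib.Helper27.CoGlue
open Cfsg.Agent.Lib.Helper27.Invol Cfsg.Agent.Lib.Helper27.Faith
open Cfsg.Agent.Lib.Helper27.SlpLib Cfsg.Agent.Lib.Helper27.CertBase
open Cfsg.Agent.Lib.Helper26.McLFusStmt Cfsg.Agent.Lib.Helper26.McLSylData

theorem cA : matChk nA.1 nA.2 = true := by decide +kernel
theorem cB : matChk nB.1 nB.2 = true := by decide +kernel
theorem cC : matChk nC.1 nC.2 = true := by decide +kernel
theorem cG1 : matChk nG1.1 nG1.2 = true := by decide +kernel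
theorem cG2 : matChk nG2.1 nG2.2 = true := by decide +kernel
theorem cG3 : matChk nG3.1 nG3.2 = true := by decide +kernel
theorem cG27 : matChk nG27.1 nG27.2 = true := by decide +kernel
theorem cG36 : matChk nG36.1 nG36.2 = true := by decide +kernel
theorem cG123 : matChk nG123.1 nG123.2 = true := by decide +kernel

theorem aA : actOK nA pA = true := by decide +kernel
theorem aB : actOK nB pB = true := by decide +kernel
theorem aC : actOK nC pC = true := by decide +kernel
theorem aG1 : actOK nG1 pG1 = true := by decide +kernel
theorem aG2 : actOK nG2 pG2 = true := by decide +kernel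
theorem aG3 : actOK nG3 pG3 = true := by decide +kernel
theorem aG27 : actOK nG27 pG27 = true := by decide +kernel
theorem aG36 : actOK nG36 pG36 = true := by decide +kernel
theorem aG123 : actOK nG123 pG123 = true := by decide +kernel

theorem fA : fixOK nA = true := by decide +kernel
theorem fB : fixOK nB = true := by decide +kernel
theorem fC : fixOK nC = true := by decide +kernel
theorem fG1 : fixOK nG1 = true := by decide +kernel
theorem fG2 : fixOK nG2 = true := by decide +kernel
theorem fG3 : fixOK nG3 = true := by decide +kernel
theorem fG27 : fixOK nG27 = true := by decide +kernel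
theorem fG36 : fixOK nG36 = true := by decide +kernel
theorem fG123 : fixOK nG123 = true := by decide +kernel

/-- the identity code is the identity -/
theorem chkI : allB 22 (fun j => Nat.beq (pg pI j) j) = true := by decide +kernel

/-- the codes of the validity of the 22 vectors -/
theorem chkXK : allB 22 (fun j => Nat.blt (XK j) KTOT && validK (XK j)) = true := by decide +kernel

/-- the 22 vectors are distinct -/
theorem chkXinj : allB 22 (fun i => allB 22 (fun j => Nat.beq i j ||
    !(allB 24 (fun k => Nat.beq (lanesB (XV i) k) (lanesB (XV j) k))))) = true := by decide +kernel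

/-- the spanning certificate -/
theorem spanX : spanOK rX cpX cmX 72 = true := by decide +kernel

/-- the table of permutations is the table of the words -/
theorem chkPC : allB 128 (fun a => allB 22 (fun j => Nat.beq (pev DW (WT a) j) (pg (PC a) j))) = true := by
  decide +kernel

/-- the multiplication table on the permutations -/
theorem chkMul : allB 128 (fun a => allB 128 (fun b => Nat.blt (TT a b) 128 &&
    allB 22 (fun j => Nat.beq (pg (PC a) (pg (PC b) j)) (pg (PC (TT a b)) j)))) = true := by
  decide +kernel

/-- distinct indices have distinct permutations -/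
theorem chkInj : allB 128 (fun a => allB 128 (fun b => Nat.beq a b ||
    !(allB 22 (fun j => Nat.beq (pg (PC a) j) (pg (PC b) j))))) = true := by decide +kernel

/-- every index has an inverse -/
theorem chkInv : allB 128 (fun a => !(allB 128 (fun b => !(Nat.beq (TT a b) 0)))) = true := by
  decide +kernel

/-- the word of the identity -/
theorem chkW0 : WT 0 = 0 := by decide +kernel

/-- the conjugators: `G * f 22 = f r * G` on the permutations -/
noncomputable def conjOK (p r : ℕ) : Bool :=
  allB 22 (fun j => Nat.beq (pg p (pg (PC 22) j)) (pg (PC r) (pg p j)))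

theorem kG1 : conjOK pG1 1 = true := by decide +kernel
theorem kG2 : conjOK pG2 2 = true := by decide +kernel
theorem kG3 : conjOK pG3 3 = true := by decide +kernel
theorem kG27 : conjOK pG27 27 = true := by decide +kernel
theorem kG36 : conjOK pG36 36 = true := by decide +kernel
theorem kG123 : conjOK pG123 123 = true := by decide +kernel

theorem chkT : (Nat.beq (TT 22 22) 0) = true := by decide +kernel

end Cfsg.Agent.Lib.Helper26.McLSylChk
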