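-- S5323: a Sylow 2-subgroup of the stabiliser of `v0`, `w0` in Co0, enumerated with the
-- multiplication table `TT`, and the fusion of its involutions (helper26).
import Mathlib
import Cfsg.Agent.Lib.Helper27.SlpLib
import Cfsg.Agent.Lib.Helper27.SimpMcL
import Cfsg.Agent.Lib.Helper26.McLFusStmt
import Cfsg.Agent.Lib.Helper26.McLSylData
import Cfsg.Agent.Lib.Helper26.McLSylChk

set_option autoImplicit false
set_option maxRecDepth 100000

namespace Cfsg.Agent.Lib.Helper26.McLSyl

open Cfsg Cfsg.Agent.Lib.Helper27.Bits Cfsg.Agent.Lib.Helper27.Pk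
open Cfsg.Agent.Lib.Helper27.MinTab Cfsg.Agent.Lib.Helper27.MinEnum Cfsg.Agent.Lib.Helper27.MinFast
open Cfsg.Agent.Lib.Helper27.MinAll Cfsg.Agent.Lib.Helper27.LDot Cfsg.Agent.Lib.Helper27.LMat
open Cfsg.Agent.Lib.Helper27.Spread Cfsg.Agent.Lib.Helper27.Co0Act Cfsg.Agent.Lib.Helper27.LApp
open Cfsg.Agent.Lib.Helper27.OrbCert Cfsg.Agent.Lib.Helper27.CoGlue
open Cfsg.Agent.Lib.Helper27.Invol Cfsg.Agent.Lib.Helper27.Faith
open Cfsg.Agent.Lib.Helper27.SlpLib Cfsg.Agent.Lib.Helper27.CertBase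
open Cfsg.Agent.Lib.Helper27.CoStd Cfsg.Agent.Lib.Helper27.SimpMcL
open Cfsg.Agent.Lib.Helper26.McLFusStmt Cfsg.Agent.Lib.Helper26.McLSylData
open Cfsg.Agent.Lib.Helper26.McLSylChk
open MulAction

/-- the stabiliser of `v0` and `w0` -/
abbrev MG : Subgroup Co0 := stabilizer Co0 v0 ⊓ stabilizer Co0 w0

/-! ### The 22 vectors -/

theorem XK_ok (j : ℕ) (hj : j < 22) : XK j < KTOT ∧ validK (XK j) = true := by
  have h := (allB_iff _ _).mp chkXK j hj
  rw [Bool.and_eq_true] at h
  exact ⟨Nat.blt_eq.mp h.1, h.2⟩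

theorem xmem (j : ℕ) (hj : j < 22) : vecB (XV j) ∈ leechLattice :=
  (min_vec rfl (XK_ok j hj).1 (XK_ok j hj).2).1

/-- the vector `4 e_1 + 4 e_(j+2)` of the lattice -/
noncomputable def xv (j : ℕ) : leechLattice :=
  if h : j < 22 then ⟨vecB (XV j), xmem j h⟩ else v0

theorem xv_val (j : ℕ) (hj : j < 22) : ((xv j : leechLattice) : GolayPt → ℤ) = vecB (XV j) := by
  unfold xv
  rw [dif_pos hj]

theorem xv_inj (i j : ℕ) (hi : i < 22) (hj : j < 22) (h : xv i = xv j) : i = j := by
  have h1 : vecB (XV i) = vecB (XV j) := by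
    rw [← xv_val i hi, ← xv_val j hj, h]
  have h2 := vecL_inj h1
  have h3 := (allB_iff _ _).mp ((allB_iff _ _).mp chkXinj i hi) j hj
  rw [Bool.or_eq_true] at h3
  rcases h3 with h3 | h3
  · exact Nat.eq_of_beq_eq_true h3
  · exfalso
    have h4 : allB 24 (fun k => Nat.beq (lanesB (XV i) k) (lanesB (XV j) k)) = true := by
      rw [allB_iff]
      intro k hk
      rw [h2 k hk]
      exact Nat.beq_refl _
    rw [h4] at h3
    exact Bool.noConfusion h3

/-! ### Automorphisms permuting the 22 vectors -/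

/-- `g` permutes the 22 vectors as the map `c` of indices -/
def Acts (g : Co0) (c : ℕ → ℕ) : Prop := ∀ j < 22, c j < 22 ∧ g • xv j = xv (c j)

theorem acts_one : Acts 1 (fun j => j) := fun j hj => ⟨hj, one_smul _ _⟩

theorem acts_mul {g h : Co0} {c d : ℕ → ℕ} (hg : Acts g c) (hh : Acts h d) :
    Acts (g * h) (fun j => c (d j)) := by
  intro j hj
  obtain ⟨h1, h2⟩ := hh j hj
  obtain ⟨h3, h4⟩ := hg (d j) h1
  exact ⟨h3, by rw [mul_smul, h2, h4]⟩

theorem acts_congr {g : Co0} {c d : ℕ → ℕ} (hg : Acts g c) (hcd : ∀ j < 22, c j = d j) :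
    Acts g d := by
  intro j hj
  obtain ⟨h1, h2⟩ := hg j hj
  rw [← hcd j hj]
  exact ⟨h1, h2⟩

theorem acts_of {N : ℕ × ℕ} (h : matChk N.1 N.2 = true) {p : ℕ} (hp : actOK N p = true) :
    Acts (elt N h) (pg p) := by
  intro j hj
  have h1 := (allB_iff _ _).mp hp j hj
  simp only [Bool.and_eq_true] at h1
  obtain ⟨⟨⟨a1, a2⟩, a3⟩, a4⟩ := h1
  have hlt : pg p j < 22 := Nat.blt_eq.mp a1
  refine ⟨hlt, ?_⟩
  apply Subtype.ext
  rw [elt_app h a2 a3 a4 (xv j) (xv_val j hj), xv_val _ hlt]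

theorem mem_of {N : ℕ × ℕ} (h : matChk N.1 N.2 = true) (hf : fixOK N = true) :
    elt N h ∈ MG := by
  unfold fixOK at hf
  simp only [Bool.and_eq_true] at hf
  obtain ⟨⟨⟨a1, a2⟩, a3⟩, a4⟩ := hf
  exact (mem_mcl _).mpr ⟨elt_fix h a1 a2 v0 rfl, elt_fix h a3 a4 w0 rfl⟩

theorem zeroX (z : GolayPt → ℤ) (hz : ∀ i < 24, dotInt (vecB (rX i)) z = 0) : z = 0 :=
  span_zero rX cpX cmX 72 (by decide) spanX z hz

theorem rX_lt (i : ℕ) (hi : i < 22) : rX i = XV i := by
  unfold rX
  rw [Nat.blt_eq.mpr hi]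
  rfl

/-- two elements of the stabiliser of `v0`, `w0` that permute the 22 vectors in the same way are
equal -/
theorem acts_inj {g h : Co0} (hg : g ∈ MG) (hh : h ∈ MG) {c : ℕ → ℕ} (ag : Acts g c)
    (ah : Acts h c) : g = h := by
  have h1 : h⁻¹ * g = 1 := by
    apply eq_one_of_fix rX zeroX
    intro i hi
    by_cases h22 : i < 22
    · refine ⟨xv i, ?_, ?_⟩
      · rw [xv_val i h22, rX_lt i h22]
      · rw [mul_smul, inv_smul_eq_iff, (ag i h22).2, (ah i h22).2]
    · by_cases h23 : i = 22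
      · subst h23
        refine ⟨v0, rfl, ?_⟩
        rw [mul_smul, inv_smul_eq_iff, ((mem_mcl g).mp hg).1, ((mem_mcl h).mp hh).1]
      · have h24 : i = 23 := by omega
        subst h24
        refine ⟨w0, rfl, ?_⟩
        rw [mul_smul, inv_smul_eq_iff, ((mem_mcl g).mp hg).2, ((mem_mcl h).mp hh).2]
  exact (inv_mul_eq_one.mp h1).symm

/-! ### The generators and the words -/

noncomputable def eA : Co0 := elt nA cA
noncomputable def eB : Co0 := elt nB cB
noncomputable def eC : Co0 := elt nC cC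

/-- the element of a letter -/
noncomputable def gen (k : ℕ) : Co0 :=
  if k = 1 then eA else if k = 2 then eB else if k = 3 then eC else 1

theorem gen_acts (k : ℕ) : Acts (gen k) (pg (gp k)) := by
  unfold gen gp
  by_cases h1 : k = 1
  · subst h1
    exact acts_of cA aA
  · by_cases h2 : k = 2
    · subst h2
      exact acts_of cB aB
    · by_cases h3 : k = 3
      · subst h3
        exact acts_of cC aC
      · rw [if_neg h1, if_neg h2, if_neg h3]
        have e1 : Nat.beq k 1 = false := by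
          cases hb : Nat.beq k 1 with
          | false => rfl
          | true => exact absurd (Nat.eq_of_beq_eq_true hb) h1
        have e2 : Nat.beq k 2 = false := by
          cases hb : Nat.beq k 2 with
          | false => rfl
          | true => exact absurd (Nat.eq_of_beq_eq_true hb) h2
        have e3 : Nat.beq k 3 = false := by
          cases hb : Nat.beq k 3 with
          | false => rfl
          | true => exact absurd (Nat.eq_of_beq_eq_true hb) h3
        rw [e1, e2, e3]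
        refine acts_congr acts_one (fun j hj => ?_)
        exact (Nat.eq_of_beq_eq_true ((allB_iff _ _).mp chkI j hj)).symm

theorem gen_mem (k : ℕ) : gen k ∈ MG := by
  unfold gen
  split_ifs
  · exact mem_of cA fA
  · exact mem_of cB fB
  · exact mem_of cC McLSylChk.fC
  · exact MG.one_mem

/-- the element of a packed word -/
noncomputable def ev : ℕ → ℕ → Co0
  | 0, _ => 1
  | n + 1, w => gen (w % 4) * ev n (w / 4)

theorem pev_zero (w j : ℕ) : pev 0 w j = j := rfl

theorem pev_succ (n w j : ℕ) : pev (n + 1) w j = pg (gp (w % 4)) (pev n (w / 4) j) := rfl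

theorem ev_acts (n w : ℕ) : Acts (ev n w) (pev n w) := by
  induction n generalizing w with
  | zero => exact acts_congr acts_one (fun j _ => (pev_zero w j).symm)
  | succ n ih =>
    exact acts_congr (acts_mul (gen_acts (w % 4)) (ih (w / 4)))
      (fun j _ => (pev_succ n w j).symm)

theorem ev_mem (n w : ℕ) : ev n w ∈ MG := by
  induction n generalizing w with
  | zero => exact MG.one_mem
  | succ n ih => exact MG.mul_mem (gen_mem _) (ih _)

theorem ev_zero (n : ℕ) : ev n 0 = 1 := by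
  induction n with
  | zero => rfl
  | succ n ih =>
    show gen (0 % 4) * ev n (0 / 4) = 1
    rw [Nat.zero_mod, Nat.zero_div, ih, mul_one]
    unfold gen
    simp

/-! ### The enumeration -/

/-- the element of index `a` -/
noncomputable def fC (a : ℕ) : Co0 := ev DW (WT a)

theorem fC_mem (a : ℕ) : fC a ∈ MG := ev_mem _ _

theorem fC_acts (a : ℕ) (ha : a < 128) : Acts (fC a) (pg (PC a)) :=
  acts_congr (ev_acts DW (WT a)) (fun j hj =>
    Nat.eq_of_beq_eq_true ((allB_iff _ _).mp ((allB_iff _ _).mp chkPC a ha) j hj))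

theorem fC_one : fC 0 = 1 := by
  unfold fC
  rw [chkW0]
  exact ev_zero _

theorem TT_lt (a b : ℕ) (ha : a < 128) (hb : b < 128) : TT a b < 128 := by
  have h := (allB_iff _ _).mp ((allB_iff _ _).mp chkMul a ha) b hb
  rw [Bool.and_eq_true] at h
  exact Nat.blt_eq.mp h.1

theorem fC_mul (a b : ℕ) (ha : a < 128) (hb : b < 128) : fC a * fC b = fC (TT a b) := by
  have h := (allB_iff _ _).mp ((allB_iff _ _).mp chkMul a ha) b hb
  rw [Bool.and_eq_true] at h
  refine acts_inj (MG.mul_mem (fC_mem a) (fC_mem b)) (fC_mem _)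
    (acts_congr (acts_mul (fC_acts a ha) (fC_acts b hb)) (fun j hj => ?_))
    (fC_acts _ (TT_lt a b ha hb))
  exact Nat.eq_of_beq_eq_true ((allB_iff _ _).mp h.2 j hj)

theorem fC_inj (a b : ℕ) (ha : a < 128) (hb : b < 128) (h : fC a = fC b) : a = b := by
  have h3 := (allB_iff _ _).mp ((allB_iff _ _).mp chkInj a ha) b hb
  rw [Bool.or_eq_true] at h3
  rcases h3 with h3 | h3
  · exact Nat.eq_of_beq_eq_true h3
  · exfalso
    have h4 : allB 22 (fun j => Nat.beq (pg (PC a) j) (pg (PC b) j)) = true := by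
      rw [allB_iff]
      intro j hj
      obtain ⟨a1, a2⟩ := fC_acts a ha j hj
      obtain ⟨b1, b2⟩ := fC_acts b hb j hj
      rw [h, b2] at a2
      rw [xv_inj _ _ b1 a1 a2]
      exact Nat.beq_refl _
    rw [h4] at h3
    exact Bool.noConfusion h3

theorem inv_ex (a : ℕ) (ha : a < 128) : ∃ b < 128, TT a b = 0 := by
  have h := (allB_iff _ _).mp chkInv a ha
  by_contra hcon
  push_neg at hcon
  have h2 : allB 128 (fun b => !(Nat.beq (TT a b) 0)) = true := by
    rw [allB_iff]
    intro b hb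
    cases hbb : Nat.beq (TT a b) 0 with
    | false => rfl
    | true => exact absurd (Nat.eq_of_beq_eq_true hbb) (hcon b hb)
  rw [h2] at h
  exact Bool.noConfusion h

/-- the element of index `a` in the stabiliser of `v0`, `w0` -/
noncomputable def fM (a : ℕ) : ↥MG := ⟨fC a, fC_mem a⟩

theorem fM_one : fM 0 = 1 := Subtype.ext fC_one

theorem fM_mul (a b : ℕ) (ha : a < 128) (hb : b < 128) : fM a * fM b = fM (TT a b) :=
  Subtype.ext (fC_mul a b ha hb)

theorem fM_inj (a b : ℕ) (ha : a < 128) (hb : b < 128) (h : fM a = fM b) : a = b :=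
  fC_inj a b ha hb (congrArg Subtype.val h)

/-- the Sylow 2-subgroup -/
noncomputable def S0 : Subgroup ↥MG where
  carrier := {g | ∃ a < 128, fM a = g}
  mul_mem' := by
    rintro _ _ ⟨a, ha, rfl⟩ ⟨b, hb, rfl⟩
    exact ⟨TT a b, TT_lt a b ha hb, (fM_mul a b ha hb).symm⟩
  one_mem' := ⟨0, by norm_num, fM_one⟩
  inv_mem' := by
    rintro _ ⟨a, ha, rfl⟩
    obtain ⟨b, hb, hab⟩ := inv_ex a ha
    refine ⟨b, hb, ?_⟩
    have h1 : fM a * fM b = 1 := by rw [fM_mul a b ha hb, hab, fM_one]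
    exact eq_inv_of_mul_eq_one_right h1

theorem fM_mem (a : ℕ) (ha : a < 128) : fM a ∈ S0 := ⟨a, ha, rfl⟩

theorem mem_S0 (g : ↥MG) : g ∈ S0 ↔ ∃ a < 128, fM a = g := Iff.rfl

/-- the enumeration of the Sylow 2-subgroup -/
noncomputable def fS (a : ℕ) : ↥S0 := if h : a < 128 then ⟨fM a, fM_mem a h⟩ else 1

theorem fS_val (a : ℕ) (ha : a < 128) : ((fS a : ↥S0) : ↥MG) = fM a := by
  unfold fS
  rw [dif_pos ha]

theorem enumS : Enum ↥S0 fS where
  one := Subtype.ext (by rw [fS_val 0 (by norm_num), fM_one]; rfl)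
  mul := by
    intro a ha b hb
    apply Subtype.ext
    rw [Subgroup.coe_mul, fS_val a ha, fS_val b hb, fS_val _ (TT_lt a b ha hb), fM_mul a b ha hb]
  inj := by
    intro a ha b hb h
    have h1 := congrArg Subtype.val h
    rw [fS_val a ha, fS_val b hb] at h1
    exact fM_inj a b ha hb h1
  surj := by
    rintro ⟨g, a, ha, rfl⟩
    exact ⟨a, ha, Subtype.ext (fS_val a ha)⟩

theorem card_S0 : Nat.card ↥S0 = 2 ^ 7 := by
  have hb : Function.Bijective (fun i : Fin 128 => fS i.1) := by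
    constructor
    · intro i j h
      exact Fin.ext (enumS.inj i.1 i.2 j.1 j.2 h)
    · intro g
      obtain ⟨a, ha, rfl⟩ := enumS.surj g
      exact ⟨⟨a, ha⟩, rfl⟩
  rw [← Nat.card_congr (Equiv.ofBijective _ hb), Nat.card_fin]
  norm_num

/-! ### The fusion of the involutions -/

theorem conj_of {N : ℕ × ℕ} (h : matChk N.1 N.2 = true) (hf : fixOK N = true) {p : ℕ}
    (hp : actOK N p = true) (r : ℕ) (hr : r < 128) (hk : conjOK p r = true) :
    ∃ g : ↥MG, g * fM 22 * g⁻¹ = fM r := by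
  have h1 : elt N h * fC 22 = fC r * elt N h := by
    refine acts_inj (MG.mul_mem (mem_of h hf) (fC_mem _)) (MG.mul_mem (fC_mem _) (mem_of h hf))
      (acts_congr (acts_mul (acts_of h hp) (fC_acts 22 (by norm_num))) (fun j hj => ?_))
      (acts_mul (fC_acts r hr) (acts_of h hp))
    exact Nat.eq_of_beq_eq_true ((allB_iff _ _).mp hk j hj)
  refine ⟨⟨elt N h, mem_of h hf⟩, ?_⟩
  have h2 : (⟨elt N h, mem_of h hf⟩ : ↥MG) * fM 22 = fM r * ⟨elt N h, mem_of h hf⟩ :=
    Subtype.ext h1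
  rw [h2, mul_inv_cancel_right]

theorem conj_rep (r : ℕ) (hr : r ∈ ([1, 2, 3, 22, 27, 36, 123] : List ℕ)) :
    ∃ g : ↥MG, g * fM 22 * g⁻¹ = fM r := by
  simp only [List.mem_cons, List.mem_nil_iff, or_false] at hr
  rcases hr with rfl | rfl | rfl | rfl | rfl | rfl | rfl
  · exact conj_of cG1 fG1 aG1 1 (by norm_num) kG1
  · exact conj_of cG2 fG2 aG2 2 (by norm_num) kG2
  · exact conj_of cG3 fG3 aG3 3 (by norm_num) kG3
  · exact ⟨1, by rw [one_mul, inv_one, mul_one]⟩
  · exact conj_of cG27 fG27 aG27 27 (by norm_num) kG27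
  · exact conj_of cG36 fG36 aG36 36 (by norm_num) kG36
  · exact conj_of cG123 fG123 aG123 123 (by norm_num) kG123

theorem t_sq : fM 22 * fM 22 = 1 := by
  rw [fM_mul 22 22 (by norm_num) (by norm_num), Nat.eq_of_beq_eq_true chkT, fM_one]

theorem t_ne : fM 22 ≠ 1 := by
  intro h
  rw [← fM_one] at h
  exact absurd (fM_inj 22 0 (by norm_num) (by norm_num) h) (by norm_num)

end Cfsg.Agent.Lib.Helper26.McLSyl
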