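-- S5323: the 2-fusion system of a group isomorphic to the McLaughlin group is simple (helper26).
-- Assembles the concrete Sylow 2-subgroup (McLSyl), the order and the isomorphism (McLIso, on
-- helper27's library) and the pieces of helper7 (AUTABS, AUTODD, GENINV, INVCLS), helper60
-- (NORMINN) and helper84 (CRIT).
import Mathlib
import Cfsg.Agent.Lib.Helper26.McLFusStmt
import Cfsg.Agent.Lib.Helper26.McLSyl
import Cfsg.Agent.Lib.Helper26.McLIso
import Cfsg.Agent.Lib.Helper26.J3Abs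
import Cfsg.Agent.Lib.Helper7.McLFusAUTABS
import Cfsg.Agent.Lib.Helper7.McLFusAUTODD
import Cfsg.Agent.Lib.Helper7.McLFusGENINV
import Cfsg.Agent.Lib.Helper7.McLFusINVCLS
import Cfsg.Agent.Lib.Helper60.McLFusNORMINN
import Cfsg.Agent.Lib.Helper84.McLFusCRIT

set_option autoImplicit false

namespace Cfsg.Agent.Lib.Helper26.McLFusMain

open Cfsg.Agent.Lib.Helper26.McLFusStmt Cfsg.Agent.Lib.Helper26.McLSyl

theorem not_dvd : ¬ 2 ^ (7 + 1) ∣ Nat.card ↥MG := by
  rw [Cfsg.Agent.Lib.Helper26.McLIso.card_MG]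
  norm_num

theorem fM_inv (s s' : ℕ) (hs : s < 128) (hs' : s' < 128) (h : TT s s' = 0) :
    (fM s)⁻¹ = fM s' := by
  have h1 : fM s * fM s' = 1 := by rw [fM_mul s s' hs hs', h, fM_one]
  exact (eq_inv_of_mul_eq_one_right h1).symm

theorem conj_all (u : ↥MG) (hu : u * u = 1) (hne : u ≠ 1) :
    ∃ g : ↥MG, g * fM 22 * g⁻¹ = u := by
  haveI : Fact (Nat.Prime 2) := ⟨Nat.prime_two⟩
  have ho : orderOf u = 2 := orderOf_eq_prime (by rw [pow_two]; exact hu) hne
  have hQ : IsPGroup 2 (Subgroup.zpowers u) :=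
    IsPGroup.of_card (n := 1) (by rw [Nat.card_zpowers, ho, pow_one])
  obtain ⟨c, hc⟩ := Cfsg.Agent.Lib.Helper26.J3Abs.exists_conj_le S0 7 card_S0 not_dvd _ hQ
  obtain ⟨a, ha, hfa⟩ := (mem_S0 _).mp (hc u (Subgroup.mem_zpowers u))
  have ha0 : a ≠ 0 := by
    rintro rfl
    rw [fM_one] at hfa
    apply hne
    have h1 : u = c⁻¹ * (c * u * c⁻¹) * c := by group
    rw [h1, ← hfa]
    group
  have haa : TT a a = 0 := by
    have h1 : fM a * fM a = 1 := by
      rw [hfa]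
      have h2 : c * u * c⁻¹ * (c * u * c⁻¹) = c * (u * u) * c⁻¹ := by group
      rw [h2, hu]
      group
    rw [fM_mul a a ha ha, ← fM_one] at h1
    exact fM_inj _ _ (TT_lt a a ha ha) (by norm_num) h1
  obtain ⟨s, hs, s', hs', r, hr, h1, h2⟩ :=
    Cfsg.Agent.Lib.Helper7.McLFusINVCLS.main a ha ha0 haa
  obtain ⟨g, hg⟩ := conj_rep r hr
  have hr128 : r < 128 := by
    simp only [List.mem_cons, List.mem_nil_iff, or_false] at hr
    rcases hr with rfl | rfl | rfl | rfl | rfl | rfl | rfl <;> norm_num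
  refine ⟨c⁻¹ * fM s * g, ?_⟩
  have h3 : fM s * fM r * fM s' = fM a := by
    rw [fM_mul s r hs hr128, fM_mul _ s' (TT_lt s r hs hr128) hs', h2]
  have h4 : (fM s)⁻¹ = fM s' := fM_inv s s' hs hs' h1
  have h5 : u = c⁻¹ * fM a * c := by
    rw [hfa]
    group
  rw [h5, ← h3, ← h4, ← hg]
  group

theorem gen_S (T : Subgroup ↥MG) (hT : ∀ u ∈ S0, u * u = 1 → u ∈ T) : S0 ≤ T := by
  intro x hx
  obtain ⟨a, ha, rfl⟩ := (mem_S0 x).mp hx
  have h := Cfsg.Agent.Lib.Helper7.McLFusGENINV.main ↥S0 fS enumS (T.subgroupOf S0)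
    (fun b hb hbb => by
      rw [Subgroup.mem_subgroupOf, fS_val b hb]
      exact hT _ (fM_mem b hb) (by rw [fM_mul b b hb hb, hbb, fM_one])) a ha
  rw [Subgroup.mem_subgroupOf, fS_val a ha] at h
  exact h

theorem norm_S (n : ↥MG) (hn : n ∈ Subgroup.normalizer (S0 : Set ↥MG)) :
    ∃ s ∈ S0, ∀ x ∈ S0, n * x * n⁻¹ = s * x * s⁻¹ :=
  Cfsg.Agent.Lib.Helper60.McLFusNORMINN.main ↥MG S0 7 card_S0 not_dvd
    (fun α m hm h => Cfsg.Agent.Lib.Helper7.McLFusAUTODD.main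
      Cfsg.Agent.Lib.Helper7.McLFusAUTABS.main ↥S0 fS enumS α m hm h) n hn

theorem data : Data S0 (fM 22) where
  t_sq := t_sq
  t_ne := t_ne
  t_mem := fM_mem 22 (by norm_num)
  conj := conj_all
  gen_S := gen_S
  norm := norm_S

/-- the 2-fusion system of a group isomorphic to the McLaughlin group is simple -/
theorem main {G : Type*} [Group G] [Finite G] (hG : Cfsg.Spor.IsoMcL G) (S : Sylow 2 G) :
    (Cfsg.groupFusionSystem (S : Subgroup G)).IsSimple 2 := by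
  obtain ⟨e⟩ := hG
  obtain ⟨e2⟩ := Cfsg.Agent.Lib.Helper26.McLIso.mcl_iso
  exact Cfsg.Agent.Lib.Helper84.McLFusCRIT.main ↥MG S0 (fM 22) data 7 card_S0 not_dvd G
    ⟨e.trans e2⟩ S

end Cfsg.Agent.Lib.Helper26.McLFusMain
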