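import Mathlib
import Cfsg.Agent.Lib.Helper45.OMiStmt
import Cfsg.Agent.Lib.Helper26.OMiFIXNDM

/-! S5991 piece TOPNDM (helper26, second seat): the standard minus form is nondegenerate
(`q` odd, `z₁² + a z₁ z₂ + b z₂²` anisotropic). -/

set_option autoImplicit false

namespace Cfsg.Agent.Lib.Helper26.OMiTOPNDM

open Cfsg.Agent.Lib.Helper45
open scoped Matrix

universe u

theorem main : OMiStmt.TopNDM.{u} := by
  intro F _ _ hodd d a b hab
  classical
  have h2 : (2 : F) ≠ 0 := by
    apply Ring.two_ne_zero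
    intro hc
    have h3 := FiniteField.even_card_of_char_two hc
    have h4 := Nat.odd_iff.mp hodd
    omega
  have key : ∀ v : OMiStmt.M d → F, v ≠ 0 → ∃ w : OMiStmt.M d → F,
      QuadraticMap.polar (Cfsg.quadFormMinus (d - 1) F a b) w v ≠ 0 := by
    intro v hv
    have hex : ∃ j, v j ≠ 0 := by
      by_contra hno
      push Not at hno
      exact hv (funext hno)
    obtain ⟨j, hj⟩ := hex
    rcases j with (i | i) | j
    · refine ⟨Pi.single (Sum.inl (Sum.inr i)) 1, ?_⟩
      rw [OMiFIXNDM.polar_eq_dot, single_dotProduct, one_mul]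
      simpa [OMiFIXNDM.Jm] using hj
    · refine ⟨Pi.single (Sum.inl (Sum.inl i)) 1, ?_⟩
      rw [OMiFIXNDM.polar_eq_dot, single_dotProduct, one_mul]
      simpa [OMiFIXNDM.Jm] using hj
    · by_cases h0 : 2 * v (.inr 0) + a * v (.inr 1) = 0
      · by_cases h1 : a * v (.inr 0) + 2 * b * v (.inr 1) = 0
        · exfalso
          have hbin : v (.inr 0) ^ 2 + a * v (.inr 0) * v (.inr 1) + b * v (.inr 1) ^ 2 = 0 := by
            have h5 : 2 * (v (.inr 0) ^ 2 + a * v (.inr 0) * v (.inr 1)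
                + b * v (.inr 1) ^ 2) = 0 := by
              linear_combination v (.inr 0) * h0 + v (.inr 1) * h1
            exact (mul_eq_zero.mp h5).resolve_left h2
          obtain ⟨hz0, hz1⟩ := hab _ _ hbin
          have h6 : ∀ j : Fin 2, v (.inr j) = 0 := by
            rw [Fin.forall_fin_two]; exact ⟨hz0, hz1⟩
          exact hj (h6 j)
        · refine ⟨Pi.single (Sum.inr 1) 1, ?_⟩
          rw [OMiFIXNDM.polar_eq_dot, single_dotProduct, one_mul]
          simpa [OMiFIXNDM.Jm] using h1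
      · refine ⟨Pi.single (Sum.inr 0) 1, ?_⟩
        rw [OMiFIXNDM.polar_eq_dot, single_dotProduct, one_mul]
        simpa [OMiFIXNDM.Jm] using h0
  intro v _ hv0
  obtain ⟨w, hw⟩ := key v hv0
  refine ⟨⟨w, Submodule.mem_top, hw⟩, ⟨w, Submodule.mem_top, ?_⟩⟩
  rw [OMiFIXNDM.polar_symm]
  exact hw

end Cfsg.Agent.Lib.Helper26.OMiTOPNDM
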