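import Cfsg.Agent.Lib.Helper7.M24Octad2
import Cfsg.Agent.Lib.Helper7.GolayCount

/-!
The stabiliser of an octad in the group of the length-24 code: its order, the restriction
homomorphism to the symmetric group of the octad, its kernel and its image (the alternating
group).
-/

set_option autoImplicit false

namespace Cfsg.Agent.Lib.Helper26.OctadStab

open Cfsg Cfsg.Agent.Lib.Helper7.M24Main Cfsg.Agent.Lib.Helper7.M24Octad
  Cfsg.Agent.Lib.Helper7.M24Octad2 Cfsg.Agent.Lib.Helper7.GolayCount
open scoped Pointwise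

/-- the stabiliser in the group of the code of a set of points, as a subgroup of the
permutation group -/
def stab (o : Finset GolayPt) : Subgroup (Equiv.Perm GolayPt) :=
  M24 ⊓ MulAction.stabilizer (Equiv.Perm GolayPt) o

theorem mem_stab {o : Finset GolayPt} {g : Equiv.Perm GolayPt} :
    g ∈ stab o ↔ g ∈ M24 ∧ g • o = o := Iff.rfl

theorem apply_mem_iff {o : Finset GolayPt} {g : Equiv.Perm GolayPt} (h : g • o = o)
    (x : GolayPt) : g x ∈ o ↔ x ∈ o := by
  conv_lhs => rw [← h]
  exact Finset.smul_mem_smul_finset_iff g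

theorem smul_eq_of_apply_mem_iff {o : Finset GolayPt} {g : Equiv.Perm GolayPt}
    (h : ∀ x, g x ∈ o ↔ x ∈ o) : g • o = o := by
  ext y
  rw [← Finset.inv_smul_mem_iff, ← h (g⁻¹ • y)]
  simp

/-- restriction of the stabiliser of a set to the set -/
def resHom (o : Finset GolayPt) : ↥(stab o) →* Equiv.Perm ↥o where
  toFun g := (g : Equiv.Perm GolayPt).subtypePerm (fun x => apply_mem_iff g.2.2 x)
  map_one' := rfl
  map_mul' _ _ := rfl

theorem resHom_apply (o : Finset GolayPt) (g : ↥(stab o)) (y : ↥o) :
    ((resHom o g y : ↥o) : GolayPt) = (g : Equiv.Perm GolayPt) y := rfl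

/-- the pointwise stabiliser of a set in the group of the code -/
def fix (o : Finset GolayPt) : Subgroup (Equiv.Perm GolayPt) :=
  M24 ⊓ fixingSubgroup (Equiv.Perm GolayPt) (o : Set GolayPt)

theorem mem_fix {o : Finset GolayPt} {g : Equiv.Perm GolayPt} :
    g ∈ fix o ↔ g ∈ M24 ∧ ∀ y ∈ o, g y = y := by
  unfold fix
  rw [Subgroup.mem_inf, mem_fixingSubgroup_iff]
  rfl

theorem fix_le_stab (o : Finset GolayPt) : fix o ≤ stab o := by
  intro g hg
  rw [mem_fix] at hg
  refine ⟨hg.1, smul_eq_of_apply_mem_iff fun x => ?_⟩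
  constructor
  · intro hx
    have h1 := hg.2 _ hx
    have h2 : g x = x := g.injective h1
    rw [← h2]
    exact hx
  · intro hx
    rw [hg.2 x hx]
    exact hx

theorem ker_resHom (o : Finset GolayPt) : (resHom o).ker = (fix o).subgroupOf (stab o) := by
  ext g
  rw [MonoidHom.mem_ker, Subgroup.mem_subgroupOf, mem_fix]
  constructor
  · intro h
    refine ⟨g.2.1, fun y hy => ?_⟩
    have h1 : ((resHom o g ⟨y, hy⟩ : ↥o) : GolayPt) = y := by rw [h]; rfl
    exact h1
  · rintro ⟨-, h⟩
    apply Equiv.ext
    rintro ⟨y, hy⟩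
    apply Subtype.ext
    exact h y hy

theorem card_stab {o : Finset GolayPt} (ho : o ∈ octads) : Nat.card ↥(stab o) = 322560 := by
  have h1 : (MulAction.stabilizer M24 o).index = 759 := by
    rw [MulAction.index_stabilizer]
    have h : MulAction.orbit M24 o = octads := by
      ext t
      constructor
      · rintro ⟨g, rfl⟩
        exact smul_mem_octads g.2 ho
      · intro ht
        obtain ⟨g, hg, rfl⟩ := octad_transitive ho ht
        exact ⟨⟨g, hg⟩, rfl⟩
    rw [h, ncard_octads]
  have h2 := Subgroup.card_mul_index (MulAction.stabilizer M24 o)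
  rw [h1, card_M24] at h2
  have h3 : Nat.card ↥(MulAction.stabilizer M24 o) = 322560 := by omega
  have e : ↥(MulAction.stabilizer M24 o) ≃ ↥(stab o) :=
    { toFun := fun x => ⟨(x : M24), ⟨(x : M24).2, x.2⟩⟩
      invFun := fun y => ⟨⟨y, y.2.1⟩, y.2.2⟩
      left_inv := fun x => rfl
      right_inv := fun y => rfl }
  rw [← Nat.card_congr e, h3]

theorem card_fix {o : Finset GolayPt} (ho : o ∈ octads) : Nat.card ↥(fix o) = 16 :=
  (octad_fix ho).1

theorem sq_of_mem_fix {o : Finset GolayPt} (ho : o ∈ octads) {g : Equiv.Perm GolayPt}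
    (hg : g ∈ fix o) : g * g = 1 :=
  (octad_fix ho).2 g hg

theorem card_range_resHom {o : Finset GolayPt} (ho : o ∈ octads) :
    Nat.card (resHom o).range = 20160 := by
  have h1 := Subgroup.index_ker (resHom o)
  have h2 := Subgroup.card_mul_index (resHom o).ker
  have h3 : Nat.card (resHom o).ker = 16 := by
    rw [ker_resHom, Nat.card_congr (Subgroup.subgroupOfEquivOfLe (fix_le_stab o)).toEquiv]
    exact card_fix ho
  rw [h1, h3, card_stab ho] at h2
  omega

/-- The stabiliser of an octad induces the alternating group on the octad. -/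
theorem range_resHom {o : Finset GolayPt} (ho : o ∈ octads) :
    (resHom o).range = alternatingGroup ↥o := by
  apply Equiv.Perm.eq_alternatingGroup_of_index_eq_two
  have h1 := Subgroup.card_mul_index (resHom o).range
  rw [card_range_resHom ho] at h1
  have h2 : Nat.card (Equiv.Perm ↥o) = 40320 := by
    rw [Nat.card_eq_fintype_card, Fintype.card_perm, Fintype.card_coe, ho.2]
    rfl
  omega

end Cfsg.Agent.Lib.Helper26.OctadStab
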