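import Mathlib
import Cfsg.Agent.Lib.Helper1.PDStmt

/-!
# S4020 piece QUOT (helper1's call), helper26

(D) passes to quotients: a `q`-subgroup of `G ⧸ N` is the image of a Sylow `q`-subgroup of its
preimage, whose order depends only on the order of the subgroup.
-/

set_option autoImplicit false

namespace Cfsg.Agent.Lib.Helper26.PDQUOT

universe u

open Cfsg.Agent.Lib.Helper1.PDStmt

/-- a `q`-subgroup of `G ⧸ N` is the image of a `q`-subgroup of `G` of a prescribed order -/
theorem lift {G : Type u} [Group G] [Finite G] (N : Subgroup G) [N.Normal] (q : ℕ)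
    [Fact q.Prime] (Hb : Subgroup (G ⧸ N)) (hHb : IsPGroup q ↥Hb) :
    ∃ H₀ : Subgroup G, IsPGroup q ↥H₀ ∧ H₀.map (QuotientGroup.mk' N) = Hb ∧
      Nat.card ↥H₀ = q ^ (Nat.card ↥(Hb.comap (QuotientGroup.mk' N))).factorization q := by
  have hsurj : Function.Surjective (QuotientGroup.mk' N) := QuotientGroup.mk'_surjective N
  have hf : Function.Surjective ((QuotientGroup.mk' N).subgroupComap Hb) :=
    (QuotientGroup.mk' N).subgroupComap_surjective_of_surjective Hb hsurj
  obtain ⟨S⟩ : Nonempty (Sylow q ↥(Hb.comap (QuotientGroup.mk' N))) := Sylow.nonempty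
  have htop : (⊤ : Subgroup ↥Hb) =
      (S : Subgroup ↥(Hb.comap (QuotientGroup.mk' N))).map
        ((QuotientGroup.mk' N).subgroupComap Hb) := by
    have h1 := (S.mapSurjective hf).3 (Q := ⊤) (hHb.to_subgroup ⊤) le_top
    rw [h1]
    rfl
  refine ⟨(S : Subgroup ↥(Hb.comap (QuotientGroup.mk' N))).map
    (Hb.comap (QuotientGroup.mk' N)).subtype, S.isPGroup'.map _, ?_, ?_⟩
  · ext x
    rw [Subgroup.mem_map]
    constructor
    · rintro ⟨y, hy, rfl⟩
      rw [Subgroup.mem_map] at hy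
      obtain ⟨s, -, rfl⟩ := hy
      exact s.2
    · intro hx
      have h2 : (⟨x, hx⟩ : ↥Hb) ∈ (S : Subgroup ↥(Hb.comap (QuotientGroup.mk' N))).map
          ((QuotientGroup.mk' N).subgroupComap Hb) := by
        rw [← htop]
        exact Subgroup.mem_top _
      rw [Subgroup.mem_map] at h2
      obtain ⟨s, hs, hfs⟩ := h2
      exact ⟨(s : G), Subgroup.mem_map.mpr ⟨s, hs, rfl⟩, congrArg Subtype.val hfs⟩
  · rw [Subgroup.card_map_of_injective (Subgroup.subtype_injective _), Sylow.card_eq_multiplicity]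

/-- preimages of subgroups of equal order have equal order -/
theorem card_comap {G : Type u} [Group G] [Finite G] (N : Subgroup G) [N.Normal]
    (Hb Kb : Subgroup (G ⧸ N)) (h : Nat.card ↥Hb = Nat.card ↥Kb) :
    Nat.card ↥(Hb.comap (QuotientGroup.mk' N)) = Nat.card ↥(Kb.comap (QuotientGroup.mk' N)) := by
  have hsurj : Function.Surjective (QuotientGroup.mk' N) := QuotientGroup.mk'_surjective N
  have h1 := Subgroup.card_mul_index (Hb.comap (QuotientGroup.mk' N))
  have h2 := Subgroup.card_mul_index (Kb.comap (QuotientGroup.mk' N))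
  rw [Subgroup.index_comap_of_surjective Hb hsurj] at h1
  rw [Subgroup.index_comap_of_surjective Kb hsurj] at h2
  have h3 := Subgroup.card_mul_index Hb
  have h4 := Subgroup.card_mul_index Kb
  have hi : Hb.index = Kb.index := by
    have h5 : Nat.card ↥Hb * Hb.index = Nat.card ↥Hb * Kb.index := by rw [h3, h, h4]
    exact Nat.eq_of_mul_eq_mul_left Nat.card_pos h5
  have hpos : 0 < Kb.index := Nat.pos_of_ne_zero Subgroup.index_ne_zero_of_finite
  rw [hi] at h1
  exact Nat.eq_of_mul_eq_mul_right hpos (h1.trans h2.symm)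

theorem main : Quot.{u} := by
  intro G _ _ hD N _ q hq Hb Kb hHb hKb hcard
  have : Fact q.Prime := ⟨hq⟩
  obtain ⟨H₀, hH₀p, hH₀, hH₀c⟩ := lift N q Hb hHb
  obtain ⟨K₀, hK₀p, hK₀, hK₀c⟩ := lift N q Kb hKb
  have hc : Nat.card ↥H₀ = Nat.card ↥K₀ := by
    rw [hH₀c, hK₀c, card_comap N Hb Kb hcard]
  obtain ⟨g, hg⟩ := hD q hq H₀ K₀ hH₀p hK₀p hc
  refine ⟨QuotientGroup.mk' N g, ?_⟩
  rw [← hK₀, hg, ← hH₀, Subgroup.map_map, Subgroup.map_map]
  congr 1

end Cfsg.Agent.Lib.Helper26.PDQUOT
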