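import Mathlib
import Cfsg.Agent.Lib.Helper62.S57Stmt

/-!
# S1357 piece NILCOMM (helper62's call), second seat helper26

Elements of coprime orders in a finite nilpotent group commute (via the product decomposition
into Sylow subgroups, `Group.isNilpotent_of_finite_tfae`).
-/

set_option autoImplicit false

namespace Cfsg.Agent.Lib.Helper26.S57NILCOMM

universe u

open Cfsg.Agent.Lib.Helper62.S57Stmt

theorem main : NilComm.{u} := by
  intro F _ _ hN a b hab
  classical
  obtain ⟨e⟩ := ((Group.isNilpotent_of_finite_tfae (G := F)).out 0 4).mp hN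
  apply e.symm.injective
  rw [map_mul, map_mul]
  funext p
  funext P
  have hp : Fact (p : ℕ).Prime := ⟨Nat.prime_of_mem_primeFactors p.2⟩
  obtain ⟨x, hx⟩ : ∃ x : ↥(P : Subgroup F), x = (e.symm a) p P := ⟨_, rfl⟩
  obtain ⟨y, hy⟩ : ∃ y : ↥(P : Subgroup F), y = (e.symm b) p P := ⟨_, rfl⟩
  show (e.symm a) p P * (e.symm b) p P = (e.symm b) p P * (e.symm a) p P
  rw [← hx, ← hy]
  have hxa : x ^ orderOf a = 1 := by
    have h1 : (e.symm a) ^ orderOf a = 1 := by rw [← map_pow, pow_orderOf_eq_one, map_one]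
    have h2 := congrFun (congrFun h1 p) P
    rw [hx]
    exact h2
  have hyb : y ^ orderOf b = 1 := by
    have h1 : (e.symm b) ^ orderOf b = 1 := by rw [← map_pow, pow_orderOf_eq_one, map_one]
    have h2 := congrFun (congrFun h1 p) P
    rw [hy]
    exact h2
  have hcop : (orderOf x).Coprime (orderOf y) :=
    Nat.Coprime.coprime_dvd_left (orderOf_dvd_of_pow_eq_one hxa)
      (Nat.Coprime.coprime_dvd_right (orderOf_dvd_of_pow_eq_one hyb) hab)
  obtain ⟨j, hj⟩ := P.isPGroup' x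
  obtain ⟨l, hl⟩ := P.isPGroup' y
  obtain ⟨j', -, hj'⟩ := (Nat.dvd_prime_pow hp.out).mp (orderOf_dvd_of_pow_eq_one hj)
  obtain ⟨l', -, hl'⟩ := (Nat.dvd_prime_pow hp.out).mp (orderOf_dvd_of_pow_eq_one hl)
  rw [hj', hl'] at hcop
  rcases Nat.eq_zero_or_pos j' with h0 | h0
  · have h1 : x = 1 := by
      rw [← orderOf_eq_one_iff, hj', h0, pow_zero]
    rw [h1, one_mul, mul_one]
  · rcases Nat.eq_zero_or_pos l' with h0' | h0'
    · have h1 : y = 1 := by
        rw [← orderOf_eq_one_iff, hl', h0', pow_zero]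
      rw [h1, one_mul, mul_one]
    · exfalso
      have h2 : (p : ℕ) ∣ Nat.gcd ((p : ℕ) ^ j') ((p : ℕ) ^ l') :=
        Nat.dvd_gcd (dvd_pow_self _ h0.ne') (dvd_pow_self _ h0'.ne')
      rw [Nat.Coprime] at hcop
      rw [hcop] at h2
      exact hp.out.one_lt.ne' (Nat.dvd_one.mp h2)

end Cfsg.Agent.Lib.Helper26.S57NILCOMM
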