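import Mathlib
import Cfsg.Agent.Lib.Helper41.TMTwoStmt

/-! S5987 r = 2 block, piece TM2INVFIX (helper26, second seat; glue): an involution of the minus
form fixes a totally singular `m`-space for every `m ≤ d - 1`. -/

set_option autoImplicit false

namespace Cfsg.Agent.Lib.Helper26.TM2INVFIX

open Cfsg.Agent.Lib.Helper41.TMTwoStmt
open Cfsg.Agent.Lib.Helper45.OMiStmt (M Aniso FxM NDegM StabM TopNDM)
open scoped Matrix

universe u

/-- A subspace of any smaller dimension. -/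
theorem sub_finrank {F : Type u} [Field F] {V : Type*} [AddCommGroup V] [Module F V]
    [FiniteDimensional F V] {W : Submodule F V} {k : ℕ} (hk : k ≤ Module.finrank F W) :
    ∃ W' ≤ W, Module.finrank F W' = k := by
  set b := Module.finBasis F W with hb
  set f : Fin k → V := fun i => (b (Fin.castLE hk i) : V) with hf
  refine ⟨Submodule.span F (Set.range f), ?_, ?_⟩
  · rw [Submodule.span_le]
    rintro _ ⟨i, rfl⟩
    exact (b _).2
  · have h1 : LinearIndependent F (fun i => (b i : V)) :=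
      b.linearIndependent.map' W.subtype (Submodule.ker_subtype W)
    have hli : LinearIndependent F f := h1.comp _ (Fin.castLE_injective hk)
    rw [finrank_span_eq_card hli, Fintype.card_fin]

lemma mem_FmM' {F : Type u} [Field F] {d : ℕ} (x : Matrix (M d) (M d) F) (w : M d → F)
    (hw : w ∈ FmM x) : x *ᵥ w = -w := by
  unfold FmM at hw
  rw [LinearMap.mem_ker, LinearMap.add_apply, LinearMap.id_apply, Matrix.toLin'_apply] at hw
  exact eq_neg_of_add_eq_zero_left hw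

lemma stab_of_le_Fx {F : Type u} [Field F] {d : ℕ} {x : Matrix (M d) (M d) F}
    {W : Submodule F (M d → F)} (h : W ≤ FxM x) : StabM x W := by
  intro v hv
  obtain ⟨w, hw, rfl⟩ := Submodule.mem_map.mp hv
  have h1 := (Cfsg.Agent.Lib.Helper45.OMiStmt.mem_FxM x w).mp (h hw)
  rw [Matrix.toLin'_apply, h1]
  exact hw

lemma stab_of_le_Fm {F : Type u} [Field F] {d : ℕ} {x : Matrix (M d) (M d) F}
    {W : Submodule F (M d → F)} (h : W ≤ FmM x) : StabM x W := by
  intro v hv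
  obtain ⟨w, hw, rfl⟩ := Submodule.mem_map.mp hv
  have h1 := mem_FmM' x w (h hw)
  rw [Matrix.toLin'_apply, h1]
  exact W.neg_mem hw

lemma stab_sup {F : Type u} [Field F] {d : ℕ} {x : Matrix (M d) (M d) F}
    {W₁ W₂ : Submodule F (M d → F)} (h1 : StabM x W₁) (h2 : StabM x W₂) :
    StabM x (W₁ ⊔ W₂) := by
  unfold StabM at *
  rw [Submodule.map_sup]
  exact sup_le_sup h1 h2

theorem main (hDec : InvDec.{u}) (hBig : TsBig.{u}) (hTwo : TwoMinus.{u}) : InvFix.{u} := by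
  intro F _ _ hodd d m hmd a b hab x hx hx2
  have hd1 : 1 ≤ d := by omega
  obtain ⟨hFxnd, hFmnd, horth, hinf, hdim, hsup⟩ := hDec F hodd d hd1 a b hab x hx hx2
  have hex : ∃ U₁ U₂ : Submodule F (M d → F),
      U₁ ≤ FxM (x : Matrix (M d) (M d) F) ∧ TSubM d F a b U₁ ∧
      U₂ ≤ FmM (x : Matrix (M d) (M d) F) ∧ TSubM d F a b U₂ ∧
      d ≤ Module.finrank F ↥U₁ + Module.finrank F ↥U₂ + 1 := by
    obtain ⟨U₁, hU₁, hU₁ts, hU₁dim⟩ := hBig F hodd d a b (FxM (x : Matrix (M d) (M d) F))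
    obtain ⟨U₂, hU₂, hU₂ts, hU₂dim⟩ := hBig F hodd d a b (FmM (x : Matrix (M d) (M d) F))
    rcases Nat.even_or_odd (Module.finrank F ↥(FxM (x : Matrix (M d) (M d) F))) with hev | hod
    · rcases hTwo F hodd d hd1 a b hab _ _ hFxnd hFmnd horth hsup hev with
        ⟨U, hU, hUts, hUdim⟩ | ⟨U, hU, hUts, hUdim⟩
      · exact ⟨U, U₂, hU, hUts, hU₂, hU₂ts, by omega⟩
      · exact ⟨U₁, U, hU₁, hU₁ts, hU, hUts, by omega⟩
    · obtain ⟨c, hc⟩ := hod
      exact ⟨U₁, U₂, hU₁, hU₁ts, hU₂, hU₂ts, by omega⟩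
  obtain ⟨U₁, U₂, hU₁, hU₁ts, hU₂, hU₂ts, hsum⟩ := hex
  obtain ⟨U₁', hU₁', hU₁'dim⟩ := sub_finrank (W := U₁)
    (k := min m (Module.finrank F ↥U₁)) (min_le_right _ _)
  obtain ⟨U₂', hU₂', hU₂'dim⟩ := sub_finrank (W := U₂)
    (k := m - min m (Module.finrank F ↥U₁)) (by
      rcases Nat.le_total m (Module.finrank F ↥U₁) with h | h
      · rw [Nat.min_eq_left h]; omega
      · rw [Nat.min_eq_right h]; omega)
  have hinf' : U₁' ⊓ U₂' = ⊥ := by
    rw [eq_bot_iff, ← hinf]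
    exact inf_le_inf (hU₁'.trans hU₁) (hU₂'.trans hU₂)
  unfold FixTSM
  refine ⟨U₁' ⊔ U₂', ?_, ?_,
    stab_sup (stab_of_le_Fx (hU₁'.trans hU₁)) (stab_of_le_Fm (hU₂'.trans hU₂))⟩
  · have h := Submodule.finrank_sup_add_finrank_inf_eq U₁' U₂'
    rw [hinf', finrank_bot, hU₁'dim, hU₂'dim] at h
    have h3 := min_le_left m (Module.finrank F ↥U₁)
    omega
  · intro w hw
    obtain ⟨u, hu, v, hv, rfl⟩ := Submodule.mem_sup.mp hw
    have hpol := horth u (hU₁ (hU₁' hu)) v (hU₂ (hU₂' hv))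
    have h1 : Cfsg.quadFormMinus (d - 1) F a b u = 0 := hU₁ts u (hU₁' hu)
    have h2 : Cfsg.quadFormMinus (d - 1) F a b v = 0 := hU₂ts v (hU₂' hv)
    unfold QuadraticMap.polar at hpol
    rw [h1, h2, sub_zero, sub_zero] at hpol
    exact hpol

end Cfsg.Agent.Lib.Helper26.TM2INVFIX
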