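import Mathlib
import Cfsg.Agent.Lib.Helper41.TMTwoStmt

/-! S5987 r = 2 block, piece TM2SQNEG3 (helper26, second seat): induction from SqNegTS. -/

set_option autoImplicit false

namespace Cfsg.Agent.Lib.Helper26.TM2SQNEG3

open Cfsg.Agent.Lib.Helper41.TMTwoStmt
open Cfsg.Agent.Lib.Helper45.OMiStmt (M Aniso FxM NDegM StabM TopNDM)
open scoped Matrix

universe u

theorem main (hTS : SqNegTS.{u}) : SqNeg3.{u} := by
  intro F _ _ hq d m a b hm hmd x hx hxx
  have key : ∀ s : ℕ, 2 * s + 1 ≤ d → ∃ W : Submodule F (M d → F),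
      StabM (x : Matrix (M d) (M d) F) W ∧ TSubM d F a b W ∧ Module.finrank F ↥W = 2 * s := by
    intro s
    induction s with
    | zero =>
      intro _
      refine ⟨⊥, ?_, ?_, by simp⟩
      · unfold StabM
        simp
      · intro w hw
        rw [Submodule.mem_bot] at hw
        rw [hw]
        simp [Cfsg.quadFormMinus]
    | succ s ih =>
      intro hs
      obtain ⟨W, hWst, hWts, hWdim⟩ := ih (by omega)
      obtain ⟨W', hW'st, hW'ts, hW'dim⟩ := hTS F hq d a b x hx hxx W hWst hWts (by omega)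
      exact ⟨W', hW'st, hW'ts, by omega⟩
  obtain ⟨s, hs⟩ := hm
  obtain ⟨W, hWst, hWts, hWdim⟩ := key s (by omega)
  unfold FixTSM
  exact ⟨W, by omega, hWts, hWst⟩

end Cfsg.Agent.Lib.Helper26.TM2SQNEG3
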