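import Mathlib
import Cfsg.Agent.Lib.Helper41.TMStmt

/-!
# S5987 piece BADB (helper41's call; minus form), second seat helper26

`i` odd or `b` even, `b cc i < 2 d`: the element of `EltDim` has a fixed space which is not of
plus type (`FxType`), so a totally singular subspace of it has `2 f + 2 ≤ finrank Fx`.
-/

set_option autoImplicit false

namespace Cfsg.Agent.Lib.Helper26.TMBADB

universe u

open Cfsg.Agent.Lib.Helper41.TMStmt
open Cfsg.Agent.Lib.Helper37.HypStmt (cc IPos)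
open Cfsg.Agent.Lib.Helper44.TSStmt (Fac NumTypes)
open Cfsg.Agent.Lib.Helper45.OMiStmt (M Aniso FxM NDegM StabM)
open Cfsg.Agent.Lib.Helper41.TMTwoStmt (TSubM PlusM FixTSM)

theorem even_cc (i : ℕ) : Even (cc i) := by
  unfold cc
  split_ifs with h
  · exact h
  · exact even_two_mul i

theorem main : IPos.{u} → EltDim.{u} → FixND.{u} → FxType.{u} → TsHalf.{u} → RImg.{u} →
    InvDim.{u} → BadB.{u} := by
  intro hIPos hED hFix hFxType hTs hR hInv
  intro F _ _ a₀ b₀ hab p _ _ d m hd r _ hr2 hrp b hb hpar hlt hcond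
  have hipos := hIPos F p r hrp
  obtain ⟨x, hxO, hxr, hxF⟩ :=
    hED F a₀ b₀ hab p d hd r hr2 hrp b hb hlt.le (fun h => absurd h hlt.ne)
  refine ⟨x, hxO, hxr, ?_⟩
  rintro ⟨W, hWm, hWts, hWst⟩
  have hxI : x ∈ Cfsg.isometryGroup F (Cfsg.quadFormMinus (d - 1) F a₀ b₀) := by
    obtain ⟨y, _, hy⟩ := hxO
    rw [← hy]
    exact y.2
  obtain ⟨R, hRW, hRst, hRF, hRdim, -⟩ := hR F a₀ b₀ hab p d r hrp x hxr W hWst
  obtain ⟨k, hk⟩ := hInv F a₀ b₀ hab p d r hrp x hxr R hRst hRF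
  have hND := hFix F a₀ b₀ hab p d r hrp x hxI hxr
  have hhalf := hTs F a₀ b₀ hab d (FxM (x : Matrix (M d) (M d) F))
    (W ⊓ FxM (x : Matrix (M d) (M d) F)) hND inf_le_right (fun w hw => hWts w hw.1)
  have htype := hFxType F a₀ b₀ hab p d r (by omega) hr2 hrp x hxI hxr
  have hnotplus : ¬ PlusM d F a₀ b₀ (FxM (x : Matrix (M d) (M d) F)) := by
    rw [htype, hxF]
    rintro ⟨hev, hodd⟩
    have hcc : cc (orderOf ((Fintype.card F : ℕ) : ZMod r)) =
        orderOf ((Fintype.card F : ℕ) : ZMod r) := by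
      unfold cc
      rw [if_pos hev]
    rw [Nat.sub_sub_self hlt.le, hcc, Nat.mul_div_cancel _ hipos] at hodd
    rcases hpar with h | h
    · exact (Nat.not_even_iff_odd.2 h) hev
    · exact (Nat.not_odd_iff_even.2 h) hodd
  have hne : 2 * Module.finrank F ↥(W ⊓ FxM (x : Matrix (M d) (M d) F)) ≠
      Module.finrank F ↥(FxM (x : Matrix (M d) (M d) F)) := by
    intro h
    exact hnotplus ⟨W ⊓ FxM (x : Matrix (M d) (M d) F), inf_le_right,
      fun w hw => hWts w hw.1, h⟩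
  rw [hxF] at hhalf hne
  rw [hWm] at hRdim
  have hle' : orderOf ((Fintype.card F : ℕ) : ZMod r) * k ≤ m := by
    rw [← hk]
    omega
  have h := hcond k hle'
  rw [← hk] at h
  obtain ⟨t, ht⟩ := (even_cc (orderOf ((Fintype.card F : ℕ) : ZMod r))).mul_left b
  rw [ht] at hhalf hne h hlt
  omega

end Cfsg.Agent.Lib.Helper26.TMBADB
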