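import Mathlib
import Cfsg.Agent.Lib.Helper44.TPStmt

/-! S5973 piece B2EVEN (glue: Nat arithmetic from BadA, BadB, BadC, BadD). -/

set_option autoImplicit false

namespace Cfsg.Agent.Lib.Helper26.TPB2EVEN

open Cfsg.Agent.Lib.Helper44.TPStmt
open Cfsg.Agent.Lib.Helper37.HypStmt (cc IPos)
open Cfsg.Agent.Lib.Helper44.TSStmt (Fac NumTypes)
open scoped Matrix

universe u

theorem main (hIPos : IPos.{u}) (hA : BadA.{u}) (hB : BadB.{u}) (hC : BadC.{u})
    (hD : BadD.{u}) : B2Even.{u} := by
  intro F _ _ p _ _ d m hd hm hmd r _ hr2 hrp heven him hH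
  have hi : 0 < orderOf ((Fintype.card F : ℕ) : ZMod r) := hIPos F p r hrp
  obtain ⟨i, hidef⟩ : ∃ i, i = orderOf ((Fintype.card F : ℕ) : ZMod r) := ⟨_, rfl⟩
  rw [← hidef] at hi heven him hH
  have hcc : cc i = i := if_pos heven
  obtain ⟨N, hN⟩ : ∃ N, N = (2 * d) / i := ⟨_, rfl⟩
  obtain ⟨K, hK⟩ : ∃ K, K = (2 * d) % i := ⟨_, rfl⟩
  obtain ⟨M', hM'⟩ : ∃ M', M' = m / i := ⟨_, rfl⟩
  obtain ⟨L, hL⟩ : ∃ L, L = m % i := ⟨_, rfl⟩
  obtain ⟨t, ht⟩ : ∃ t, t = (r - 1) / i := ⟨_, rfl⟩
  rw [← hN, ← hK, ← hM', ← hL, ← ht] at hH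
  have e1 : i * N + K = 2 * d := by rw [hN, hK]; exact Nat.div_add_mod (2 * d) i
  have e2 : i * M' + L = m := by rw [hM', hL]; exact Nat.div_add_mod m i
  have hKlt : K < i := by rw [hK]; exact Nat.mod_lt _ hi
  have hLlt : L < i := by rw [hL]; exact Nat.mod_lt _ hi
  have hM'pos : 1 ≤ M' := by rw [hM']; exact Nat.div_pos him hi
  have hY1 : i ≤ i * M' := Nat.le_mul_of_pos_right i hM'pos
  have eNi : N * i = i * N := mul_comm _ _
  have h2M' : 2 * M' ≤ N := by
    rw [hN, Nat.le_div_iff_mul_le hi]
    calc 2 * M' * i = 2 * (i * M') := by ring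
      _ ≤ 2 * m := by omega
      _ ≤ 2 * d := by omega
  have hs : ∀ s, i * s ≤ m → L + i * s ≤ m := by
    intro s hs
    have h1 : s ≤ M' := by
      rw [hM', Nat.le_div_iff_mul_le hi, mul_comm]; exact hs
    have h2 : i * s ≤ i * M' := Nat.mul_le_mul_left i h1
    omega
  by_cases hc1 : N < t + 2 * M'
  · -- case 1 : BadC with u = N + 1 - 2 M'
    obtain ⟨u, hu⟩ : ∃ u, u + 2 * M' = N + 1 := ⟨N + 1 - 2 * M', by omega⟩
    have hZ : i * u + 2 * (i * M') = i * N + i := by
      calc i * u + 2 * (i * M') = i * (u + 2 * M') := by ring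
        _ = i * (N + 1) := by rw [hu]
        _ = i * N + i := by ring
    exact hC F p d m hd r hr2 hrp (by rw [← hidef]; exact heven) u (by omega)
      (by rw [← hidef, ← ht]; omega) (by rw [← hidef]; omega) (by rw [← hidef]; omega)
  · have hA' : t + 2 * M' ≤ N := by omega
    rcases Nat.even_or_odd N with hNe | hNo
    · -- case 2 : BadA with b = N
      have hk : K < 2 * L := by
        by_contra hcon
        exact hH ⟨hA', Or.inr (Or.inl ⟨by omega, hNe⟩)⟩
      refine hA F p d m hd r hr2 hrp N (by omega) ?_ ?_ ?_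
      · rw [← hidef, hcc]; omega
      · intro _; exact Or.inr hNe
      · intro s hs'
        rw [← hidef] at hs' ⊢
        rw [hcc]
        have h3 := hs s hs'
        omega
    · by_cases hk0 : 0 < K
      · -- case 3 : BadB with b = N
        have hk : K ≤ 2 * L := by
          by_contra hcon
          exact hH ⟨hA', Or.inr (Or.inr ⟨by omega, hNo⟩)⟩
        refine hB F p d m hd r hr2 hrp (by rw [← hidef]; exact heven) N hNo ?_ ?_
        · rw [← hidef]; omega
        · intro s hs'
          rw [← hidef] at hs' ⊢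
          have h3 := hs s hs'
          omega
      · have hK0 : K = 0 := by omega
        by_cases hl : i < 2 * L
        · -- case 4 : BadA with b = N - 1
          obtain ⟨c, hc⟩ := hNo
          have hZ : (N - 1) * i + i = i * N := by
            have h4 : N - 1 + 1 = N := by omega
            calc (N - 1) * i + i = i * (N - 1 + 1) := by ring
              _ = i * N := by rw [h4]
          refine hA F p d m hd r hr2 hrp (N - 1) (by omega) ?_ ?_ ?_
          · rw [← hidef, hcc]; omega
          · intro _; exact Or.inr ⟨c, by omega⟩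
          · intro s hs'
            rw [← hidef] at hs' ⊢
            rw [hcc]
            have h3 := hs s hs'
            omega
        · -- case 5 : BadD with u = t
          have hteq : t + 2 * M' = N := by
            by_contra hcon
            exact hH ⟨hA', Or.inl ⟨by omega, hK0, hNo, by omega⟩⟩
          obtain ⟨c, hc⟩ := hNo
          have hZ : i * t + 2 * (i * M') = i * N := by
            calc i * t + 2 * (i * M') = i * (t + 2 * M') := by ring
              _ = i * N := by rw [hteq]
          refine hD F p d m hd r hr2 hrp (by rw [← hidef]; exact heven) t ⟨c - M', by omega⟩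
            (le_of_eq (by rw [← hidef, ← ht])) ?_ ?_
          · rw [← hidef]; omega
          · rw [← hidef]; omega

end Cfsg.Agent.Lib.Helper26.TPB2EVEN
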