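import Mathlib
import Cfsg.Agent.Lib.Helper44.TPStmt

/-! S5973 piece G1O (glue): `i` odd, `i ≤ m`, `2 (m % i) ≤ (2 d) % (2 i)`: every isometry of
order `r` fixes a totally singular `m`-space. -/

set_option autoImplicit false

namespace Cfsg.Agent.Lib.Helper26.TPG1O

open Cfsg.Agent.Lib.Helper44.TPStmt
open Cfsg.Agent.Lib.Helper37.HypStmt (cc IPos)
open Cfsg.Agent.Lib.Helper44.TSStmt (Fac NumTypes)
open scoped Matrix

universe u

/-- A subspace of any smaller dimension. -/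
theorem sub_finrank {F : Type u} [Field F] {V : Type*} [AddCommGroup V] [Module F V]
    [FiniteDimensional F V] {W : Submodule F V} {k : ℕ} (hk : k ≤ Module.finrank F W) :
    ∃ W' ≤ W, Module.finrank F W' = k := by
  set b := Module.finBasis F W with hb
  set f : Fin k → V := fun i => (b (Fin.castLE hk i) : V) with hf
  refine ⟨Submodule.span F (Set.range f), ?_, ?_⟩
  · rw [Submodule.span_le]
    rintro _ ⟨i, rfl⟩
    exact (b _).2
  · have h1 : LinearIndependent F (fun i => (b i : V)) :=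
      b.linearIndependent.map' W.subtype (Submodule.ker_subtype W)
    have hli : LinearIndependent F f := h1.comp _ (Fin.castLE_injective hk)
    rw [finrank_span_eq_card hli, Fintype.card_fin]

lemma mem_Fx' {F : Type u} [Field F] {d : ℕ} (x : Matrix (J d) (J d) F) (w : J d → F)
    (hw : w ∈ Fx x) : x.mulVec w = w := by
  unfold Fx at hw
  rw [LinearMap.mem_ker, LinearMap.sub_apply, LinearMap.id_apply, sub_eq_zero,
    Matrix.toLin'_apply] at hw
  exact hw

lemma stab_of_le_Fx {F : Type u} [Field F] {d : ℕ} (x : Matrix (J d) (J d) F)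
    {W : Submodule F (J d → F)} (h : W ≤ Fx x) : Stab x W := by
  intro v hv
  obtain ⟨w, hw, rfl⟩ := Submodule.mem_map.mp hv
  have h1 := mem_Fx' x w (h hw)
  rw [Matrix.toLin'_apply, h1]
  exact hw

lemma stab_sup {F : Type u} [Field F] {d : ℕ} {x : Matrix (J d) (J d) F}
    {W₁ W₂ : Submodule F (J d → F)} (h1 : Stab x W₁) (h2 : Stab x W₂) : Stab x (W₁ ⊔ W₂) := by
  unfold Stab at *
  rw [Submodule.map_sup]
  exact sup_le_sup h1 h2

/-- arithmetic core -/
lemma arith (d m i f β : ℕ) (hn : f + 2 * (i * β) = 2 * d) (hm : m ≤ d)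
    (hl : 2 * (m % i) ≤ (2 * d) % (2 * i)) :
    i * min β (m / i) ≤ i * β ∧ i * min β (m / i) ≤ m ∧ 2 * (m - i * min β (m / i)) ≤ f := by
  have hA : i * (m / i) + m % i = m := Nat.div_add_mod m i
  have hk : (2 * d) % (2 * i) ≤ f := by
    have h2 : 2 * d = f + β * (2 * i) := by rw [← hn]; ring
    rw [h2, Nat.add_mul_mod_self_right]
    exact Nat.mod_le f (2 * i)
  rcases Nat.le_total β (m / i) with h | h
  · rw [Nat.min_eq_left h]
    have hle : i * β ≤ i * (m / i) := Nat.mul_le_mul_left i h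
    refine ⟨le_rfl, by omega, by omega⟩
  · rw [Nat.min_eq_right h]
    have hle : i * (m / i) ≤ i * β := Nat.mul_le_mul_left i h
    refine ⟨hle, by omega, by omega⟩

theorem main (hIPos : IPos.{u}) (hFixND : FixND.{u}) (hPerp : Perp.{u}) (hInvDim : InvDim.{u})
    (hHalf : HalfOdd.{u}) (hInvSub : InvSub.{u}) (hFxType : FxType.{u}) : G1O.{u} := by
  intro F _ _ p _ _ d m hm hmd r _ hr2 hrp hio hile hlt x hxiso hxr
  have hfnd := hFixND F p d r hrp x hxiso hxr
  obtain ⟨E, hEperp, hEnd, hEinf, hEdim, hEstabAll⟩ :=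
    hPerp F d (Fx (x : Matrix (J d) (J d) F)) hfnd
  have hEstab : Stab (x : Matrix (J d) (J d) F) E :=
    hEstabAll x hxiso (stab_of_le_Fx _ le_rfl)
  have hEbot : E ⊓ Fx (x : Matrix (J d) (J d) F) = ⊥ := by rw [inf_comm]; exact hEinf
  obtain ⟨U, hUE, hUstab, hUts, hUdim⟩ :=
    hHalf F p d r hr2 hrp hio x hxiso hxr E hEstab hEnd hEbot
  have hUbot : U ⊓ Fx (x : Matrix (J d) (J d) F) = ⊥ := by
    rw [eq_bot_iff, ← hEbot]
    exact inf_le_inf_right _ hUE
  obtain ⟨β, hβ⟩ := hInvDim F p d r hrp x hxr U hUstab hUbot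
  have hn : Module.finrank F ↥(Fx (x : Matrix (J d) (J d) F)) +
      2 * (orderOf ((Fintype.card F : ℕ) : ZMod r) * β) = 2 * d := by
    rw [← hβ, hUdim]; exact hEdim
  obtain ⟨ha1, ha2, ha3⟩ := arith d m _ _ β hn hmd hlt
  obtain ⟨U', hU'U, hU'stab, hU'dim⟩ := hInvSub F p d r hrp x hxr U hUstab hUbot
    (min β (m / orderOf ((Fintype.card F : ℕ) : ZMod r))) (by rw [hβ]; exact ha1)
  obtain ⟨T, hTFx, hTts, hTdim⟩ := (hFxType F p d r hr2 hrp x hxiso hxr).mpr (Or.inl hio)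
  obtain ⟨W0, hW0T, hW0dim⟩ := sub_finrank (W := T)
    (k := m - orderOf ((Fintype.card F : ℕ) : ZMod r) *
      min β (m / orderOf ((Fintype.card F : ℕ) : ZMod r))) (by omega)
  have hinf : U' ⊓ W0 = ⊥ := by
    rw [eq_bot_iff, ← hEbot]
    exact inf_le_inf (hU'U.trans hUE) (hW0T.trans hTFx)
  unfold FixTS
  refine ⟨U' ⊔ W0, ?_, ?_, stab_sup hU'stab (stab_of_le_Fx _ (hW0T.trans hTFx))⟩
  · have h := Submodule.finrank_sup_add_finrank_inf_eq U' W0
    rw [hinf, finrank_bot, hU'dim, hW0dim] at h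
    omega
  · intro w hw
    obtain ⟨u, hu, w0, hw0, rfl⟩ := Submodule.mem_sup.mp hw
    have hpol := hEperp w0 (hTFx (hW0T hw0)) u (hUE (hU'U hu))
    have h1 : Cfsg.quadFormPlus d F u = 0 := hUts u (hU'U hu)
    have h2 : Cfsg.quadFormPlus d F w0 = 0 := hTts w0 (hW0T hw0)
    unfold QuadraticMap.polar at hpol
    rw [h1, h2, sub_zero, sub_zero] at hpol
    rw [add_comm]
    exact hpol

end Cfsg.Agent.Lib.Helper26.TPG1O
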